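import Mathlib

set_option autoImplicit false

namespace Cfsg.Agent.Lib.Helper94

/-- A finite group of exponent two has additive coordinates over the field with two elements. -/
theorem exists_coords (U : Type*) [Group U] [Finite U] (h2 : ∀ u : U, u * u = 1) :
    ∃ (m : ℕ) (κ : U → Fin m → ZMod 2), Function.Bijective κ ∧ ∀ u v, κ (u * v) = κ u + κ v := by
  classical
  have hcomm : ∀ a b : U, a * b = b * a := by
    intro a b
    have h := h2 (a * b)
    have ha : a⁻¹ = a := inv_eq_of_mul_eq_one_left (h2 a)
    have hb : b⁻¹ = b := inv_eq_of_mul_eq_one_left (h2 b)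
    have hab : (a * b)⁻¹ = a * b := inv_eq_of_mul_eq_one_left h
    calc a * b = (a * b)⁻¹ := hab.symm
      _ = b⁻¹ * a⁻¹ := mul_inv_rev a b
      _ = b * a := by rw [ha, hb]
  let _ : CommGroup U := { (inferInstance : Group U) with mul_comm := hcomm }
  let _ : Module (ZMod 2) (Additive U) := AddCommGroup.zmodModule (n := 2) (by
    intro x
    rw [two_nsmul]
    exact congrArg Additive.ofMul (h2 (Additive.toMul x)))
  have : Finite (Additive U) := inferInstanceAs (Finite U)
  let b := Module.finBasis (ZMod 2) (Additive U)
  refine ⟨_, fun u => b.equivFun (Additive.ofMul u), ?_, ?_⟩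
  · exact b.equivFun.bijective.comp Additive.ofMul.bijective
  · intro u v
    show b.equivFun (Additive.ofMul (u * v)) = _
    rw [ofMul_mul, map_add]

/-- Invertible matrices over the field with two elements are products of elementary
transvections: an induction principle for maps of coordinate vectors. -/
theorem transvection_induction_two {m : ℕ}
    (P : ((Fin m → ZMod 2) → (Fin m → ZMod 2)) → Prop)
    (hid : P id) (hcomp : ∀ f f', P f → P f' → P (f ∘ f'))
    (htr : ∀ i j : Fin m, i ≠ j → P (fun x => x + Pi.single i (x j)))
    (M : Matrix (Fin m) (Fin m) (ZMod 2)) (hM : M.det ≠ 0) : P (fun x => M.mulVec x) := by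
  refine Matrix.diagonal_transvection_induction_of_det_ne_zero
    (fun N => P (fun x => N.mulVec x)) M hM ?_ ?_ ?_
  · intro D hD
    have hD1 : ∀ i, D i = 1 := by
      intro i
      have h0 : D i ≠ 0 := by
        intro h0
        apply hD
        rw [Matrix.det_diagonal]
        exact Finset.prod_eq_zero (Finset.mem_univ i) h0
      have key : ∀ d : ZMod 2, d ≠ 0 → d = 1 := by decide
      exact key _ h0
    have h1 : Matrix.diagonal D = 1 := by
      rw [show D = fun _ => 1 from funext hD1]
      exact Matrix.diagonal_one
    rw [h1]
    have : (fun x : Fin m → ZMod 2 => (1 : Matrix (Fin m) (Fin m) (ZMod 2)).mulVec x) = id := by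
      funext x
      simp
    rw [this]
    exact hid
  · intro t
    obtain ⟨i, j, hij, c⟩ := t
    simp only [Matrix.TransvectionStruct.toMatrix_mk]
    have key : ∀ d : ZMod 2, d = 0 ∨ d = 1 := by decide
    rcases key c with rfl | rfl
    · have : (fun x : Fin m → ZMod 2 => (Matrix.transvection i j (0 : ZMod 2)).mulVec x) = id := by
        funext x
        simp
      rw [this]
      exact hid
    · have : (fun x : Fin m → ZMod 2 => (Matrix.transvection i j (1 : ZMod 2)).mulVec x) =
          fun x => x + Pi.single i (x j) := by
        funext x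
        rw [Matrix.transvection, Matrix.add_mulVec, Matrix.one_mulVec, Matrix.single_mulVec_eq]
        congr 1
        ext k
        simp [Pi.single_apply]
      rw [this]
      exact htr i j hij
  · intro A B _ _ hA hB
    have : (fun x => (A * B).mulVec x) = (fun x => A.mulVec x) ∘ (fun x => B.mulVec x) := by
      funext x
      simp [Matrix.mulVec_mulVec]
    rw [this]
    exact hcomp _ _ hA hB

/-- Every additive bijection of coordinate space over the field with two elements satisfies a
property which holds for the identity and elementary transvections and is closed under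
composition. -/
theorem additive_bijection_induction {m : ℕ}
    (P : ((Fin m → ZMod 2) → (Fin m → ZMod 2)) → Prop)
    (hid : P id) (hcomp : ∀ f f', P f → P f' → P (f ∘ f'))
    (htr : ∀ i j : Fin m, i ≠ j → P (fun x => x + Pi.single i (x j)))
    (F F' : (Fin m → ZMod 2) → (Fin m → ZMod 2))
    (hadd : ∀ x y, F (x + y) = F x + F y) (hadd' : ∀ x y, F' (x + y) = F' x + F' y)
    (hinv : ∀ x, F (F' x) = x) : P F := by
  let f : (Fin m → ZMod 2) →ₗ[ZMod 2] (Fin m → ZMod 2) :=
    AddMonoidHom.toZModLinearMap 2 (AddMonoidHom.mk' F hadd)
  let f' : (Fin m → ZMod 2) →ₗ[ZMod 2] (Fin m → ZMod 2) :=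
    AddMonoidHom.toZModLinearMap 2 (AddMonoidHom.mk' F' hadd')
  have hcompid : f ∘ₗ f' = LinearMap.id := LinearMap.ext (fun x => hinv x)
  have hmat : LinearMap.toMatrix' f * LinearMap.toMatrix' f' = 1 := by
    rw [← LinearMap.toMatrix'_comp, hcompid, LinearMap.toMatrix'_id]
  have hdet : (LinearMap.toMatrix' f).det ≠ 0 := by
    intro h0
    have := congrArg Matrix.det hmat
    rw [Matrix.det_mul, h0, zero_mul, Matrix.det_one] at this
    exact zero_ne_one this
  have key := transvection_induction_two P hid hcomp htr (LinearMap.toMatrix' f) hdet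
  have : (fun x => (LinearMap.toMatrix' f).mulVec x) = F := by
    funext x
    rw [LinearMap.toMatrix'_mulVec]
    rfl
  rw [this] at key
  exact key

end Cfsg.Agent.Lib.Helper94
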