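import Mathlib
import Cfsg.Prelude.Def_Transfer
import Cfsg.Prelude.Def_Solvable

set_option autoImplicit false

namespace Cfsg.Agent.Lib.Helper94

open scoped commutatorElement

theorem pCore_map_equiv_le {K K' : Type*} [Group K] [Group K'] (p : ℕ) (ψ : K ≃* K') :
    (Cfsg.pCore p K).map ψ.toMonoidHom ≤ Cfsg.pCore p K' := by
  rw [Cfsg.pCore, Subgroup.map_le_iff_le_comap]
  apply sSup_le
  rintro N ⟨hN, hp⟩
  rw [← Subgroup.map_le_iff_le_comap]
  apply le_sSup
  exact ⟨hN.map _ ψ.surjective, hp.map _⟩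

/-- The `p`-core is carried to the `p`-core by a group isomorphism. -/
theorem pCore_map_equiv {H H' : Type*} [Group H] [Group H'] (p : ℕ) (φ : H ≃* H') :
    (Cfsg.pCore p H).map φ.toMonoidHom = Cfsg.pCore p H' := by
  apply le_antisymm (pCore_map_equiv_le p φ)
  have h2 := pCore_map_equiv_le p φ.symm
  intro y hy
  have h3 : φ.symm y ∈ Cfsg.pCore p H := h2 (Subgroup.mem_map_of_mem _ hy)
  have h4 := Subgroup.mem_map_of_mem φ.toMonoidHom h3
  simpa using h4

/-- The `2`-core of a subgroup `H` of `G`, viewed inside `G`. -/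
def coreIn {G : Type*} [Group G] (H : Subgroup G) : Subgroup G :=
  (Cfsg.pCore 2 ↥H).map H.subtype

variable {G : Type*} [Group G]

theorem coreIn_le (H : Subgroup G) : coreIn H ≤ H := Subgroup.map_subtype_le _

theorem coreIn_map_conj (H : Subgroup G) (g : G) :
    coreIn (H.map (MulAut.conj g).toMonoidHom) = (coreIn H).map (MulAut.conj g).toMonoidHom := by
  unfold coreIn
  have hinj : Function.Injective (MulAut.conj g).toMonoidHom := (MulAut.conj g).injective
  rw [← pCore_map_equiv 2 (H.equivMapOfInjective (MulAut.conj g).toMonoidHom hinj),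
    Subgroup.map_map, Subgroup.map_map]
  congr 1

theorem centralizer_conj (x g : G) :
    Subgroup.centralizer ({g * x * g⁻¹} : Set G) =
      (Subgroup.centralizer ({x} : Set G)).map (MulAut.conj g).toMonoidHom := by
  ext y
  rw [Subgroup.mem_map_equiv, Subgroup.mem_centralizer_iff, Subgroup.mem_centralizer_iff]
  simp only [Set.mem_singleton_iff, forall_eq, MulAut.conj_symm_apply]
  constructor
  · intro h
    have : g⁻¹ * (g * x * g⁻¹ * y) * g = g⁻¹ * (y * (g * x * g⁻¹)) * g := by rw [h]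
    simpa [mul_assoc] using this
  · intro h
    have : g * (x * (g⁻¹ * y * g)) * g⁻¹ = g * (g⁻¹ * y * g * x) * g⁻¹ := by rw [h]
    simpa [mul_assoc] using this

/-- The largest normal 2-subgroup of the centralizer of `x`, inside `G`. -/
def tc (x : G) : Subgroup G := coreIn (Subgroup.centralizer ({x} : Set G))

theorem tc_conj (x g : G) :
    tc (g * x * g⁻¹) = (tc x).map (MulAut.conj g).toMonoidHom := by
  unfold tc
  rw [centralizer_conj, coreIn_map_conj]

theorem tc_conj_mem {x y : G} (g : G) (hy : y ∈ tc x) : g * y * g⁻¹ ∈ tc (g * x * g⁻¹) := by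
  rw [tc_conj]
  exact Subgroup.mem_map_of_mem (MulAut.conj g).toMonoidHom hy

theorem tc_commute {x y : G} (hy : y ∈ tc x) : y * x = x * y := by
  have h := coreIn_le _ hy
  rw [Subgroup.mem_centralizer_iff] at h
  exact (h x rfl).symm

theorem self_mem_tc {x : G} (hx : x * x = 1) : x ∈ tc x := by
  unfold tc coreIn
  have hxc : x ∈ Subgroup.centralizer ({x} : Set G) := by
    rw [Subgroup.mem_centralizer_iff]; intro h hh; rw [Set.mem_singleton_iff.mp hh]
  refine ⟨⟨x, hxc⟩, ?_, rfl⟩
  have hle : Subgroup.zpowers (⟨x, hxc⟩ : Subgroup.centralizer ({x} : Set G)) ≤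
      Cfsg.pCore 2 ↥(Subgroup.centralizer ({x} : Set G)) := by
    apply le_sSup
    refine ⟨?_, ?_⟩
    · constructor
      intro n hn c
      have hcx : c * ⟨x, hxc⟩ = ⟨x, hxc⟩ * c := by
        apply Subtype.ext
        have := c.2
        rw [Subgroup.mem_centralizer_iff] at this
        exact (this x rfl).symm
      obtain ⟨k, rfl⟩ := Subgroup.mem_zpowers_iff.mp hn
      have : c * (⟨x, hxc⟩ : Subgroup.centralizer ({x} : Set G)) ^ k * c⁻¹ = ⟨x, hxc⟩ ^ k := by
        have hc : Commute c (⟨x, hxc⟩ : Subgroup.centralizer ({x} : Set G)) := hcx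
        rw [(hc.zpow_right k).eq, mul_inv_cancel_right]
      rw [this]
      exact Subgroup.zpow_mem_zpowers _ k
    · rintro ⟨n, hn⟩
      refine ⟨1, ?_⟩
      obtain ⟨k, hk⟩ := Subgroup.mem_zpowers_iff.mp hn
      apply Subtype.ext
      apply Subtype.ext
      simp only [pow_one, Subgroup.coe_pow, Subgroup.coe_one]
      rw [← hk]
      simp only [Subgroup.coe_zpow]
      rw [← zpow_natCast, ← zpow_mul, mul_comm, zpow_mul, zpow_natCast, pow_two, hx, one_zpow]
  exact hle (Subgroup.mem_zpowers _)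


/-- Squares lie in every maximal subgroup of a finite 2-group. -/
theorem sq_mem_coatom {P : Type*} [Group P] [Finite P] (hP : IsPGroup 2 P) {M : Subgroup P}
    (hM : IsCoatom M) (u : P) : u * u ∈ M := by
  have : Fact (Nat.Prime 2) := ⟨Nat.prime_two⟩
  have hnil : Group.IsNilpotent P := hP.isNilpotent
  have hMn : M.Normal :=
    Subgroup.NormalizerCondition.normal_of_coatom M Group.normalizerCondition_of_isNilpotent hM
  by_contra hu
  have hlt : M < M ⊔ Subgroup.zpowers (u * u) := by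
    refine lt_of_le_of_ne le_sup_left ?_
    intro h
    apply hu
    have : Subgroup.zpowers (u * u) ≤ M := by rw [h]; exact le_sup_right
    exact this (Subgroup.mem_zpowers _)
  have htop : M ⊔ Subgroup.zpowers (u * u) = ⊤ := hM.2 _ hlt
  have hmem : u ∈ M ⊔ Subgroup.zpowers (u * u) := by rw [htop]; exact Subgroup.mem_top _
  rw [← SetLike.mem_coe, Subgroup.normal_mul] at hmem
  obtain ⟨m, hm, w, hw, hmw⟩ := Set.mem_mul.mp hmem
  obtain ⟨k, rfl⟩ := Subgroup.mem_zpowers_iff.mp hw
  -- u ^ (1 - 2k) ∈ M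
  have h1 : u ^ (1 - 2 * k) = m := by
    have : (u * u) ^ k = u ^ (2 * k) := by rw [← pow_two, ← zpow_natCast, ← zpow_mul]; rfl
    rw [this] at hmw
    have h0 : u ^ (1 - 2 * k) = u * (u ^ (2 * k))⁻¹ := by rw [zpow_sub, zpow_one]
    rw [h0]
    nth_rewrite 1 [← hmw]
    rw [mul_inv_cancel_right]
  obtain ⟨j, hj⟩ := hP u
  have hcop : IsCoprime (1 - 2 * k) ((2 : ℤ) ^ j) := by
    apply IsCoprime.pow_right
    exact ⟨1, k, by ring⟩
  obtain ⟨a, b, hab⟩ := hcop
  have h2 : u = (u ^ (1 - 2 * k)) ^ a := by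
    have h3 : u ^ (a * (1 - 2 * k) + b * (2 : ℤ) ^ j) = u := by rw [hab, zpow_one]
    rw [zpow_add, zpow_mul' u b, ← Nat.cast_ofNat (n := 2), ← Nat.cast_pow, zpow_natCast, hj, one_zpow,
      mul_one, mul_comm, zpow_mul] at h3
    exact h3.symm
  have hum : u ∈ M := by
    rw [h2, h1]; exact Subgroup.zpow_mem _ hm _
  exact hu (Subgroup.mul_mem _ hum hum)

theorem sq_mem_frattini {P : Type*} [Group P] [Finite P] (hP : IsPGroup 2 P) (u : P) :
    u * u ∈ frattini P := by
  unfold frattini Order.radical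
  simp only [Subgroup.mem_iInf]
  intro M hM
  exact sq_mem_coatom hP hM u

/-- Concrete form of "`P` is an extraspecial 2-group with centre generated by `x`", stated with
elements of the ambient group. -/
structure ExtraAt (P : Subgroup G) (x : G) : Prop where
  mem : x ∈ P
  ne_one : x ≠ 1
  sq : x * x = 1
  central : ∀ u ∈ P, u * x = x * u
  center : ∀ u ∈ P, (∀ v ∈ P, u * v = v * u) → u = 1 ∨ u = x
  comm : ∀ u ∈ P, ∀ v ∈ P, u * v * u⁻¹ * v⁻¹ = 1 ∨ u * v * u⁻¹ * v⁻¹ = x
  sqmem : ∀ u ∈ P, u * u = 1 ∨ u * u = x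

theorem extraAt_of_isExtraspecial [Finite G] (P : Subgroup G) (x : G)
    (hE : Cfsg.IsExtraspecial 2 ↥P) (hx : x ∈ P) (hx1 : x ≠ 1) (hxx : x * x = 1)
    (hc : ∀ u ∈ P, u * x = x * u) : ExtraAt P x := by
  obtain ⟨⟨hP, hfr, hcm⟩, hcard⟩ := hE
  have hxc : (⟨x, hx⟩ : ↥P) ∈ Subgroup.center ↥P := by
    rw [Subgroup.mem_center_iff]
    rintro ⟨u, hu⟩
    apply Subtype.ext
    exact hc u hu
  obtain ⟨y, hy1, hy2⟩ := (Nat.card_eq_two_iff' (1 : Subgroup.center ↥P)).mp hcard
  have hcen : ∀ w : ↥P, w ∈ Subgroup.center ↥P → (w : G) = 1 ∨ (w : G) = x := by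
    intro w hw
    by_cases h1 : (w : G) = 1
    · exact Or.inl h1
    · right
      have hw1 : (⟨w, hw⟩ : Subgroup.center ↥P) ≠ 1 := by
        intro h
        apply h1
        have := congrArg (fun t : Subgroup.center ↥P => ((t : ↥P) : G)) h
        simpa using this
      have hx1' : (⟨⟨x, hx⟩, hxc⟩ : Subgroup.center ↥P) ≠ 1 := by
        intro h
        apply hx1
        have := congrArg (fun t : Subgroup.center ↥P => ((t : ↥P) : G)) h
        simpa using this
      have e1 := hy2 _ hw1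
      have e2 := hy2 _ hx1'
      have := congrArg (fun t : Subgroup.center ↥P => ((t : ↥P) : G)) (e1.trans e2.symm)
      simpa using this
  refine ⟨hx, hx1, hxx, hc, ?_, ?_, ?_⟩
  · intro u hu huc
    apply hcen ⟨u, hu⟩
    rw [Subgroup.mem_center_iff]
    rintro ⟨v, hv⟩
    apply Subtype.ext
    exact (huc v hv).symm
  · intro u hu v hv
    have h : ⁅(⟨u, hu⟩ : ↥P), (⟨v, hv⟩ : ↥P)⁆ ∈ Subgroup.center ↥P := by
      rw [← hcm, commutator_def]
      exact Subgroup.commutator_mem_commutator (Subgroup.mem_top _) (Subgroup.mem_top _)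
    have := hcen _ h
    simpa [commutatorElement_def] using this
  · intro u hu
    have h : (⟨u, hu⟩ : ↥P) * ⟨u, hu⟩ ∈ Subgroup.center ↥P := by
      rw [← hfr]
      exact sq_mem_frattini hP _
    have := hcen _ h
    simpa using this

theorem mem_map_conj_iff (P : Subgroup G) (g y : G) :
    y ∈ P.map (MulAut.conj g).toMonoidHom ↔ g⁻¹ * y * g ∈ P := by
  rw [Subgroup.mem_map_equiv, MulAut.conj_symm_apply]

theorem ExtraAt.conj {P : Subgroup G} {x : G} (h : ExtraAt P x) (g : G) :
    ExtraAt (P.map (MulAut.conj g).toMonoidHom) (g * x * g⁻¹) := by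
  have key : ∀ {a b : G}, g⁻¹ * a * g = b → a = g * b * g⁻¹ := by
    intro a b hab; rw [← hab]; group
  refine ⟨?_, ?_, ?_, ?_, ?_, ?_, ?_⟩
  · rw [mem_map_conj_iff]
    have : g⁻¹ * (g * x * g⁻¹) * g = x := by group
    rw [this]; exact h.mem
  · intro hx
    apply h.ne_one
    have : x = g⁻¹ * (g * x * g⁻¹) * g := by group
    rw [this, hx]; group
  · calc g * x * g⁻¹ * (g * x * g⁻¹) = g * (x * x) * g⁻¹ := by group
      _ = 1 := by rw [h.sq]; group
  · intro u hu
    rw [mem_map_conj_iff] at hu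
    have := h.central _ hu
    calc u * (g * x * g⁻¹) = g * (g⁻¹ * u * g * x) * g⁻¹ := by group
      _ = g * (x * (g⁻¹ * u * g)) * g⁻¹ := by rw [this]
      _ = g * x * g⁻¹ * u := by group
  · intro u hu huc
    rw [mem_map_conj_iff] at hu
    have h1 : ∀ v ∈ P, g⁻¹ * u * g * v = v * (g⁻¹ * u * g) := by
      intro v hv
      have hv' : g * v * g⁻¹ ∈ P.map (MulAut.conj g).toMonoidHom := by
        rw [mem_map_conj_iff]
        have : g⁻¹ * (g * v * g⁻¹) * g = v := by group
        rw [this]; exact hv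
      have := huc _ hv'
      calc g⁻¹ * u * g * v = g⁻¹ * (u * (g * v * g⁻¹)) * g := by group
        _ = g⁻¹ * (g * v * g⁻¹ * u) * g := by rw [this]
        _ = v * (g⁻¹ * u * g) := by group
    rcases h.center _ hu h1 with h2 | h2
    · left
      have := key h2
      rw [this]; group
    · right
      exact key h2
  · intro u hu v hv
    rw [mem_map_conj_iff] at hu hv
    have e : g⁻¹ * (u * v * u⁻¹ * v⁻¹) * g =
        (g⁻¹ * u * g) * (g⁻¹ * v * g) * (g⁻¹ * u * g)⁻¹ * (g⁻¹ * v * g)⁻¹ := by group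
    rcases h.comm _ hu _ hv with h2 | h2
    · left
      have := key (e.trans h2)
      rw [this]; group
    · right
      exact key (e.trans h2)
  · intro u hu
    rw [mem_map_conj_iff] at hu
    have e : g⁻¹ * (u * u) * g = (g⁻¹ * u * g) * (g⁻¹ * u * g) := by group
    rcases h.sqmem _ hu with h2 | h2
    · left
      have := key (e.trans h2)
      rw [this]; group
    · right
      exact key (e.trans h2)

/-- The common setting of the large-extraspecial statements, in concrete form. -/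
structure Setting (Q : G → Subgroup G) (z : G) : Prop where
  conj : ∀ (g x y : G), y ∈ Q x → g * y * g⁻¹ ∈ Q (g * x * g⁻¹)
  commute : ∀ (x y : G), y ∈ Q x → y * x = x * y
  ex : ∀ g : G, ExtraAt (Q (g * z * g⁻¹)) (g * z * g⁻¹)
  selfc : ∀ (g y : G), (∀ v ∈ Q (g * z * g⁻¹), y * v = v * y) → y ∈ Q (g * z * g⁻¹)

theorem setting_of_hyps [Finite G] (Q : G → Subgroup G)
    (hQ : ∀ x : G, Q x = (Cfsg.pCore 2 ↥(Subgroup.centralizer ({x} : Set G))).map
      (Subgroup.centralizer ({x} : Set G)).subtype)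
    (z : G) (hz : orderOf z = 2) (hE : Cfsg.IsExtraspecial 2 ↥(Q z))
    (hC : Subgroup.centralizer ((Q z : Subgroup G) : Set G) ≤ Q z) : Setting Q z := by
  have hQ' : Q = tc := by funext x; rw [hQ x]; rfl
  subst hQ'
  have hzz : z * z = 1 := by
    have := pow_orderOf_eq_one z
    rwa [hz, pow_two] at this
  have hz1 : z ≠ 1 := by
    intro h; rw [h, orderOf_one] at hz; omega
  have hex : ExtraAt (tc z) z :=
    extraAt_of_isExtraspecial (tc z) z hE (self_mem_tc hzz) hz1 hzz (fun u hu => tc_commute hu)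
  refine ⟨fun g x y hy => tc_conj_mem g hy, fun x y hy => tc_commute hy, ?_, ?_⟩
  · intro g
    rw [tc_conj]
    exact hex.conj g
  · intro g y hy
    rw [tc_conj, mem_map_conj_iff]
    apply hC
    rw [Subgroup.mem_centralizer_iff]
    intro v hv
    have hv' : g * v * g⁻¹ ∈ tc (g * z * g⁻¹) := tc_conj_mem g hv
    have := hy _ hv'
    calc v * (g⁻¹ * y * g) = g⁻¹ * (g * v * g⁻¹ * y) * g := by group
      _ = g⁻¹ * (y * (g * v * g⁻¹)) * g := by rw [this]
      _ = g⁻¹ * y * g * v := by group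

end Cfsg.Agent.Lib.Helper94
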