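import Cfsg.Agent.Lib.Helper22.TA0

/-!
Piece DO-LA of helper22's S0960 project (helper94): every endomorphism of `A = X^σ / N X` lifts
to a `σ`-equivariant endomorphism of the lattice `X` killing `ker N`.
-/

set_option autoImplicit false

namespace Cfsg.Agent.Lib.Helper94.DOLA

open Cfsg.Agent.Lib.Helper22.TA

/-- An injective homomorphism of `ZMod p`-vector spaces has a retraction. -/
theorem exists_retraction_aux {A C : Type*} [AddCommGroup A] [AddCommGroup C] (p : ℕ)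
    [Fact p.Prime] [Module (ZMod p) A] [Module (ZMod p) C] (j : A →+ C)
    (hj : Function.Injective j) : ∃ g : C →+ A, ∀ a, g (j a) = a := by
  obtain ⟨g, hg⟩ := LinearMap.exists_leftInverse_of_injective (AddMonoidHom.toZModLinearMap p j)
    (LinearMap.ker_eq_bot.mpr hj)
  refine ⟨g.toAddMonoidHom, fun a => ?_⟩
  have h := congrArg (fun F : A →ₗ[ZMod p] A => F a) hg
  exact h

/-- An injective homomorphism of elementary abelian `p`-groups has a retraction. -/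
theorem exists_retraction {A C : Type*} [AddCommGroup A] [AddCommGroup C] (p : ℕ) [Fact p.Prime]
    (hA : ∀ a : A, p • a = 0) (hC : ∀ c : C, p • c = 0) (j : A →+ C)
    (hj : Function.Injective j) : ∃ g : C →+ A, ∀ a, g (j a) = a :=
  @exists_retraction_aux A C _ _ p _ (AddCommGroup.zmodModule hA) (AddCommGroup.zmodModule hC) j hj

variable {X : Type*} [AddCommGroup X] [Module.Free ℤ X] [Module.Finite ℤ X]

theorem liftA (p : ℕ) [Fact p.Prime] (σ : X →ₗ[ℤ] X) (hσ : σ ^ p = 1)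
    (f : QA p σ →ₗ[ℤ] QA p σ) :
    ∃ Φ : X →ₗ[ℤ] X, Φ ∘ₗ σ = σ ∘ₗ Φ ∧ IndA p σ Φ f ∧ IndB p σ Φ 0 := by
  classical
  have hp : (p : ℤ) ≠ 0 := by
    have := (Fact.out : p.Prime).pos
    exact_mod_cast this.ne'
  -- `N ∘ σ = N`
  have hsum : ∀ x : X, ∑ i ∈ Finset.range p, (σ ^ (i + 1)) x = ∑ i ∈ Finset.range p, (σ ^ i) x := by
    intro x
    have h2 := Finset.sum_range_succ (fun i => (σ ^ i) x) p
    have h3 := Finset.sum_range_succ' (fun i => (σ ^ i) x) p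
    rw [h3, hσ, pow_zero] at h2
    exact add_right_cancel h2
  have hNσ : ∀ x, nrm p σ (σ x) = nrm p σ x := by
    intro x
    rw [nrm_apply, nrm_apply, ← hsum x]
    exact Finset.sum_congr rfl (fun i _ => by rw [pow_succ, Module.End.mul_apply])
  have hσN : ∀ x, σ (nrm p σ x) = nrm p σ x := by
    intro x
    rw [nrm_apply, map_sum, ← hsum x]
    exact Finset.sum_congr rfl (fun i _ => by rw [pow_succ', Module.End.mul_apply])
  have hNF : ∀ x, nrm p σ x ∈ fixS σ := fun x => mem_fixS.mpr (hσN x)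
  have hNfix : ∀ v ∈ fixS σ, nrm p σ v = (p : ℤ) • v := by
    intro v hv
    have h : ∀ i : ℕ, (σ ^ i) v = v := by
      intro i
      induction i with
      | zero => simp
      | succ i ih => rw [pow_succ, Module.End.mul_apply, mem_fixS.1 hv, ih]
    rw [nrm_apply, Finset.sum_congr rfl fun i _ => h i, Finset.sum_const, Finset.card_range,
      natCast_zsmul]
  -- the norm as a map onto its range, and the quotient `C = N X / p N X`
  obtain ⟨N', hN'⟩ : ∃ N' : X →ₗ[ℤ] ↥(imN p σ), ∀ x, ((N' x : ↥(imN p σ)) : X) = nrm p σ x :=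
    ⟨(nrm p σ).rangeRestrict, fun x => rfl⟩
  obtain ⟨Cp, hCp⟩ : ∃ Cp : Submodule ℤ ↥(imN p σ),
      ∀ n : ↥(imN p σ), n ∈ Cp ↔ ∃ m : ↥(imN p σ), (p : ℤ) • m = n :=
    ⟨LinearMap.range ((p : ℤ) • (LinearMap.id : ↥(imN p σ) →ₗ[ℤ] ↥(imN p σ))), fun n => by
      rw [LinearMap.mem_range]
      rfl⟩
  -- the embedding `j : A → C`, `class x ↦ class (N x)`
  have hker : (imN p σ).submoduleOf (fixS σ) ≤
      LinearMap.ker (Cp.mkQ ∘ₗ N' ∘ₗ (fixS σ).subtype) := by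
    intro x hx
    have hx' : (x : X) ∈ imN p σ := hx
    obtain ⟨y, hy⟩ := mem_imN.mp hx'
    rw [LinearMap.mem_ker, LinearMap.comp_apply, LinearMap.comp_apply, Submodule.mkQ_apply,
      Submodule.Quotient.mk_eq_zero, hCp]
    refine ⟨N' y, Subtype.ext ?_⟩
    show (p : ℤ) • ((N' y : ↥(imN p σ)) : X) = ((N' ((fixS σ).subtype x) : ↥(imN p σ)) : X)
    rw [hN', hN', Submodule.subtype_apply, ← hy, hNfix _ (hNF y)]
  obtain ⟨j0, hj0⟩ : ∃ j0 : QA p σ →ₗ[ℤ] ↥(imN p σ) ⧸ Cp,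
      ∀ (v : X) (hv : v ∈ fixS σ), j0 (mkA p σ v hv) = Submodule.Quotient.mk (N' v) :=
    ⟨Submodule.liftQ _ (Cp.mkQ ∘ₗ N' ∘ₗ (fixS σ).subtype) hker, fun v hv => rfl⟩
  have hjinj : Function.Injective j0 := by
    rw [← LinearMap.ker_eq_bot, LinearMap.ker_eq_bot']
    intro a ha
    obtain ⟨v, hv, rfl⟩ := mkA_surjective p σ a
    rw [hj0, Submodule.Quotient.mk_eq_zero, hCp] at ha
    obtain ⟨m, hm⟩ := ha
    have h1 : (p : ℤ) • (m : X) = (p : ℤ) • v := by
      have h2 := congrArg (Subtype.val) hm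
      rw [hN', hNfix v hv] at h2
      exact h2
    have h3 : (m : X) = v := smul_right_injective X hp h1
    rw [mkA_eq_zero, ← h3]
    exact m.2
  have hA : ∀ a : QA p σ, p • a = 0 := by
    intro a
    have := p_smul_QA (p := p) (σ := σ) a
    rwa [natCast_zsmul] at this
  have hC : ∀ c : ↥(imN p σ) ⧸ Cp, p • c = 0 := by
    intro c
    obtain ⟨n, rfl⟩ := Submodule.Quotient.mk_surjective _ c
    rw [← natCast_zsmul, ← Submodule.Quotient.mk_smul, Submodule.Quotient.mk_eq_zero, hCp]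
    exact ⟨n, rfl⟩
  obtain ⟨g, hg⟩ := exists_retraction p hA hC j0.toAddMonoidHom hjinj
  -- lift `f ∘ g ∘ mk : N X → A` through `X^σ → A`
  obtain ⟨Ψ, hΨ⟩ := Module.projective_lifting_property
    ((imN p σ).submoduleOf (fixS σ)).mkQ (f ∘ₗ g.toIntLinearMap ∘ₗ Cp.mkQ)
    (Submodule.mkQ_surjective _)
  have hΨ' : ∀ n : ↥(imN p σ), mkA p σ (Ψ n : X) (Ψ n).2 = f (g (Submodule.Quotient.mk n)) := by
    intro n
    have := congrArg (fun F : ↥(imN p σ) →ₗ[ℤ] QA p σ => F n) hΨ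
    exact this
  refine ⟨(fixS σ).subtype ∘ₗ Ψ ∘ₗ N', ?_, ?_, ?_⟩
  · apply LinearMap.ext
    intro x
    have h1 : N' (σ x) = N' x := Subtype.ext (by rw [hN', hN', hNσ])
    show ((Ψ (N' (σ x)) : ↥(fixS σ)) : X) = σ ((Ψ (N' x) : ↥(fixS σ)) : X)
    rw [h1, mem_fixS.mp (Ψ (N' x)).2]
  · intro v hv
    refine ⟨(Ψ (N' v)).2, ?_⟩
    have h1 : mkA p σ (((fixS σ).subtype ∘ₗ Ψ ∘ₗ N') v) (Ψ (N' v)).2 =
        f (g (Submodule.Quotient.mk (N' v))) := hΨ' (N' v)
    rw [h1, ← hj0 v hv]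
    have h2 : g (j0 (mkA p σ v hv)) = mkA p σ v hv := hg _
    rw [h2]
  · intro v hv
    have h0 : N' v = 0 := Subtype.ext (by rw [hN', mem_kerN.mp hv]; rfl)
    have h1 : ((fixS σ).subtype ∘ₗ Ψ ∘ₗ N') v = 0 := by
      show ((Ψ (N' v) : ↥(fixS σ)) : X) = 0
      rw [h0, map_zero]
      rfl
    have hw : ((fixS σ).subtype ∘ₗ Ψ ∘ₗ N') v ∈ kerN p σ := by
      rw [h1]
      exact (kerN p σ).zero_mem
    refine ⟨hw, ?_⟩
    rw [LinearMap.zero_apply]
    symm
    rw [mkB_eq_zero, h1]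
    exact (imD σ).zero_mem

end Cfsg.Agent.Lib.Helper94.DOLA
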