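import Cfsg.Agent.Lib.Helper45.FPDefs
set_option autoImplicit false
namespace Cfsg.Agent.Lib.Helper94.FP
open Equiv Cfsg.Agent.Lib.Helper45.FP

/-- BETA: division with remainder as a bijection `ZMod J × ZMod m ≃ ZMod (J * m)`,
`(k, y) ↦ k + J * y`. -/
theorem BETA (J m ℓ : ℕ) (hℓ : ℓ = J * m) [NeZero ℓ] :
    ∃ β : ZMod J × ZMod m ≃ ZMod ℓ,
      (∀ k y, (ZMod.cast (β (k, y)) : ZMod J) = k) ∧
      (∀ k y, β (k, y + 1) = β (k, y) + (J : ZMod ℓ)) := by
  have hℓ0 : ℓ ≠ 0 := NeZero.ne ℓ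
  have hJ0 : J ≠ 0 := by
    rintro rfl
    simp at hℓ
    exact hℓ0 hℓ
  have hm0 : m ≠ 0 := by
    rintro rfl
    simp at hℓ
    exact hℓ0 hℓ
  haveI : NeZero J := ⟨hJ0⟩
  haveI : NeZero m := ⟨hm0⟩
  have hlt : ∀ (k : ZMod J) (y : ZMod m), k.val + J * y.val < ℓ := by
    intro k y
    have h1 : k.val < J := ZMod.val_lt k
    have h2 : y.val < m := ZMod.val_lt y
    have h3 : y.val + 1 ≤ m := h2
    have h4 : J * (y.val + 1) ≤ J * m := Nat.mul_le_mul_left J h3
    rw [hℓ]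
    nlinarith
  let f : ZMod J × ZMod m → ZMod ℓ := fun q => ((q.1.val + J * q.2.val : ℕ) : ZMod ℓ)
  have hfval : ∀ (k : ZMod J) (y : ZMod m), (f (k, y)).val = k.val + J * y.val := by
    intro k y
    exact ZMod.val_natCast_of_lt (hlt k y)
  have hinj : Function.Injective f := by
    rintro ⟨k, y⟩ ⟨k', y'⟩ h
    have h1 : k.val + J * y.val = k'.val + J * y'.val := by
      rw [← hfval k y, ← hfval k' y', h]
    have hk : k.val < J := ZMod.val_lt k
    have hk' : k'.val < J := ZMod.val_lt k'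
    have h2 : (k.val + J * y.val) % J = (k'.val + J * y'.val) % J := by rw [h1]
    rw [Nat.add_mul_mod_self_left, Nat.add_mul_mod_self_left, Nat.mod_eq_of_lt hk,
      Nat.mod_eq_of_lt hk'] at h2
    have h3 : J * y.val = J * y'.val := by omega
    have h4 : y.val = y'.val := Nat.eq_of_mul_eq_mul_left (Nat.pos_of_ne_zero hJ0) h3
    have e1 : k = k' := ZMod.val_injective J h2
    have e2 : y = y' := ZMod.val_injective m h4
    rw [e1, e2]
  haveI : Fintype (ZMod ℓ) := ZMod.fintype ℓ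
  haveI : Fintype (ZMod J) := ZMod.fintype J
  haveI : Fintype (ZMod m) := ZMod.fintype m
  have hcard : Fintype.card (ZMod J × ZMod m) = Fintype.card (ZMod ℓ) := by
    rw [Fintype.card_prod, ZMod.card, ZMod.card, ZMod.card, hℓ]
  have hbij : Function.Bijective f :=
    (Fintype.bijective_iff_injective_and_card f).mpr ⟨hinj, hcard⟩
  refine ⟨Equiv.ofBijective f hbij, ?_, ?_⟩
  · intro k y
    show (ZMod.cast (f (k, y)) : ZMod J) = k
    rw [← ZMod.natCast_val, hfval k y]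
    push_cast
    rw [ZMod.natCast_self, zero_mul, add_zero, ZMod.natCast_zmod_val]
  · intro k y
    show f (k, y + 1) = f (k, y) + (J : ZMod ℓ)
    have hmod : (y + 1).val ≡ y.val + 1 [MOD m] := by
      rw [ZMod.val_add, ZMod.val_one_eq_one_mod]
      exact (Nat.mod_modEq _ _).trans (Nat.ModEq.add_left _ (Nat.mod_modEq 1 m))
    have hmod2 : J * (y + 1).val ≡ J * (y.val + 1) [MOD ℓ] := by
      rw [hℓ]
      exact Nat.ModEq.mul_left' J hmod
    have hc : ((J * (y + 1).val : ℕ) : ZMod ℓ) = ((J * (y.val + 1) : ℕ) : ZMod ℓ) :=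
      (ZMod.natCast_eq_natCast_iff _ _ _).mpr hmod2
    show ((k.val + J * (y + 1).val : ℕ) : ZMod ℓ) = ((k.val + J * y.val : ℕ) : ZMod ℓ) + (J : ZMod ℓ)
    rw [Nat.cast_add, hc]
    push_cast
    ring

end Cfsg.Agent.Lib.Helper94.FP
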