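import Cfsg.Agent.Lib.Helper45.FPDefs
set_option autoImplicit false
namespace Cfsg.Agent.Lib.Helper94.FP
open Equiv Cfsg.Agent.Lib.Helper45.FP

/-- S3N: a nontrivial permutation with `u ^ 3 = 1` either has two moved orbits (and then the
ground set has at least 6 points) or a moved point together with `k` fixed points. -/
theorem S3N {α : Type*} [Fintype α] [DecidableEq α] (u : Perm α) (hu3 : u ^ 3 = 1) (hu : u ≠ 1)
    (k : ℕ) (hk : k + 3 ≤ Fintype.card α) :
    (∃ x y, u x ≠ x ∧ u y ≠ y ∧ (∀ j : ℕ, (u ^ j) x ≠ y) ∧ 6 ≤ Fintype.card α) ∨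
      (∃ x, u x ≠ x ∧ ∃ f : Fin k ↪ α, ∀ i, u (f i) = f i) := by
  classical
  obtain ⟨x, hx⟩ : ∃ x, u x ≠ x := by
    by_contra h
    push Not at h
    exact hu (Equiv.ext h)
  have h3 : ∀ z, u (u (u z)) = z := by
    intro z
    have := congrArg (fun f : Perm α => f z) hu3
    simpa [pow_succ, Perm.mul_apply] using this
  have hpow : ∀ (z : α) (j : ℕ), (u ^ j) z = z ∨ (u ^ j) z = u z ∨ (u ^ j) z = u (u z) := by
    intro z j
    induction j with
    | zero => left; simp
    | succ n ih =>
      rw [pow_succ', Perm.mul_apply]
      rcases ih with h | h | h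
      · right; left; rw [h]
      · right; right; rw [h]
      · left; rw [h, h3]
  have hcard3 : ∀ z, u z ≠ z → ({z, u z, u (u z)} : Finset α).card = 3 := by
    intro z hz
    have h1 : z ≠ u z := fun h => hz h.symm
    have h2 : z ≠ u (u z) := by
      intro h
      apply hz
      have h' := congrArg u h
      rw [h3] at h'
      exact h'
    have h3' : u z ≠ u (u z) := fun h => h1 (u.injective h)
    rw [Finset.card_insert_of_notMem, Finset.card_insert_of_notMem, Finset.card_singleton]
    · simpa using h3'
    · simp [h1, h2]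
  have hinv : ∀ z a, a ∈ ({z, u z, u (u z)} : Finset α) → u a ∈ ({z, u z, u (u z)} : Finset α) := by
    intro z a ha
    simp only [Finset.mem_insert, Finset.mem_singleton] at ha ⊢
    rcases ha with h | h | h
    · right; left; rw [h]
    · right; right; rw [h]
    · left; rw [h, h3]
  by_cases hcase : ∃ y, y ∉ ({x, u x, u (u x)} : Finset α) ∧ u y ≠ y
  · obtain ⟨y, hyO, hy⟩ := hcase
    left
    refine ⟨x, y, hx, hy, ?_, ?_⟩
    · intro j hj
      apply hyO
      rw [← hj]
      simp only [Finset.mem_insert, Finset.mem_singleton]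
      exact hpow x j
    · have hdisj : Disjoint ({x, u x, u (u x)} : Finset α) ({y, u y, u (u y)} : Finset α) := by
        rw [Finset.disjoint_left]
        intro a haO haO'
        apply hyO
        simp only [Finset.mem_insert, Finset.mem_singleton] at haO'
        rcases haO' with h | h | h
        · rw [← h]; exact haO
        · have h1 := hinv x _ (hinv x a haO)
          rw [h, h3] at h1
          exact h1
        · have h1 := hinv x a haO
          rw [h, h3] at h1
          exact h1
      have hc : (({x, u x, u (u x)} : Finset α) ∪ ({y, u y, u (u y)} : Finset α)).card = 6 := by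
        rw [Finset.card_union_of_disjoint hdisj, hcard3 x hx, hcard3 y hy]
      calc 6 = (({x, u x, u (u x)} : Finset α) ∪ ({y, u y, u (u y)} : Finset α)).card := hc.symm
        _ ≤ Fintype.card α := Finset.card_le_univ _
  · right
    push Not at hcase
    refine ⟨x, hx, ?_⟩
    have hScard : k ≤ (Finset.univ \ ({x, u x, u (u x)} : Finset α)).card := by
      rw [Finset.card_sdiff_of_subset (Finset.subset_univ _), Finset.card_univ, hcard3 x hx]
      omega
    have hle : Fintype.card (Fin k) ≤
        Fintype.card ↥(Finset.univ \ ({x, u x, u (u x)} : Finset α)) := by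
      rw [Fintype.card_fin, Fintype.card_coe]
      exact hScard
    obtain ⟨f⟩ := Function.Embedding.nonempty_of_card_le hle
    refine ⟨f.trans (Function.Embedding.subtype _), ?_⟩
    intro i
    have hmem : (f i : α) ∈ (Finset.univ \ ({x, u x, u (u x)} : Finset α)) := (f i).2
    have hnot : (f i : α) ∉ ({x, u x, u (u x)} : Finset α) := (Finset.mem_sdiff.mp hmem).2
    exact hcase _ hnot

end Cfsg.Agent.Lib.Helper94.FP
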