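import Mathlib

/-!
# Project RC (helper48), piece RC-SL2NOR
-/

set_option autoImplicit false

namespace Cfsg.Agent.Lib.Helper48.RC

-- piece RC-SL2NOR
theorem sl2_normal_le_center {F : Type*} [Field F]
    (N : Subgroup (Matrix.SpecialLinearGroup (Fin 2) F)) [N.Normal]
    (hN : ∀ g ∈ N, (g : Matrix (Fin 2) (Fin 2) F) 1 0 = 0) :
    N ≤ Subgroup.center (Matrix.SpecialLinearGroup (Fin 2) F) := by
  intro g hg
  have hNn : N.Normal := inferInstance
  have hc : (g : Matrix (Fin 2) (Fin 2) F) 1 0 = 0 := hN g hg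
  have hb : (g : Matrix (Fin 2) (Fin 2) F) 0 1 = 0 := by
    obtain ⟨w, hw⟩ : ∃ w : Matrix.SpecialLinearGroup (Fin 2) F,
        (w : Matrix (Fin 2) (Fin 2) F) = !![0, 1; -1, 0] :=
      ⟨⟨!![0, 1; -1, 0], by simp [Matrix.det_fin_two]⟩, rfl⟩
    have h1 := hN _ (hNn.conj_mem g hg w)
    rw [Matrix.SpecialLinearGroup.coe_mul, Matrix.SpecialLinearGroup.coe_mul,
      Matrix.SpecialLinearGroup.coe_inv, hw, Matrix.adjugate_fin_two,
      Matrix.eta_fin_two (g : Matrix (Fin 2) (Fin 2) F), Matrix.mul_fin_two] at h1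
    simp at h1
    exact h1
  have had : (g : Matrix (Fin 2) (Fin 2) F) 0 0 = (g : Matrix (Fin 2) (Fin 2) F) 1 1 := by
    obtain ⟨w, hw⟩ : ∃ w : Matrix.SpecialLinearGroup (Fin 2) F,
        (w : Matrix (Fin 2) (Fin 2) F) = !![1, 0; 1, 1] :=
      ⟨⟨!![1, 0; 1, 1], by simp [Matrix.det_fin_two]⟩, rfl⟩
    have h1 := hN _ (hNn.conj_mem g hg w)
    rw [Matrix.SpecialLinearGroup.coe_mul, Matrix.SpecialLinearGroup.coe_mul,
      Matrix.SpecialLinearGroup.coe_inv, hw, Matrix.adjugate_fin_two,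
      Matrix.eta_fin_two (g : Matrix (Fin 2) (Fin 2) F), Matrix.mul_fin_two] at h1
    simp [hc, hb] at h1
    exact sub_eq_zero.1 (by linear_combination h1)
  have hg1 : (g : Matrix (Fin 2) (Fin 2) F) =
      ((g : Matrix (Fin 2) (Fin 2) F) 1 1) • (1 : Matrix (Fin 2) (Fin 2) F) := by
    ext i j
    fin_cases i <;> fin_cases j <;> simp [hc, hb, had]
  rw [Subgroup.mem_center_iff]
  intro h
  apply Subtype.ext
  rw [Matrix.SpecialLinearGroup.coe_mul, Matrix.SpecialLinearGroup.coe_mul, hg1,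
    Matrix.mul_smul, Matrix.smul_mul, Matrix.mul_one, Matrix.one_mul]

end Cfsg.Agent.Lib.Helper48.RC
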