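import Mathlib
import Cfsg.Agent.S0016

set_option autoImplicit false

/-!
# S2934 piece QF-L2

A `p`-group (`p` odd) of automorphisms of a `2`-group acting on an invariant subgroup `T`
with at most one involution: trivial on `T`, or `T ≅ Q₈`, `p = 3`, kernel of index `3`.
-/

namespace Cfsg.Agent.Lib.Helper94.QFixL2

open QuaternionGroup

/-- the three inverse-pairs of elements of order 4 in `Q₈` -/
def clsQ : QuaternionGroup 2 → Fin 3
  | a _ => 0
  | xa k => if k = 0 ∨ k = 2 then 1 else 2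

theorem Qa : ∀ q : QuaternionGroup 2, q ^ 4 = 1 := by decide

set_option maxRecDepth 100000 in
theorem Qb : ∀ t x y : QuaternionGroup 2, t ^ 2 ≠ 1 →
    (∃ i : Fin 4, x = t ^ (i : ℕ)) ∨ (∃ i : Fin 4, y = t ^ (i : ℕ)) ∨
      (∃ i : Fin 4, x⁻¹ * y = t ^ (i : ℕ)) := by decide

set_option maxRecDepth 100000 in
theorem Qc : ∀ q1 q2 : QuaternionGroup 2, q1 ^ 2 ≠ 1 → q2 ^ 2 ≠ 1 → q2 ≠ q1 → q2 ≠ q1⁻¹ →
    ∀ q : QuaternionGroup 2, ∃ i : Fin 4, ∃ j : Fin 4, q = q1 ^ (i : ℕ) * q2 ^ (j : ℕ) := by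
  decide

set_option maxRecDepth 100000 in
theorem Qd : ∀ q1 q2 : QuaternionGroup 2, q1 ^ 2 ≠ 1 → q2 ^ 2 ≠ 1 → clsQ q1 = clsQ q2 →
    q2 = q1 ∨ q2 = q1⁻¹ := by decide

theorem Qe : (a 1 : QuaternionGroup 2) ^ 2 ≠ 1 := by decide

/-- odd torsion and `2`-power torsion together are trivial -/
theorem eq_one_of_odd_pow {G : Type*} [Monoid G] {g : G} {m k : ℕ} (hm : Odd m)
    (h1 : g ^ m = 1) (h2 : g ^ (2 ^ k) = 1) : g = 1 := by
  have hc : Nat.Coprime m (2 ^ k) := Nat.Coprime.pow_right k (Nat.coprime_two_right.2 hm)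
  have := pow_gcd_eq_one.2 ⟨h1, h2⟩
  rwa [Nat.Coprime.gcd_eq_one hc, pow_one] at this

theorem modEq_one_of_pow {k j m : ℕ} (hm : Odd m) (h : j ^ m ≡ 1 [MOD 2 ^ k]) :
    j ≡ 1 [MOD 2 ^ k] := by
  rcases k with _ | k
  · rw [pow_zero]
    exact Nat.modEq_one
  have : NeZero (2 ^ (k + 1)) := ⟨by positivity⟩
  have h1 : ((j : ZMod (2 ^ (k + 1)))) ^ m = 1 := by
    have := (ZMod.natCast_eq_natCast_iff _ _ _).2 h
    simpa using this
  have hm0 : m ≠ 0 := by
    rintro rfl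
    exact absurd hm (by decide)
  obtain ⟨u, hu⟩ := IsUnit.of_pow_eq_one h1 hm0
  have h2 : u ^ m = 1 := by
    apply Units.ext
    rw [Units.val_pow_eq_pow_val, hu, h1]
    rfl
  have h3 : u ^ (2 ^ k) = 1 := by
    have := pow_card_eq_one (x := u)
    rw [ZMod.card_units_eq_totient, Nat.totient_prime_pow Nat.prime_two (Nat.succ_pos k)] at this
    simpa using this
  have h4 := eq_one_of_odd_pow hm h2 h3
  have h5 : (j : ZMod (2 ^ (k + 1))) = ((1 : ℕ) : ZMod (2 ^ (k + 1))) := by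
    rw [← hu, h4]
    simp
  exact (ZMod.natCast_eq_natCast_iff _ _ _).1 h5

theorem pow_apply_pow {G : Type*} [Group G] (φ : MulAut G) (g : G) (j : ℕ)
    (hj : φ g = g ^ j) (r : ℕ) : (φ ^ r) g = g ^ (j ^ r) := by
  induction r with
  | zero => simp
  | succ r ih =>
    rw [pow_succ', MulAut.mul_apply, ih, map_pow, hj, ← pow_mul, ← pow_succ']

/-- an automorphism of odd order mapping `g` (of `2`-power order) to a power of `g` fixes `g` -/
theorem aut_fix_of_pow {G : Type*} [Group G] (φ : MulAut G) {m : ℕ} (hm : Odd m)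
    (hφ : φ ^ m = 1) {g : G} {k : ℕ} (hg : g ^ (2 ^ k) = 1) {j : ℕ} (hj : φ g = g ^ j) :
    φ g = g := by
  have h1 := pow_apply_pow φ g j hj m
  rw [hφ, MulAut.one_apply] at h1
  obtain ⟨k', -, hk'⟩ := (Nat.dvd_prime_pow Nat.prime_two).1 (orderOf_dvd_of_pow_eq_one hg)
  have h2 : j ^ m ≡ 1 [MOD orderOf g] := by
    rw [← pow_eq_pow_iff_modEq, pow_one]
    exact h1.symm
  rw [hk'] at h2
  have h3 := modEq_one_of_pow hm h2
  rw [← hk'] at h3
  have h4 := pow_eq_pow_iff_modEq.2 h3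
  rw [hj, h4, pow_one]

theorem pow_apply_mul {G : Type*} [Group G] (φ : MulAut G) (x c : G) (hx : φ x = x * c)
    (hc : φ c = c) (r : ℕ) : (φ ^ r) x = x * c ^ r := by
  induction r with
  | zero => simp
  | succ r ih =>
    rw [pow_succ', MulAut.mul_apply, ih, map_mul, map_pow, hx, hc, mul_assoc, ← pow_succ']

/-- an automorphism of odd order with `φ x = x * c`, `φ c = c`, `c` of `2`-power order fixes `x` -/
theorem aut_fix_of_mul {G : Type*} [Group G] (φ : MulAut G) {m : ℕ} (hm : Odd m)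
    (hφ : φ ^ m = 1) {x c : G} (hx : φ x = x * c) (hc : φ c = c) {k : ℕ}
    (hck : c ^ (2 ^ k) = 1) : φ x = x := by
  have h1 := pow_apply_mul φ x c hx hc m
  rw [hφ, MulAut.one_apply] at h1
  have h2 : c ^ m = 1 := by
    have : x * c ^ m = x * 1 := by rw [mul_one]; exact h1.symm
    exact mul_left_cancel this
  rw [hx, eq_one_of_odd_pow hm h2 hck, mul_one]

/-- the cyclic case -/
theorem cyc_case {T : Type*} [Group T] [Finite T] (hT2 : IsPGroup 2 T) [IsCyclic T]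
    (A : Subgroup (MulAut T)) (hodd : ∀ φ ∈ A, ∃ m, Odd m ∧ φ ^ m = 1) : A = ⊥ := by
  obtain ⟨g, hg⟩ := IsCyclic.exists_monoid_generator (α := T)
  rw [eq_bot_iff]
  intro φ hφ
  rw [Subgroup.mem_bot]
  obtain ⟨m, hm, hφm⟩ := hodd φ hφ
  obtain ⟨k, hk⟩ := hT2 g
  obtain ⟨j, hj⟩ := (Submonoid.mem_powers_iff _ _).1 (hg (φ g))
  have h1 := aut_fix_of_pow φ hm hφm hk hj.symm
  ext x
  show φ x = x
  obtain ⟨i, rfl⟩ := (Submonoid.mem_powers_iff _ _).1 (hg x)
  rw [map_pow, h1]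

/-- the generalized quaternion case of order at least 16 -/
theorem big_case {T : Type*} [Group T] [Finite T] {n : ℕ}
    (f : T ≃* QuaternionGroup (2 ^ (n + 2)))
    (A : Subgroup (MulAut T)) (hodd : ∀ φ ∈ A, ∃ m, Odd m ∧ φ ^ m = 1) : A = ⊥ := by
  have : NeZero (2 ^ (n + 2)) := ⟨by positivity⟩
  rw [eq_bot_iff]
  intro φ hφ
  rw [Subgroup.mem_bot]
  obtain ⟨m, hm, hφm⟩ := hodd φ hφ
  have hαord : orderOf (f.symm (a 1)) = 2 ^ (n + 3) := by
    rw [MulEquiv.orderOf_eq, QuaternionGroup.orderOf_a_one]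
    ring
  have hα2 : (f.symm (a 1)) ^ (2 ^ (n + 3)) = 1 := by
    rw [← hαord]
    exact pow_orderOf_eq_one _
  have hcases : ∀ x : T, (∃ i : ℕ, x = (f.symm (a 1)) ^ i) ∨
      (∃ i : ℕ, x = f.symm (xa 0) * (f.symm (a 1)) ^ i) := by
    intro x
    rcases hfx : f x with k | k
    · left
      refine ⟨k.val, f.injective ?_⟩
      rw [hfx, map_pow, f.apply_symm_apply, a_one_pow, ZMod.natCast_zmod_val]
    · right
      refine ⟨k.val, f.injective ?_⟩
      rw [hfx, map_mul, map_pow, f.apply_symm_apply, f.apply_symm_apply, a_one_pow,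
        ZMod.natCast_zmod_val, xa_mul_a, zero_add]
  have h1 : φ (f.symm (a 1)) = f.symm (a 1) := by
    rcases hcases (φ (f.symm (a 1))) with ⟨i, hi⟩ | ⟨i, hi⟩
    · exact aut_fix_of_pow φ hm hφm hα2 hi
    · exfalso
      have h2 : orderOf (φ (f.symm (a 1))) = 2 ^ (n + 3) := by
        rw [MulEquiv.orderOf_eq φ, hαord]
      have h3 : orderOf (f.symm (xa 0) * (f.symm (a 1)) ^ i) = 4 := by
        have : f (f.symm (xa 0) * (f.symm (a 1)) ^ i)
            = xa (i : ZMod (2 * 2 ^ (n + 2))) := by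
          rw [map_mul, map_pow, f.apply_symm_apply, f.apply_symm_apply, a_one_pow, xa_mul_a,
            zero_add]
        rw [← MulEquiv.orderOf_eq f, this, QuaternionGroup.orderOf_xa]
      rw [hi, h3] at h2
      have : 2 ^ 3 ≤ 2 ^ (n + 3) := Nat.pow_le_pow_right (by norm_num) (by omega)
      omega
  have hpow : ∀ i : ℕ, φ ((f.symm (a 1)) ^ i) = (f.symm (a 1)) ^ i := fun i => by
    rw [map_pow, h1]
  have h2 : φ (f.symm (xa 0)) = f.symm (xa 0) := by
    rcases hcases (φ (f.symm (xa 0))) with ⟨i, hi⟩ | ⟨i, hi⟩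
    · exfalso
      have h3 : f.symm (xa 0) = (f.symm (a 1)) ^ i := φ.injective (by rw [hi, hpow i])
      have h4 := congrArg f h3
      rw [map_pow, f.apply_symm_apply, f.apply_symm_apply, a_one_pow] at h4
      exact absurd h4 (by simp)
    · have hc : ((f.symm (a 1)) ^ i) ^ (2 ^ (n + 3)) = 1 := by
        rw [pow_right_comm, hα2, one_pow]
      exact aut_fix_of_mul φ hm hφm hi (hpow i) hc
  ext x
  show φ x = x
  rcases hcases x with ⟨i, rfl⟩ | ⟨i, rfl⟩
  · exact hpow i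
  · rw [map_mul, h2, hpow i]

/-- the `Q₈` case -/
theorem q8_case {T : Type*} [Group T] [Finite T] (f : T ≃* QuaternionGroup 2)
    {p : ℕ} [Fact p.Prime] (hp : p ≠ 2) (A : Subgroup (MulAut T)) (hA : IsPGroup p ↥A)
    (hodd : ∀ φ ∈ A, ∃ m, Odd m ∧ φ ^ m = 1) (hne : A ≠ ⊥) :
    p = 3 ∧
      (∀ M : Subgroup T, (∀ φ ∈ A, ∀ x ∈ M, φ x ∈ M) → (∃ m ∈ M, m ^ 2 ≠ 1) → M = ⊤) ∧
      (∀ x : T, (∀ φ ∈ A, φ x = x) → x ^ 2 = 1) ∧ Nat.card ↥A = 3 := by
  have Ta : ∀ t : T, t ^ 4 = 1 := by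
    intro t
    apply f.injective
    rw [map_pow, map_one]
    exact Qa _
  have Tsq : ∀ t : T, t ^ 2 ≠ 1 → (f t) ^ 2 ≠ 1 := by
    intro t ht h
    apply ht
    apply f.injective
    rw [map_pow, map_one]
    exact h
  have Tb : ∀ t x y : T, t ^ 2 ≠ 1 →
      (∃ i : ℕ, x = t ^ i) ∨ (∃ i : ℕ, y = t ^ i) ∨ (∃ i : ℕ, x⁻¹ * y = t ^ i) := by
    intro t x y ht
    rcases Qb (f t) (f x) (f y) (Tsq t ht) with ⟨i, hi⟩ | ⟨i, hi⟩ | ⟨i, hi⟩
    · exact Or.inl ⟨i, f.injective (by rw [hi, map_pow])⟩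
    · exact Or.inr (Or.inl ⟨i, f.injective (by rw [hi, map_pow])⟩)
    · exact Or.inr (Or.inr ⟨i, f.injective (by rw [map_mul, map_inv, hi, map_pow])⟩)
  -- the key lemma
  have key : ∀ φ ∈ A, ∀ t : T, t ^ 2 ≠ 1 → (φ t = t ∨ φ t = t⁻¹) → φ = 1 := by
    intro φ hφ t ht h
    obtain ⟨m, hm, hφm⟩ := hodd φ hφ
    have ht4 : t ^ (2 ^ 2) = 1 := Ta t
    have h1 : φ t = t := by
      rcases h with h | h
      · exact h
      · have h3 : φ t = t ^ 3 := by
          rw [h, inv_eq_iff_mul_eq_one, ← pow_succ']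
          exact Ta t
        exact aut_fix_of_pow φ hm hφm ht4 h3
    have hpow : ∀ i : ℕ, φ (t ^ i) = t ^ i := fun i => by rw [map_pow, h1]
    ext x
    show φ x = x
    rcases Tb t x (φ x) ht with ⟨i, hi⟩ | ⟨i, hi⟩ | ⟨i, hi⟩
    · rw [hi]
      exact hpow i
    · have h5 : x = t ^ i := φ.injective (by rw [hi, hpow i])
      rw [h5]
      exact hpow i
    · have hx : φ x = x * t ^ i := by rw [← hi, mul_inv_cancel_left]
      have hc4 : (t ^ i) ^ (2 ^ 2) = 1 := Ta _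
      exact aut_fix_of_mul φ hm hφm hx (hpow i) hc4
  obtain ⟨φ0, hφ0, hφ0ne⟩ : ∃ φ ∈ A, φ ≠ 1 := by
    by_contra hcon
    push Not at hcon
    exact hne ((Subgroup.eq_bot_iff_forall _).2 hcon)
  have hM : ∀ M : Subgroup T, (∀ φ ∈ A, ∀ x ∈ M, φ x ∈ M) → (∃ m ∈ M, m ^ 2 ≠ 1) →
      M = ⊤ := by
    rintro M hMinv ⟨m, hmM, hm2⟩
    have h1 : φ0 m ∈ M := hMinv φ0 hφ0 m hmM
    have h2 : (φ0 m) ^ 2 ≠ 1 := by
      intro h
      apply hm2
      apply φ0.injective
      rw [map_pow, map_one]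
      exact h
    have h3 : φ0 m ≠ m := fun h => hφ0ne (key φ0 hφ0 m hm2 (Or.inl h))
    have h4 : φ0 m ≠ m⁻¹ := fun h => hφ0ne (key φ0 hφ0 m hm2 (Or.inr h))
    rw [eq_top_iff]
    intro q _
    obtain ⟨i, j, hij⟩ := Qc (f m) (f (φ0 m)) (Tsq m hm2) (Tsq _ h2)
      (fun h => h3 (f.injective h)) (fun h => h4 (f.injective (by rw [h, map_inv]))) (f q)
    have h5 : q = m ^ (i : ℕ) * (φ0 m) ^ (j : ℕ) :=
      f.injective (by rw [hij, map_mul, map_pow, map_pow])
    rw [h5]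
    exact M.mul_mem (M.pow_mem hmM _) (M.pow_mem h1 _)
  have hfix : ∀ x : T, (∀ φ ∈ A, φ x = x) → x ^ 2 = 1 := by
    intro x hx
    by_contra hx2
    exact hφ0ne (key φ0 hφ0 x hx2 (Or.inl (hx φ0 hφ0)))
  -- the order of `A`
  have ht0sq : (f.symm (a 1)) ^ 2 ≠ 1 := by
    intro h
    apply Qe
    have := congrArg f h
    rwa [map_pow, map_one, f.apply_symm_apply] at this
  have hsq : ∀ (φ : MulAut T) (t : T), t ^ 2 ≠ 1 → (φ t) ^ 2 ≠ 1 := by
    intro φ t ht h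
    apply ht
    apply φ.injective
    rw [map_pow, map_one]
    exact h
  have hinj : Function.Injective
      (fun φ : ↥A => clsQ (f ((φ : MulAut T) (f.symm (a 1))))) := by
    intro φ1 φ2 h
    simp only at h
    have h3 := Qd _ _ (Tsq _ (hsq φ1 _ ht0sq)) (Tsq _ (hsq φ2 _ ht0sq)) h
    have h4 : ((φ1 : MulAut T)⁻¹ * (φ2 : MulAut T)) (f.symm (a 1)) = f.symm (a 1) ∨
        ((φ1 : MulAut T)⁻¹ * (φ2 : MulAut T)) (f.symm (a 1)) = (f.symm (a 1))⁻¹ := by
      rcases h3 with h3 | h3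
      · left
        rw [MulAut.mul_apply, f.injective h3]
        exact MulEquiv.symm_apply_apply _ _
      · right
        have h6 : (φ2 : MulAut T) (f.symm (a 1)) = ((φ1 : MulAut T) (f.symm (a 1)))⁻¹ :=
          f.injective (by rw [h3, map_inv])
        rw [MulAut.mul_apply, h6, ← map_inv]
        exact MulEquiv.symm_apply_apply _ _
    have h5 := key _ (A.mul_mem (A.inv_mem φ1.2) φ2.2) _ ht0sq h4
    exact Subtype.ext (inv_mul_eq_one.1 h5)
  have : Finite ↥A := Finite.of_injective _ hinj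
  have hcard_le : Nat.card ↥A ≤ 3 := by
    have := Nat.card_le_card_of_injective _ hinj
    simpa using this
  obtain ⟨n, hn⟩ := IsPGroup.iff_card.1 hA
  have hn0 : n ≠ 0 := by
    rintro rfl
    rw [pow_zero] at hn
    exact hne (Subgroup.eq_bot_of_card_eq A hn)
  have hp2 : 2 ≤ p := (Fact.out : p.Prime).two_le
  have hple : p ≤ p ^ n := Nat.le_self_pow hn0 p
  have hp3 : p = 3 := by omega
  have hn1 : n = 1 := by
    by_contra h
    have h2 : 2 ≤ n := by omega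
    have h3 : 3 ^ 2 ≤ 3 ^ n := Nat.pow_le_pow_right (by norm_num) h2
    have hn' : Nat.card ↥A = 3 ^ n := by rw [hn, hp3]
    norm_num at h3
    omega
  exact ⟨hp3, hM, hfix, by rw [hn, hn1, pow_one, hp3]⟩

/-- the abstract form: a `p`-group of automorphisms of a `2`-group with one involution -/
theorem autA {T : Type*} [Group T] [Finite T] (hT2 : IsPGroup 2 T)
    (huniq : ∀ x y : T, orderOf x = 2 → orderOf y = 2 → x = y)
    {p : ℕ} [Fact p.Prime] (hp : p ≠ 2) (A : Subgroup (MulAut T)) (hA : IsPGroup p ↥A) :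
    A = ⊥ ∨ (p = 3 ∧ Nonempty (T ≃* QuaternionGroup 2) ∧
      (∀ M : Subgroup T, (∀ φ ∈ A, ∀ x ∈ M, φ x ∈ M) → (∃ m ∈ M, m ^ 2 ≠ 1) → M = ⊤) ∧
      (∀ x : T, (∀ φ ∈ A, φ x = x) → x ^ 2 = 1) ∧ Nat.card ↥A = 3) := by
  have hpodd : Odd p := (Fact.out : p.Prime).eq_two_or_odd'.resolve_left hp
  have hodd : ∀ φ ∈ A, ∃ m, Odd m ∧ φ ^ m = 1 := by
    intro φ hφ
    obtain ⟨k, hk⟩ := hA ⟨φ, hφ⟩
    refine ⟨p ^ k, hpodd.pow, ?_⟩
    have := congrArg Subtype.val hk
    rwa [Subgroup.coe_pow, Subgroup.coe_one] at this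
  have hsub : ∀ H K : Subgroup T, Nat.card H = 2 → Nat.card K = 2 → H = K := by
    have aux : ∀ H : Subgroup T, Nat.card H = 2 → ∀ x ∈ H, x ≠ 1 → orderOf x = 2 := by
      intro H hH x hx hx1
      have h1 : orderOf x ∣ 2 := hH ▸ Subgroup.orderOf_dvd_natCard H hx
      rcases (Nat.dvd_prime Nat.prime_two).1 h1 with h | h
      · exact absurd (orderOf_eq_one_iff.1 h) hx1
      · exact h
    have aux2 : ∀ H : Subgroup T, Nat.card H = 2 → ∃ x ∈ H, x ≠ 1 := by
      intro H hH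
      by_contra hcon
      push Not at hcon
      have h1 : H = ⊥ := (Subgroup.eq_bot_iff_forall H).2 hcon
      rw [h1, Subgroup.card_bot] at hH
      omega
    have aux3 : ∀ H K : Subgroup T, Nat.card H = 2 → Nat.card K = 2 → H ≤ K := by
      intro H K hH hK x hx
      by_cases hx1 : x = 1
      · rw [hx1]
        exact K.one_mem
      · obtain ⟨y, hy, hy1⟩ := aux2 K hK
        rw [huniq x y (aux H hH x hx hx1) (aux K hK y hy hy1)]
        exact hy
    intro H K hH hK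
    exact le_antisymm (aux3 H K hH hK) (aux3 K H hK hH)
  rcases Cfsg.Agent.S0016.result 2 hT2 hsub with hcyc | ⟨-, n, ⟨f⟩⟩
  · exact Or.inl (cyc_case hT2 A hodd)
  · rcases n with _ | _ | n
    · have f' : T ≃* QuaternionGroup 1 := f
      have : IsCyclic T :=
        @isCyclic_of_surjective _ _ _ _ _ QuaternionGroup.quaternionGroup_one_isCyclic _ _
          f'.symm f'.symm.surjective
      exact Or.inl (cyc_case hT2 A hodd)
    · have f' : T ≃* QuaternionGroup 2 := f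
      by_cases hne : A = ⊥
      · exact Or.inl hne
      · obtain ⟨h1, h2, h3, h4⟩ := q8_case f' hp A hA hodd hne
        exact Or.inr ⟨h1, ⟨f'⟩, h2, h3, h4⟩
    · exact Or.inl (big_case f A hodd)

theorem L2 {W : Type*} [Group W] [Finite W] (hW : IsPGroup 2 W) {p : ℕ} [Fact p.Prime]
    (hp : p ≠ 2)
    (E : Subgroup (MulAut W)) (hE : IsPGroup p ↥E)
    (T : Subgroup W) (hinv : ∀ e ∈ E, ∀ x ∈ T, e x ∈ T)
    (hT : ∀ x ∈ T, ∀ y ∈ T, orderOf x = 2 → orderOf y = 2 → x = y) :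
    (∀ e ∈ E, ∀ x ∈ T, e x = x) ∨
    (p = 3 ∧ Nonempty (↥T ≃* QuaternionGroup 2) ∧
      (∀ M : Subgroup W, M ≤ T → (∀ e ∈ E, ∀ x ∈ M, e x ∈ M) → (∃ m ∈ M, m ^ 2 ≠ 1) → M = T) ∧
      (∀ x ∈ T, (∀ e ∈ E, e x = x) → x ^ 2 = 1) ∧
      (∃ K : Subgroup ↥E, K.index = 3 ∧
        ∀ e : ↥E, e ∈ K ↔ ∀ x ∈ T, (e : MulAut W) x = x)) := by
  -- the restriction homomorphism
  let ρ : ↥E →* MulAut ↥T :=
    { toFun := fun e =>
        { toFun := fun x => ⟨(e : MulAut W) x, hinv e e.2 x x.2⟩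
          invFun := fun x => ⟨(e : MulAut W)⁻¹ x, hinv _ (E.inv_mem e.2) x x.2⟩
          left_inv := fun x => Subtype.ext (MulEquiv.symm_apply_apply _ _)
          right_inv := fun x => Subtype.ext (MulEquiv.apply_symm_apply _ _)
          map_mul' := fun x y => Subtype.ext (map_mul _ _ _) }
      map_one' := by
        ext x
        rfl
      map_mul' := fun e e' => by
        ext x
        rfl }
  have hρ : ∀ (e : ↥E) (x : ↥T), ((ρ e x : ↥T) : W) = (e : MulAut W) x := fun e x => rfl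
  have hA : IsPGroup p ↥ρ.range := hE.of_surjective ρ.rangeRestrict ρ.rangeRestrict_surjective
  have hT2 : IsPGroup 2 ↥T := hW.to_subgroup T
  have huniq : ∀ x y : ↥T, orderOf x = 2 → orderOf y = 2 → x = y := by
    intro x y hx hy
    apply Subtype.ext
    apply hT x x.2 y y.2
    · rw [Subgroup.orderOf_coe]
      exact hx
    · rw [Subgroup.orderOf_coe]
      exact hy
  have hker : ∀ e : ↥E, ρ e = 1 ↔ ∀ x ∈ T, (e : MulAut W) x = x := by
    intro e
    constructor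
    · intro h x hx
      have h2 := congrArg (fun ψ : MulAut ↥T => ((ψ ⟨x, hx⟩ : ↥T) : W)) h
      exact h2
    · intro h
      ext x
      exact h x x.2
  rcases autA hT2 huniq hp ρ.range hA with h | ⟨hp3, hQ, hM, hfix, hcard⟩
  · left
    intro e he x hx
    have h1 : ρ ⟨e, he⟩ = 1 := by
      have h2 : ρ ⟨e, he⟩ ∈ ρ.range := ⟨_, rfl⟩
      rw [h] at h2
      exact Subgroup.mem_bot.1 h2
    exact (hker ⟨e, he⟩).1 h1 x hx
  · right
    refine ⟨hp3, hQ, ?_, ?_, ?_⟩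
    · rintro M hMT hMinv ⟨m, hmM, hm2⟩
      have h1 : M.subgroupOf T = ⊤ := by
        apply hM
        · rintro φ ⟨e, rfl⟩ x hx
          rw [Subgroup.mem_subgroupOf] at hx ⊢
          exact hMinv e e.2 x hx
        · refine ⟨⟨m, hMT hmM⟩, Subgroup.mem_subgroupOf.2 hmM, ?_⟩
          intro h
          apply hm2
          have := congrArg Subtype.val h
          rwa [Subgroup.coe_pow, Subgroup.coe_one] at this
      exact le_antisymm hMT (Subgroup.subgroupOf_eq_top.1 h1)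
    · intro x hx hxfix
      have h1 : (⟨x, hx⟩ : ↥T) ^ 2 = 1 := by
        apply hfix
        rintro φ ⟨e, rfl⟩
        exact Subtype.ext (hxfix e e.2)
      have := congrArg Subtype.val h1
      rwa [Subgroup.coe_pow, Subgroup.coe_one] at this
    · refine ⟨ρ.ker, ?_, ?_⟩
      · rw [Subgroup.index_ker]
        exact hcard
      · intro e
        rw [MonoidHom.mem_ker]
        exact hker e

end Cfsg.Agent.Lib.Helper94.QFixL2
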