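import Mathlib

set_option autoImplicit false

/-!
# S3913 piece DIM2: the stabilizer of a line in `GL₂(p)`, of order prime to `p`
-/

namespace Cfsg.Agent.Lib.Helper94.BG

theorem dim2_char (p : ℕ) [Fact p.Prime] {V : Type*} [AddCommGroup V] [Module (ZMod p) V]
    [Finite V]
    (hV : Nat.card V = p ^ 2) (U : AddSubgroup V) (hU : Nat.card ↥U = p)
    (S : Subgroup (V ≃ₗ[ZMod p] V)) (hSU : ∀ g ∈ S, ∀ u ∈ U, g u ∈ U)
    (hp : ¬ p ∣ Nat.card ↥S) :
    ∃ χ : ↥S →* (ZMod p)ˣ, ∀ s : ↥S, χ s = 1 →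
      ∃ k : ZMod p, ∀ v : V, (s : V ≃ₗ[ZMod p] V) v = k • v := by
  classical
  have hp' := (Fact.out : p.Prime)
  have hS0 : Nat.card ↥S ≠ 0 := fun h => hp (h ▸ dvd_zero p)
  -- `U` is closed under scalars
  have hUs : ∀ (k : ZMod p) (v : V), v ∈ U → k • v ∈ U := by
    intro k v hv
    have : k • v = k.val • v := by
      rw [← Nat.cast_smul_eq_nsmul (ZMod p), ZMod.natCast_zmod_val]
    rw [this]
    exact U.nsmul_mem hv _
  -- a nonzero vector of `U`
  obtain ⟨u, huU, hu0⟩ : ∃ u ∈ U, u ≠ 0 := by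
    by_contra hcon
    push Not at hcon
    have hbot : U = ⊥ := by
      rw [eq_bot_iff]
      intro v hv
      rw [AddSubgroup.mem_bot]
      exact hcon v hv
    rw [hbot, AddSubgroup.card_bot] at hU
    exact hp'.one_lt.ne hU
  -- `U` is the line through `u`
  have hUline : ∀ u' ∈ U, ∃ k : ZMod p, u' = k • u := by
    have hinj : Function.Injective (fun k : ZMod p => (⟨k • u, hUs k u huU⟩ : ↥U)) := by
      intro k k' hkk
      have h1 : k • u = k' • u := congrArg Subtype.val hkk
      have h2 : (k - k') • u = 0 := by rw [sub_smul, h1, sub_self]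
      rcases smul_eq_zero.1 h2 with h3 | h3
      · exact sub_eq_zero.1 h3
      · exact absurd h3 hu0
    have hbij := hinj.bijective_of_nat_card_le (by rw [Nat.card_zmod, hU])
    intro u' hu'
    obtain ⟨k, hk⟩ := hbij.2 ⟨u', hu'⟩
    exact ⟨k, (congrArg Subtype.val hk).symm⟩
  -- a vector outside `U`
  obtain ⟨w, hwU⟩ : ∃ w, w ∉ U := by
    by_contra hcon
    push Not at hcon
    have htop : U = ⊤ := by
      rw [eq_top_iff]
      intro v _
      exact hcon v
    rw [htop, AddSubgroup.card_top, hV] at hU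
    have h1 : p * p = p * 1 := by rw [mul_one, ← pow_two]; exact hU
    have h2 := Nat.eq_of_mul_eq_mul_left hp'.pos h1
    exact hp'.one_lt.ne h2.symm
  have hW : ∀ k : ZMod p, k • w ∈ U → k = 0 := by
    intro k hk
    by_contra hk0
    apply hwU
    have := hUs k⁻¹ _ hk
    rwa [smul_smul, inv_mul_cancel₀ hk0, one_smul] at this
  -- `V = U + (ZMod p) w`
  have hVdec : ∀ v : V, ∃ β : ZMod p, v - β • w ∈ U := by
    have hinj : Function.Injective (fun q : ↥U × ZMod p => (q.1 : V) + q.2 • w) := by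
      rintro ⟨u1, b1⟩ ⟨u2, b2⟩ h
      simp only at h
      have h1 : (b1 - b2) • w = (u2 : V) - u1 := by
        rw [sub_smul]
        rw [eq_sub_iff_add_eq, sub_add_eq_add_sub, sub_eq_iff_eq_add, add_comm, h, add_comm]
      have h2 : b1 - b2 = 0 := by
        apply hW
        rw [h1]
        exact U.sub_mem u2.2 u1.2
      have h3 : b1 = b2 := sub_eq_zero.1 h2
      subst h3
      have h4 : (u1 : V) = u2 := add_right_cancel h
      exact Prod.ext (Subtype.ext h4) rfl
    have hbij := hinj.bijective_of_nat_card_le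
      (by rw [Nat.card_prod, Nat.card_zmod, hU, hV, pow_two])
    intro v
    obtain ⟨⟨u1, b1⟩, hq⟩ := hbij.2 v
    refine ⟨b1, ?_⟩
    simp only at hq
    rw [← hq, add_sub_cancel_right]
    exact u1.2
  -- eigenvalue on `U`
  have hlam : ∀ g : ↥S, ∃ k : ZMod p, (g : V ≃ₗ[ZMod p] V) u = k • u :=
    fun g => hUline _ (hSU g g.2 u huU)
  have hlam_uniq : ∀ k k' : ZMod p, k • u = k' • u → k = k' := by
    intro k k' h1
    have h2 : (k - k') • u = 0 := by rw [sub_smul, h1, sub_self]
    rcases smul_eq_zero.1 h2 with h3 | h3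
    · exact sub_eq_zero.1 h3
    · exact absurd h3 hu0
  -- eigenvalue on `V / U`
  have hmu : ∀ g : ↥S, ∃ k : ZMod p, (g : V ≃ₗ[ZMod p] V) w - k • w ∈ U :=
    fun g => hVdec _
  have hmu_uniq : ∀ (v : V) (k k' : ZMod p), v - k • w ∈ U → v - k' • w ∈ U → k = k' := by
    intro v k k' h1 h2
    have h3 : (k - k') • w ∈ U := by
      have := U.sub_mem h2 h1
      have e : v - k' • w - (v - k • w) = (k - k') • w := by
        rw [sub_smul]; abel
      rwa [e] at this
    exact sub_eq_zero.1 (hW _ h3)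
  choose lamF hlamF using hlam
  choose muF hmuF using hmu
  let L : ↥S →* ZMod p :=
    { toFun := lamF
      map_one' := by
        apply hlam_uniq
        rw [← hlamF 1, one_smul]
        rfl
      map_mul' := by
        intro g h
        apply hlam_uniq
        rw [← hlamF (g * h)]
        have e1 : ((g * h : ↥S) : V ≃ₗ[ZMod p] V) u
            = (g : V ≃ₗ[ZMod p] V) ((h : V ≃ₗ[ZMod p] V) u) := rfl
        rw [e1, hlamF h, map_smul, hlamF g, smul_smul, mul_comm] }
  let M : ↥S →* ZMod p :=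
    { toFun := muF
      map_one' := by
        apply hmu_uniq (((1 : ↥S) : V ≃ₗ[ZMod p] V) w) _ _ (hmuF 1)
        have : ((1 : ↥S) : V ≃ₗ[ZMod p] V) w - (1 : ZMod p) • w = 0 := by
          rw [one_smul]
          exact sub_self w
        rw [this]
        exact U.zero_mem
      map_mul' := by
        intro g h
        apply hmu_uniq (((g * h : ↥S) : V ≃ₗ[ZMod p] V) w) _ _ (hmuF (g * h))
        have h1 := hmuF g
        have h2 := hmuF h
        have h3 := hSU g g.2 _ h2
        have h4 := hUs (muF h) _ h1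
        have h5 := U.add_mem h3 h4
        have e : ((g * h : ↥S) : V ≃ₗ[ZMod p] V) w - (muF g * muF h) • w
            = (g : V ≃ₗ[ZMod p] V) ((h : V ≃ₗ[ZMod p] V) w - muF h • w)
              + muF h • ((g : V ≃ₗ[ZMod p] V) w - muF g • w) := by
          have e0 : ((g * h : ↥S) : V ≃ₗ[ZMod p] V) w
              = (g : V ≃ₗ[ZMod p] V) ((h : V ≃ₗ[ZMod p] V) w) := rfl
          rw [e0, map_sub, map_smul, smul_sub, smul_smul, mul_comm]
          abel
        rw [e]
        exact h5 }
  have hLspec : ∀ g : ↥S, (g : V ≃ₗ[ZMod p] V) u = L g • u := fun g => hlamF g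
  have hMspec : ∀ g : ↥S, (g : V ≃ₗ[ZMod p] V) w - M g • w ∈ U := fun g => hmuF g
  refine ⟨L.toHomUnits / M.toHomUnits, ?_⟩
  intro s hs
  rw [MonoidHom.div_apply, div_eq_one] at hs
  have hLM : L s = M s := by
    have := congrArg Units.val hs
    rwa [MonoidHom.coe_toHomUnits, MonoidHom.coe_toHomUnits] at this
  have hζ0 : L s ≠ 0 := by
    intro h0
    have h1 := hLspec s
    rw [h0, zero_smul] at h1
    exact hu0 ((LinearEquiv.map_eq_zero_iff _).1 h1)
  -- `s` acts on `U` as the scalar `L s`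
  have hsU : ∀ u' ∈ U, (s : V ≃ₗ[ZMod p] V) u' = L s • u' := by
    intro u' hu'
    obtain ⟨k, rfl⟩ := hUline u' hu'
    rw [map_smul, hLspec s, smul_smul, smul_smul, mul_comm]
  have hu₀ : (s : V ≃ₗ[ZMod p] V) w - L s • w ∈ U := by
    rw [hLM]
    exact hMspec s
  have hsw : (s : V ≃ₗ[ZMod p] V) w = L s • w + ((s : V ≃ₗ[ZMod p] V) w - L s • w) := by
    abel
  -- powers of `s` on `w`
  have hpow : ∀ n : ℕ, L s • (((s : V ≃ₗ[ZMod p] V) ^ n) w)
      = L s ^ (n + 1) • w + ((n : ZMod p) * L s ^ n) • ((s : V ≃ₗ[ZMod p] V) w - L s • w) := by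
    intro n
    induction n with
    | zero => simp
    | succ n ih =>
      have e0 : (((s : V ≃ₗ[ZMod p] V) ^ (n + 1)) w)
          = (s : V ≃ₗ[ZMod p] V) (((s : V ≃ₗ[ZMod p] V) ^ n) w) := by
        rw [pow_succ']
        rfl
      rw [e0, ← map_smul, ih, map_add, map_smul, map_smul, hsU _ hu₀]
      nth_rewrite 1 [hsw]
      rw [smul_add, smul_smul, smul_smul, add_assoc, ← add_smul]
      congr 2
      · rw [← pow_succ]
      · push_cast
        ring
  have hone : (s : V ≃ₗ[ZMod p] V) ^ Nat.card ↥S = 1 := by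
    have := congrArg Subtype.val (pow_card_eq_one' (G := ↥S) (x := s))
    rwa [Subgroup.coe_pow, Subgroup.coe_one] at this
  have h1 := hpow (Nat.card ↥S)
  rw [hone] at h1
  have h2 : (L s - L s ^ (Nat.card ↥S + 1)) • w
      = ((Nat.card ↥S : ZMod p) * L s ^ Nat.card ↥S)
        • ((s : V ≃ₗ[ZMod p] V) w - L s • w) := by
    rw [sub_smul, sub_eq_iff_eq_add, add_comm]
    exact h1
  have h3 : L s - L s ^ (Nat.card ↥S + 1) = 0 := by
    apply hW
    rw [h2]
    exact hUs _ _ hu₀
  rw [h3, zero_smul] at h2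
  have h4 : (s : V ≃ₗ[ZMod p] V) w - L s • w = 0 := by
    rcases smul_eq_zero.1 h2.symm with h5 | h5
    · exfalso
      rcases mul_eq_zero.1 h5 with h6 | h6
      · exact hp ((ZMod.natCast_eq_zero_iff _ _).1 h6)
      · exact hζ0 (pow_eq_zero_iff hS0 |>.1 h6)
    · exact h5
  have h5 : (s : V ≃ₗ[ZMod p] V) w = L s • w := sub_eq_zero.1 h4
  refine ⟨L s, fun v => ?_⟩
  obtain ⟨β, hβ⟩ := hVdec v
  have e : v = (v - β • w) + β • w := by abel
  rw [e, map_add, hsU _ hβ, map_smul, h5, smul_add, smul_comm]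

end Cfsg.Agent.Lib.Helper94.BG
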