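import Mathlib

/-! S2075 (helper70), piece H3FIN: an automorphism fixing `C(f)` pointwise is `1` or conjugation
by `f`. -/

set_option autoImplicit false

namespace Cfsg.Agent.Lib.Helper94.HeOH3FIN

theorem h3fin_L1 {G : Type} [Group G] (e f g : G) (hff : f * f = 1) (hef : e * f = f * e)
    (he : e = f * g * f * g) : (g * f * g) * f = f * (g * f * g) := by
  subst he
  calc g * f * g * f = (f * f) * (g * f * g * f) := by rw [hff, one_mul]
    _ = f * (f * g * f * g * f) := by simp only [mul_assoc]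
    _ = f * (f * (f * g * f * g)) := by rw [hef]
    _ = f * ((f * f) * (g * f * g)) := by simp only [mul_assoc]
    _ = f * (g * f * g) := by rw [hff, one_mul]

theorem h3fin_L2 {G : Type} [Group G] (f g g' : G) (hgg : g * g = 1) (hg'g' : g' * g' = 1)
    (h : g' * f * g' = g * f * g) : (g * g') * f = f * (g * g') := by
  calc g * g' * f = g * (g' * f * (g' * g')) := by rw [hg'g', mul_one, mul_assoc]
    _ = g * ((g' * f * g') * g') := by simp only [mul_assoc]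
    _ = g * ((g * f * g) * g') := by rw [h]
    _ = (g * g) * (f * (g * g')) := by simp only [mul_assoc]
    _ = f * (g * g') := by rw [hgg, one_mul]

theorem h3fin_L4a {G : Type} [Group G] (e f g : G) (hff : f * f = 1) (he : e = f * g * f * g)
    (h : (g * f) * (g * f) = 1) : e = 1 := by
  subst he
  calc f * g * f * g = f * g * f * g * (f * f) := by rw [hff, mul_one]
    _ = f * ((g * f) * (g * f)) * f := by simp only [mul_assoc]
    _ = 1 := by rw [h, mul_one, hff]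

theorem h3fin_L4c {G : Type} [Group G] (e f g : G) (hee : e * e = 1) (hge : g * e = e * g)
    (hef : e * f = f * e) (h : (g * (e * f)) * (g * (e * f)) = 1) : (g * f) * (g * f) = 1 := by
  have h1 : g * (e * f) = e * (g * f) := by rw [← mul_assoc, hge, mul_assoc]
  have h2 : (g * f) * e = e * (g * f) := by
    rw [mul_assoc, ← hef, ← mul_assoc, hge, mul_assoc]
  rw [h1] at h
  calc (g * f) * (g * f) = (e * e) * ((g * f) * (g * f)) := by rw [hee, one_mul]
    _ = e * (e * (g * f)) * (g * f) := by simp only [mul_assoc]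
    _ = e * ((g * f) * e) * (g * f) := by rw [h2]
    _ = (e * (g * f)) * (e * (g * f)) := by simp only [mul_assoc]
    _ = 1 := h

theorem h3fin_L5 {G : Type} [Group G] (e f g : G) (hgg : g * g = 1) (hge : g * e = e * g)
    (he : e = f * g * f * g) : g * e = f * g * f := by
  calc g * e = e * g := hge
    _ = f * g * f * g * g := by rw [he]
    _ = f * g * f * (g * g) := by rw [mul_assoc]
    _ = f * g * f := by rw [hgg, mul_one]

theorem h3fin_gen {G : Type} [Group G] (φ : MulAut G) (g0 : G) :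
    ∃ N : Subgroup G, ∀ x, x ∈ N ↔ φ x = g0 * x * g0⁻¹ :=
  ⟨{ carrier := {x | φ x = g0 * x * g0⁻¹}
     mul_mem' := by
       intro x y hx hy
       simp only [Set.mem_setOf_eq] at hx hy ⊢
       rw [map_mul, hx, hy]
       group
     one_mem' := by
       simp only [Set.mem_setOf_eq]
       rw [map_one]
       group
     inv_mem' := by
       intro x hx
       simp only [Set.mem_setOf_eq] at hx ⊢
       rw [map_inv, hx]
       group }, fun x => Iff.rfl⟩

/-- PIECE H3FIN.  An automorphism fixing `C(f)` pointwise is `1` or conjugation by `f = γ 5`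
(generators `a..g = γ 0..γ 6`; `e = (fg)²`; `d` a product of `g`'s and elements of `C(f)`).
Proof: `g' := φ g`; `g f g ∈ C(f)` so `g' f g' = g f g`, `c := g g' ∈ C(f)`, `c` commutes with `a, b, c, e`
(as `g` and `g'` do), so `c ∈ {1, e, f, ef}` by `hZ`; `g'² = 1` excludes `f, ef` (`(gf)² = e ≠ 1`);
`g e = f g f`.  So `φ g = g` or `f g f⁻¹`; then `φ d = d` resp. `f d f⁻¹` by `hd`; conclude with `hgen`
(equaliser subgroup of `φ` and `1` resp. `MulAut.conj (γ 5)`). -/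
theorem inner_of_fix_cent {G : Type} [Group G] (γ : ℕ → G)
    (hgen : ∀ N : Subgroup G, (∀ s < 7, γ s ∈ N) → N = ⊤)
    (hinv : ∀ s, γ s * γ s = 1)
    (hf0 : γ 0 * γ 5 = γ 5 * γ 0) (hf1 : γ 1 * γ 5 = γ 5 * γ 1) (hf2 : γ 2 * γ 5 = γ 5 * γ 2)
    (hf4 : γ 4 * γ 5 = γ 5 * γ 4)
    (hg0 : γ 6 * γ 0 = γ 0 * γ 6) (hg1 : γ 6 * γ 1 = γ 1 * γ 6) (hg2 : γ 6 * γ 2 = γ 2 * γ 6)
    (hg4 : γ 6 * γ 4 = γ 4 * γ 6)
    (he : γ 4 = γ 5 * γ 6 * γ 5 * γ 6) (hne : γ 4 ≠ 1)
    (hZ : ∀ c : G, c * γ 5 = γ 5 * c → c * γ 0 = γ 0 * c → c * γ 1 = γ 1 * c → c * γ 2 = γ 2 * c →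
      c * γ 4 = γ 4 * c → c = 1 ∨ c = γ 4 ∨ c = γ 5 ∨ c = γ 4 * γ 5)
    (ds : List G) (hds : ∀ y ∈ ds, y = γ 6 ∨ y * γ 5 = γ 5 * y) (hd : γ 3 = ds.prod)
    (φ : MulAut G) (hφ : ∀ c : G, c * γ 5 = γ 5 * c → φ c = c) :
    ∃ g : G, ∀ x, φ x = g * x * g⁻¹ := by
  have hff : γ 5 * γ 5 = 1 := hinv 5
  have hgg : γ 6 * γ 6 = 1 := hinv 6
  have hee : γ 4 * γ 4 = 1 := hinv 4
  have hφf : φ (γ 5) = γ 5 := hφ _ rfl
  have hφ0 : φ (γ 0) = γ 0 := hφ _ hf0
  have hφ1 : φ (γ 1) = γ 1 := hφ _ hf1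
  have hφ2 : φ (γ 2) = γ 2 := hφ _ hf2
  have hφ4 : φ (γ 4) = γ 4 := hφ _ hf4
  have hA : (γ 6 * γ 5 * γ 6) * γ 5 = γ 5 * (γ 6 * γ 5 * γ 6) :=
    h3fin_L1 (γ 4) (γ 5) (γ 6) hff hf4 he
  have hB : φ (γ 6) * γ 5 * φ (γ 6) = γ 6 * γ 5 * γ 6 := by
    have h1 := hφ _ hA
    rw [map_mul, map_mul, hφf] at h1
    exact h1
  have hg'g' : φ (γ 6) * φ (γ 6) = 1 := by rw [← map_mul, hgg, map_one]
  have hcf : (γ 6 * φ (γ 6)) * γ 5 = γ 5 * (γ 6 * φ (γ 6)) :=
    h3fin_L2 (γ 5) (γ 6) (φ (γ 6)) hgg hg'g' hB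
  have hc : ∀ x : G, γ 6 * x = x * γ 6 → φ x = x →
      (γ 6 * φ (γ 6)) * x = x * (γ 6 * φ (γ 6)) := by
    intro x hx hφx
    have h1 : φ (γ 6) * x = x * φ (γ 6) := by
      have h2 := congrArg φ hx
      rw [map_mul, map_mul, hφx] at h2
      exact h2
    exact ((show Commute (γ 6) x from hx).mul_left (show Commute (φ (γ 6)) x from h1)).eq
  have hZ' := hZ (γ 6 * φ (γ 6)) hcf (hc _ hg0 hφ0) (hc _ hg1 hφ1) (hc _ hg2 hφ2) (hc _ hg4 hφ4)
  have hgc : ∀ c : G, γ 6 * φ (γ 6) = c → φ (γ 6) = γ 6 * c := by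
    intro c h
    rw [← h, ← mul_assoc, hgg, one_mul]
  have key : ∃ g0 : G, (∀ y, y * γ 5 = γ 5 * y → φ y = g0 * y * g0⁻¹) ∧
      φ (γ 6) = g0 * γ 6 * g0⁻¹ := by
    rcases hZ' with h | h | h | h
    · refine ⟨1, fun y hy => ?_, ?_⟩
      · rw [hφ y hy]
        group
      · rw [hgc _ h]
        group
    · refine ⟨γ 5, fun y hy => ?_, ?_⟩
      · rw [hφ y hy, ← hy, mul_assoc, mul_inv_cancel, mul_one]
      · have hfi : (γ 5)⁻¹ = γ 5 := inv_eq_of_mul_eq_one_left hff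
        rw [hgc _ h, hfi]
        exact h3fin_L5 (γ 4) (γ 5) (γ 6) hgg hg4 he
    · exfalso
      rw [hgc _ h] at hg'g'
      exact hne (h3fin_L4a (γ 4) (γ 5) (γ 6) hff he hg'g')
    · exfalso
      rw [hgc _ h] at hg'g'
      exact hne (h3fin_L4a (γ 4) (γ 5) (γ 6) hff he
        (h3fin_L4c (γ 4) (γ 5) (γ 6) hee hg4 hf4 hg'g'))
  obtain ⟨g0, hy, hg6⟩ := key
  obtain ⟨N, hN⟩ := h3fin_gen φ g0
  have hNtop : N = ⊤ := by
    apply hgen
    intro s hs
    interval_cases s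
    · exact (hN _).2 (hy _ hf0)
    · exact (hN _).2 (hy _ hf1)
    · exact (hN _).2 (hy _ hf2)
    · rw [hd]
      refine list_prod_mem (fun y hyds => ?_)
      rcases hds y hyds with h | h
      · rw [h]
        exact (hN _).2 hg6
      · exact (hN _).2 (hy _ h)
    · exact (hN _).2 (hy _ hf4)
    · exact (hN _).2 (hy _ rfl)
    · exact (hN _).2 hg6
  refine ⟨g0, fun x => (hN x).1 ?_⟩
  rw [hNtop]
  exact Subgroup.mem_top x

end Cfsg.Agent.Lib.Helper94.HeOH3FIN
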