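import Mathlib
import Cfsg.Agent.Lib.Helper81.AQDefs

/-!
# Project AQ (S3911, helper81): piece QUOT2 (`final_of_lift`), helper94

From the lifting lemma (`hlift`) and the facts on preimages (`hq`): two abelian subgroups of
`G ⧸ M` of the same order are conjugate, as their abelian lifts are conjugate in `G`.
-/

set_option autoImplicit false

namespace Cfsg.Agent.Lib.Helper81.AQ

variable {G : Type*} [Group G]

-- piece QUOT2
theorem final_of_lift [Finite G] (hB : Star G) (M : Subgroup G) [M.Normal]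
    (hlift : ∀ L : Subgroup G, M ≤ L → AbMod L M → LiftC M L)
    (hq : ∀ A : Subgroup (G ⧸ M), IsMulCommutative ↥A → ComapC M A) :
    ∀ A B : Subgroup (G ⧸ M), IsMulCommutative ↥A → IsMulCommutative ↥B →
      Nat.card ↥A = Nat.card ↥B → ∃ g : G ⧸ M, B = A.map (MulAut.conj g).toMonoidHom := by
  intro A B hA hBc hcard
  obtain ⟨hMA, habA, hrelA, hcA⟩ := hq A hA
  obtain ⟨hMB, habB, hrelB, hcB⟩ := hq B hBc
  obtain ⟨A', hA'c, hA'L, hA'M, hA'F⟩ := hlift _ hMA habA
  obtain ⟨B', hB'c, hB'L, hB'M, hB'F⟩ := hlift _ hMB habB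
  have hcardAB : Nat.card A' = Nat.card B' := by
    apply Nat.eq_of_factorization_eq Nat.card_pos.ne' Nat.card_pos.ne'
    intro q
    by_cases hqp : q.Prime
    · rw [hA'F q hqp, hB'F q hqp, hrelA, hrelB, hcA, hcB, hcard]
    · rw [Nat.factorization_eq_zero_of_not_prime _ hqp,
        Nat.factorization_eq_zero_of_not_prime _ hqp]
  obtain ⟨g, hg⟩ := hB A' B' hA'c hB'c hcardAB
  refine ⟨(g : G ⧸ M), ?_⟩
  have hBmap : B = B'.map (QuotientGroup.mk' M) := by
    have h1 : (B.comap (QuotientGroup.mk' M)).map (QuotientGroup.mk' M) = B :=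
      Subgroup.map_comap_eq_self_of_surjective (QuotientGroup.mk'_surjective M) B
    rw [← hB'M, Subgroup.map_sup, QuotientGroup.map_mk'_self, sup_bot_eq] at h1
    exact h1.symm
  have hAmap : A = A'.map (QuotientGroup.mk' M) := by
    have h1 : (A.comap (QuotientGroup.mk' M)).map (QuotientGroup.mk' M) = A :=
      Subgroup.map_comap_eq_self_of_surjective (QuotientGroup.mk'_surjective M) A
    rw [← hA'M, Subgroup.map_sup, QuotientGroup.map_mk'_self, sup_bot_eq] at h1
    exact h1.symm
  have hhom : (QuotientGroup.mk' M).comp (MulAut.conj g).toMonoidHom =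
      (MulAut.conj (g : G ⧸ M)).toMonoidHom.comp (QuotientGroup.mk' M) := by
    ext x
    simp
  rw [hBmap, hg, hAmap, Subgroup.map_map, Subgroup.map_map, hhom]

end Cfsg.Agent.Lib.Helper81.AQ
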