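import Mathlib
import Cfsg.Prelude.Def_GeometricClasses
import Cfsg.Prelude.Def_LieClassical
import Cfsg.Agent.Lib.Helper71.Asch5
import Cfsg.Agent.Lib.Helper82.ASB8UNITS
import Cfsg.Agent.Lib.Helper44.BADDefs

/-! Project BAD (helper44; sub-project of helper49's SUG = S5663), piece SSPAN. -/

set_option autoImplicit false

namespace Cfsg.Agent.Lib.Helper44.BAD

open Matrix Cfsg.Geo Cfsg.Agent.Lib.Helper71.Asch
open scoped Kronecker

variable {n : ℕ} {F : Type*} [Field F] [Fintype F] {q : ℕ}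

omit [Fintype F] in
theorem SSPAN_decomp (M : Matrix (Fin 3) (Fin 3) F) :
    M = Matrix.diagonal ![M 0 0, M 1 1, M 2 2] + Matrix.diagonal ![M 0 2, M 1 0, M 2 1] * bY F
      + Matrix.diagonal ![M 0 1, M 1 2, M 2 0] * bY F * bY F := by
  ext i j
  fin_cases i <;> fin_cases j <;>
    simp [bY, Matrix.mul_apply, Fin.sum_univ_three, Matrix.diagonal]

omit [Fintype F] in
theorem SSPAN_diag (ω : F) (h2 : (2 : F) = 0) (h3 : ω ^ 2 + ω + 1 = 0) (x y z : F) :
    Matrix.diagonal ![x, y, z] =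
      (x + y + z) • Matrix.diagonal ![1, (1 : F), (1 : F) ^ 2] +
        (x + ω ^ 2 * y + ω * z) • Matrix.diagonal ![1, ω, ω ^ 2] +
        (x + ω * y + ω ^ 2 * z) • Matrix.diagonal ![1, ω ^ 2, (ω ^ 2) ^ 2] := by
  have e0 : (x + y + z) + (x + ω ^ 2 * y + ω * z) + (x + ω * y + ω ^ 2 * z) = x := by
    linear_combination x * h2 + (y + z) * h3
  have e1 : (x + y + z) + (x + ω ^ 2 * y + ω * z) * ω + (x + ω * y + ω ^ 2 * z) * ω ^ 2 = y := by
    linear_combination (x + z * (ω ^ 2 - ω + 1)) * h3 + y * ω ^ 3 * h2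
  have e2 : (x + y + z) + (x + ω ^ 2 * y + ω * z) * ω ^ 2 +
      (x + ω * y + ω ^ 2 * z) * (ω ^ 2) ^ 2 = z := by
    linear_combination (x * (ω ^ 2 - ω + 1) + y * (ω ^ 3 - ω + 1) + z * ω ^ 3 * (ω - 1)) * h3 +
      z * ω ^ 3 * h2
  ext i j
  fin_cases i <;> fin_cases j <;> simp [Matrix.diagonal]
  · linear_combination (-1 : F) * e0
  · linear_combination (-1 : F) * e1
  · linear_combination (-1 : F) * e2

/-- SSPAN: `bS` spans the matrix algebra. -/
theorem SSPAN (hF : Fintype.card F = 4) : Submodule.span F (bS F) = ⊤ := by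
  classical
  have h4 : (4 : F) = 0 := by
    have h5 := Nat.cast_card_eq_zero F
    rw [hF] at h5
    exact_mod_cast h5
  have h2 : (2 : F) = 0 := by
    have h5 : (2 : F) * 2 = 0 := by rw [← h4]; norm_num
    exact mul_self_eq_zero.mp h5
  obtain ⟨ω, hω0, hω1⟩ : ∃ ω : F, ω ≠ 0 ∧ ω ≠ 1 := by
    by_contra hcon
    have hsub : (Finset.univ : Finset F) ⊆ {0, 1} := by
      intro x _
      by_cases hx : x = 0
      · simp [hx]
      · by_cases hx1 : x = 1
        · simp [hx1]
        · exact absurd ⟨x, hx, hx1⟩ hcon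
    have h5 := Finset.card_le_card hsub
    rw [Finset.card_univ, hF] at h5
    have h6 : ({0, 1} : Finset F).card ≤ 2 := Finset.card_le_two
    omega
  have hω3 : ω ^ 3 = 1 := by
    have h5 := FiniteField.pow_card_sub_one_eq_one ω hω0
    rwa [hF] at h5
  have h3 : ω ^ 2 + ω + 1 = 0 := by
    have h7 : (ω - 1) * (ω ^ 2 + ω + 1) = 0 := by
      linear_combination hω3
    rcases mul_eq_zero.mp h7 with h | h
    · exact absurd (sub_eq_zero.mp h) hω1
    · exact h
  have hω2 : ω ^ 2 ≠ 0 := pow_ne_zero 2 hω0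
  have hD : ∀ d : F, d ≠ 0 → Matrix.diagonal ![1, d, d ^ 2] ∈ Submodule.span F (bS F) := by
    intro d hd
    apply Submodule.subset_span
    refine ⟨1, d, 0, one_ne_zero, hd, ?_⟩
    rw [pow_zero, mul_one, one_smul]
  have hdiag : ∀ x y z : F, Matrix.diagonal ![x, y, z] ∈ Submodule.span F (bS F) := by
    intro x y z
    rw [SSPAN_diag ω h2 h3 x y z]
    exact Submodule.add_mem _ (Submodule.add_mem _ (Submodule.smul_mem _ _ (hD 1 one_ne_zero))
      (Submodule.smul_mem _ _ (hD ω hω0))) (Submodule.smul_mem _ _ (hD (ω ^ 2) hω2))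
  have hY : ∀ X ∈ Submodule.span F (bS F), X * bY F ∈ Submodule.span F (bS F) := by
    intro X hX
    induction hX using Submodule.span_induction with
    | mem X hX =>
      obtain ⟨c, d, k, hc, hd, rfl⟩ := hX
      apply Submodule.subset_span
      refine ⟨c, d, k + 1, hc, hd, ?_⟩
      rw [Matrix.smul_mul, Matrix.mul_assoc, ← pow_succ]
    | zero =>
      rw [Matrix.zero_mul]
      exact Submodule.zero_mem _
    | add X₁ X₂ _ _ h₁ h₂ =>
      rw [Matrix.add_mul]
      exact Submodule.add_mem _ h₁ h₂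
    | smul c X₁ _ h₁ =>
      rw [Matrix.smul_mul]
      exact Submodule.smul_mem _ c h₁
  rw [eq_top_iff]
  intro M _
  rw [SSPAN_decomp M]
  exact Submodule.add_mem _ (Submodule.add_mem _ (hdiag _ _ _) (hY _ (hdiag _ _ _)))
    (hY _ (hY _ (hdiag _ _ _)))

end Cfsg.Agent.Lib.Helper44.BAD
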