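import Mathlib
import Cfsg.Agent.Lib.Helper15.BG13CDefs
import Cfsg.Agent.S0055

set_option autoImplicit false

open Cfsg Cfsg.Agent.Lib.Helper32 Cfsg.Agent.Lib.Helper32.BG10 Cfsg.Agent.Lib.Helper3.BG12

namespace Cfsg.Agent.Lib.Helper15.BG13C

universe u

variable {G : Type u} [Group G] [Finite G]

theorem cycfree : CycFreeStmt G := by
  intro q _ Q R hQ hcyc hRp hcop hRN hRC a ha z hz hz1 hcomm
  by_contra ha1
  have : IsMulCommutative ↥Q := IsCyclic.isMulCommutative
  have hQcomm : ∀ x ∈ Q, ∀ y ∈ Q, x * y = y * x := by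
    intro x hx y hy
    have := isMulCommutative_iff.mp (inferInstance : IsMulCommutative ↥Q) ⟨x, hx⟩ ⟨y, hy⟩
    exact congrArg Subtype.val this
  -- `R` centralizes `a`
  have hRa : R ≤ Subgroup.centralizer ({a} : Set G) := by
    have : Fact (Nat.card ↥R).Prime := ⟨hRp⟩
    have h1 := Subgroup.eq_bot_or_eq_top_of_prime_card
      ((Subgroup.centralizer ({a} : Set G)).subgroupOf R)
    rcases h1 with h1 | h1
    · exfalso
      have hmem : (⟨z, hz⟩ : R) ∈ (Subgroup.centralizer ({a} : Set G)).subgroupOf R := by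
        rw [Subgroup.mem_subgroupOf, Subgroup.mem_centralizer_iff]
        intro y hy
        rw [Set.mem_singleton_iff] at hy
        subst hy
        exact hcomm.symm
      rw [h1, Subgroup.mem_bot] at hmem
      exact hz1 (congrArg Subtype.val hmem)
    · rw [Subgroup.subgroupOf_eq_top] at h1
      exact h1
  have haC : a ∈ Q ⊓ Subgroup.centralizer (R : Set G) := by
    refine Subgroup.mem_inf.2 ⟨ha, ?_⟩
    rw [Subgroup.mem_centralizer_iff]
    intro y hy
    have h2 := hRa hy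
    rw [Subgroup.mem_centralizer_iff] at h2
    exact (h2 a rfl).symm
  have hcop' : (Nat.card R).Coprime (Nat.card Q) := by
    obtain ⟨n, hn⟩ := (IsPGroup.iff_card).1 hQ
    rw [hn]
    exact Nat.Coprime.pow_right n hcop
  obtain ⟨hbot, hsup⟩ := Cfsg.Agent.S0055.result R Q hRN hcop'
  have hC0Q : Q ⊓ Subgroup.centralizer (R : Set G) ≤ Q := inf_le_left
  have hDQ : ⁅Q, R⁆ ≤ Q := by
    have h3 : ⁅Q, R⁆ ≤ (Q ⊓ Subgroup.centralizer (R : Set G)) ⊔ ⁅Q, R⁆ := le_sup_right
    rw [hsup] at h3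
    exact h3
  have hDbot : ⁅Q, R⁆ = ⊥ := by
    obtain ⟨i, hi⟩ := (IsPGroup.iff_card).1 (hQ.to_le hC0Q)
    obtain ⟨j, hj⟩ := (IsPGroup.iff_card).1 (hQ.to_le hDQ)
    let S : Subgroup G :=
      { carrier := {x | x ∈ Q ∧ x ^ (q ^ max i j) = 1}
        mul_mem' := by
          rintro x y ⟨hx, hx1⟩ ⟨hy, hy1⟩
          refine ⟨Q.mul_mem hx hy, ?_⟩
          have hc : Commute x y := hQcomm x hx y hy
          rw [hc.mul_pow, hx1, hy1, one_mul]
        one_mem' := ⟨Q.one_mem, one_pow _⟩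
        inv_mem' := by
          rintro x ⟨hx, hx1⟩
          exact ⟨Q.inv_mem hx, by rw [inv_pow, hx1, inv_one]⟩ }
    have hCS : Q ⊓ Subgroup.centralizer (R : Set G) ≤ S := by
      intro x hx
      refine ⟨hC0Q hx, ?_⟩
      have h1 : x ^ Nat.card ↥(Q ⊓ Subgroup.centralizer (R : Set G)) = 1 := by
        have h4 := pow_card_eq_one' (G := ↥(Q ⊓ Subgroup.centralizer (R : Set G))) (x := ⟨x, hx⟩)
        exact congrArg Subtype.val h4
      rw [hi] at h1
      obtain ⟨k, hk⟩ := pow_dvd_pow q (le_max_left i j)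
      rw [hk, pow_mul, h1, one_pow]
    have hDS : ⁅Q, R⁆ ≤ S := by
      intro x hx
      refine ⟨hDQ hx, ?_⟩
      have h1 : x ^ Nat.card ↥(⁅Q, R⁆ : Subgroup G) = 1 := by
        have h4 := pow_card_eq_one' (G := ↥(⁅Q, R⁆ : Subgroup G)) (x := ⟨x, hx⟩)
        exact congrArg Subtype.val h4
      rw [hj] at h1
      obtain ⟨k, hk⟩ := pow_dvd_pow q (le_max_right i j)
      rw [hk, pow_mul, h1, one_pow]
    obtain ⟨g, hg⟩ := IsCyclic.exists_ofOrder_eq_natCard (α := ↥Q)
    have hgS : (g : G) ∈ S := by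
      have h5 : (g : G) ∈ (Q ⊓ Subgroup.centralizer (R : Set G)) ⊔ ⁅Q, R⁆ := by
        rw [hsup]
        exact g.2
      exact (sup_le hCS hDS) h5
    have hord : Nat.card Q ∣ q ^ max i j := by
      rw [← hg, ← Subgroup.orderOf_coe]
      exact orderOf_dvd_of_pow_eq_one hgS.2
    have hle : Nat.card Q ≤ q ^ max i j :=
      Nat.le_of_dvd (pow_pos (Fact.out : q.Prime).pos _) hord
    rcases le_total i j with hij | hij
    · rw [max_eq_right hij, ← hj] at hle
      have hDQ' : ⁅Q, R⁆ = Q := Subgroup.eq_of_le_of_card_ge hDQ hle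
      exfalso
      have h6 : a ∈ (Q ⊓ Subgroup.centralizer (R : Set G)) ⊓ ⁅Q, R⁆ :=
        Subgroup.mem_inf.2 ⟨haC, by rw [hDQ']; exact ha⟩
      rw [hbot, Subgroup.mem_bot] at h6
      exact ha1 h6
    · rw [max_eq_left hij, ← hi] at hle
      have hCQ' : Q ⊓ Subgroup.centralizer (R : Set G) = Q :=
        Subgroup.eq_of_le_of_card_ge hC0Q hle
      have h7 : ⁅Q, R⁆ ≤ (Q ⊓ Subgroup.centralizer (R : Set G)) ⊓ ⁅Q, R⁆ :=
        le_inf (by rw [hCQ']; exact hDQ) le_rfl
      rw [hbot] at h7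
      exact le_bot_iff.1 h7
  apply hRC
  rw [← Subgroup.commutator_eq_bot_iff_le_centralizer, Subgroup.commutator_comm]
  exact hDbot

end Cfsg.Agent.Lib.Helper15.BG13C
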