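import Cfsg.Agent.Lib.Helper94.LargeExtra

set_option autoImplicit false

namespace Cfsg.Agent.Lib.Helper94

variable {G : Type*} [Group G]

namespace ExtraAt

variable {P : Subgroup G} {x : G}

theorem inv_eq (h : ExtraAt P x) : x⁻¹ = x := inv_eq_of_mul_eq_one_left h.sq

theorem comm_or (h : ExtraAt P x) {a v : G} (ha : a ∈ P) (hv : v ∈ P) :
    a * v = v * a ∨ a * v = x * v * a := by
  rcases h.comm a ha v hv with h1 | h1
  · left
    have := congrArg (fun t => t * v * a) h1
    simpa [mul_assoc] using this
  · right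
    have := congrArg (fun t => t * v * a) h1
    simpa [mul_assoc] using this

theorem ne_of_twist (h : ExtraAt P x) {a v : G} (h1 : a * v = x * v * a) : a * v ≠ v * a := by
  intro h2
  apply h.ne_one
  have h3 : x * (v * a) = 1 * (v * a) := by rw [one_mul, ← mul_assoc, ← h1, h2]
  exact mul_right_cancel h3

/-- Commuting with a fixed element is "additive" in the other argument. -/
theorem mul_comm_iff (h : ExtraAt P x) {g g' v : G} (hg : g ∈ P) (hg' : g' ∈ P) (hv : v ∈ P) :
    (g * g' * v = v * (g * g')) ↔ ((g * v = v * g) ↔ (g' * v = v * g')) := by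
  have hxg : g * x = x * g := h.central g hg
  rcases h.comm_or hg hv with h1 | h1 <;> rcases h.comm_or hg' hv with h2 | h2
  · have : g * g' * v = v * (g * g') := by
      rw [mul_assoc, h2, ← mul_assoc, h1, mul_assoc]
    simp [this, h1, h2]
  · have hn := h.ne_of_twist h2
    have e : g * g' * v = x * (v * (g * g')) := by
      rw [mul_assoc, h2, ← mul_assoc, ← mul_assoc, hxg, mul_assoc x, h1]; simp only [mul_assoc]
    have : g * g' * v ≠ v * (g * g') := by
      rw [e]
      intro h3
      apply h.ne_one
      have h4 : x * (v * (g * g')) = 1 * (v * (g * g')) := by rw [one_mul]; exact h3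
      exact mul_right_cancel h4
    simp [this, h1, hn]
  · have hn := h.ne_of_twist h1
    have e : g * g' * v = x * (v * (g * g')) := by
      rw [mul_assoc, h2, ← mul_assoc, h1]; simp only [mul_assoc]
    have : g * g' * v ≠ v * (g * g') := by
      rw [e]
      intro h3
      apply h.ne_one
      have h4 : x * (v * (g * g')) = 1 * (v * (g * g')) := by rw [one_mul]; exact h3
      exact mul_right_cancel h4
    simp [this, h2, hn]
  · have hn1 := h.ne_of_twist h1
    have hn2 := h.ne_of_twist h2
    have : g * g' * v = v * (g * g') := by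
      calc g * g' * v = g * (x * v * g') := by rw [mul_assoc, h2]
        _ = (g * x) * v * g' := by simp only [mul_assoc]
        _ = x * (g * v) * g' := by rw [hxg]; simp only [mul_assoc]
        _ = (x * x) * v * g * g' := by rw [h1]; simp only [mul_assoc]
        _ = v * (g * g') := by rw [h.sq, one_mul, mul_assoc]
    simp [this, hn1, hn2]

/-- The same in the second argument. -/
theorem comm_mul_iff (h : ExtraAt P x) {g v w : G} (hg : g ∈ P) (hv : v ∈ P) (hw : w ∈ P) :
    (g * (v * w) = v * w * g) ↔ ((g * v = v * g) ↔ (g * w = w * g)) := by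
  have := h.mul_comm_iff hv hw hg
  constructor
  · intro h1
    have h2 := this.mp h1.symm
    constructor
    · intro h3; exact (h2.mp h3.symm).symm
    · intro h3; exact (h2.mpr h3.symm).symm
  · intro h1
    refine (this.mpr ?_).symm
    constructor
    · intro h3; exact (h1.mp h3.symm).symm
    · intro h3; exact (h1.mpr h3.symm).symm

/-- Double centralizer property, finset form. -/
theorem exists_centralizing (h : ExtraAt P x) (Y : Finset G) :
    (∀ y ∈ Y, y ∈ P) → ∀ w ∈ P, w ∉ Subgroup.closure (insert x (Y : Set G)) →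
      ∃ g ∈ P, (∀ y ∈ Y, g * y = y * g) ∧ g * w ≠ w * g := by
  classical
  induction Y using Finset.induction_on with
  | empty =>
    intro _ w hw hwn
    have hw1 : w ≠ 1 := fun e => hwn (e ▸ Subgroup.one_mem _)
    have hwx : w ≠ x := fun e => hwn (e ▸ Subgroup.subset_closure (Set.mem_insert _ _))
    have hnc : ¬ ∀ v ∈ P, w * v = v * w := fun hc => by
      rcases h.center w hw hc with h1 | h1
      · exact hw1 h1
      · exact hwx h1
    push Not at hnc
    obtain ⟨g, hg, hgw⟩ := hnc
    exact ⟨g, hg, by simp, fun e => hgw e.symm⟩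
  | insert y Y hyY ih =>
    intro hY w hw hwn
    have hYP : ∀ y' ∈ Y, y' ∈ P := fun y' hy' => hY y' (Finset.mem_insert_of_mem hy')
    have hyP : y ∈ P := hY y (Finset.mem_insert_self _ _)
    have ih' := ih hYP
    have hle : Subgroup.closure (insert x (Y : Set G)) ≤
        Subgroup.closure (insert x ((insert y Y : Finset G) : Set G)) := by
      apply Subgroup.closure_mono
      intro t ht
      rcases ht with ht | ht
      · exact Or.inl ht
      · right
        exact Finset.mem_coe.mpr (Finset.mem_insert_of_mem (Finset.mem_coe.mp ht))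
    have hyC' : y ∈ Subgroup.closure (insert x ((insert y Y : Finset G) : Set G)) := by
      apply Subgroup.subset_closure
      right
      exact Finset.mem_coe.mpr (Finset.mem_insert_self _ _)
    have hwC : w ∉ Subgroup.closure (insert x (Y : Set G)) := fun e => hwn (hle e)
    by_cases hyC : y ∈ Subgroup.closure (insert x (Y : Set G))
    · obtain ⟨g, hg, hgY, hgw⟩ := ih' w hw hwC
      refine ⟨g, hg, ?_, hgw⟩
      have hsub : Subgroup.closure (insert x (Y : Set G)) ≤ Subgroup.centralizer ({g} : Set G) := by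
        rw [Subgroup.closure_le]
        intro t ht
        rw [SetLike.mem_coe, Subgroup.mem_centralizer_iff]
        intro g' hg'
        rw [Set.mem_singleton_iff.mp hg']
        rcases ht with ht | ht
        · rw [ht]; exact h.central g hg
        · exact hgY t (Finset.mem_coe.mp ht)
      have hy2 := hsub hyC
      rw [Subgroup.mem_centralizer_iff] at hy2
      have hgy : g * y = y * g := hy2 g rfl
      intro y' hy'
      rcases Finset.mem_insert.mp hy' with e | e
      · rw [e]; exact hgy
      · exact hgY y' e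
    · have hwyC : w * y ∉ Subgroup.closure (insert x (Y : Set G)) := by
        intro e
        apply hwn
        have : w = w * y * y⁻¹ := by group
        rw [this]
        exact Subgroup.mul_mem _ (hle e) (Subgroup.inv_mem _ hyC')
      obtain ⟨g₁, hg₁, hg₁Y, hg₁w⟩ := ih' w hw hwC
      obtain ⟨g₂, hg₂, hg₂Y, hg₂y⟩ := ih' y hyP hyC
      obtain ⟨g₃, hg₃, hg₃Y, hg₃wy⟩ := ih' (w * y) (P.mul_mem hw hyP) hwyC
      have fin : ∀ g ∈ P, (∀ y' ∈ Y, g * y' = y' * g) → g * y = y * g → g * w ≠ w * g →
          ∃ g ∈ P, (∀ y' ∈ insert y Y, g * y' = y' * g) ∧ g * w ≠ w * g := by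
        intro g hg hgY hgy hgw
        refine ⟨g, hg, ?_, hgw⟩
        intro y' hy'
        rcases Finset.mem_insert.mp hy' with e | e
        · rw [e]; exact hgy
        · exact hgY y' e
      have mulY : ∀ a b : G, (∀ y' ∈ Y, a * y' = y' * a) → (∀ y' ∈ Y, b * y' = y' * b) →
          ∀ y' ∈ Y, a * b * y' = y' * (a * b) := by
        intro a b ha hb y' hy'
        rw [mul_assoc, hb y' hy', ← mul_assoc, ha y' hy', mul_assoc]
      by_cases c1 : g₁ * y = y * g₁
      · exact fin g₁ hg₁ hg₁Y c1 hg₁w
      by_cases c2 : g₂ * w = w * g₂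
      · apply fin (g₁ * g₂) (P.mul_mem hg₁ hg₂) (mulY _ _ hg₁Y hg₂Y)
        · rw [h.mul_comm_iff hg₁ hg₂ hyP]
          simp [c1, hg₂y]
        · rw [Ne, h.mul_comm_iff hg₁ hg₂ hw]
          simp [hg₁w, c2]
      have c3 : ¬ ((g₃ * w = w * g₃) ↔ (g₃ * y = y * g₃)) := by
        rw [← h.comm_mul_iff hg₃ hw hyP]
        exact hg₃wy
      by_cases c4 : g₃ * w = w * g₃
      · have c5 : ¬ g₃ * y = y * g₃ := fun e => c3 ⟨fun _ => e, fun _ => c4⟩
        apply fin (g₁ * g₃) (P.mul_mem hg₁ hg₃) (mulY _ _ hg₁Y hg₃Y)
        · rw [h.mul_comm_iff hg₁ hg₃ hyP]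
          simp [c1, c5]
        · rw [Ne, h.mul_comm_iff hg₁ hg₃ hw]
          simp [hg₁w, c4]
      · have c5 : g₃ * y = y * g₃ := by
          by_contra e
          exact c3 ⟨fun e' => absurd e' c4, fun e' => absurd e' e⟩
        exact fin g₃ hg₃ hg₃Y c5 c4

/-- Double centralizer property, subgroup form. -/
theorem exists_centralizing_subgroup [Finite G] (h : ExtraAt P x) (H : Subgroup G) (hH : H ≤ P)
    (hx : x ∈ H) {w : G} (hw : w ∈ P) (hwH : w ∉ H) :
    ∃ g ∈ P, (∀ y ∈ H, g * y = y * g) ∧ g * w * g⁻¹ = x * w := by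
  classical
  have hfin : (H : Set G).Finite := Set.toFinite _
  have hcl : Subgroup.closure (insert x ((hfin.toFinset : Finset G) : Set G)) = H := by
    rw [Set.Finite.coe_toFinset, Set.insert_eq_of_mem (SetLike.mem_coe.mpr hx), Subgroup.closure_eq]
  obtain ⟨g, hg, hgY, hgw⟩ := h.exists_centralizing hfin.toFinset
    (fun y hy => hH ((Set.Finite.mem_toFinset hfin).mp hy)) w hw (by rw [hcl]; exact hwH)
  refine ⟨g, hg, fun y hy => hgY y ((Set.Finite.mem_toFinset hfin).mpr hy), ?_⟩
  rcases h.comm_or hg hw with h1 | h1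
  · exact absurd h1 hgw
  · rw [h1]; group

/-- The centre of the centralizer of a non-central element. -/
theorem center_centralizer (h : ExtraAt P x) {v : G} (hv : v ∈ P) (hv1 : v ≠ 1) (hvx : v ≠ x)
    {y : G} (hy : y ∈ P) (hyc : ∀ w ∈ P, w * v = v * w → w * y = y * w) :
    y = 1 ∨ y = x ∨ y = v ∨ y = x * v := by
  have hnc : ¬ ∀ w ∈ P, v * w = w * v := fun hc => by
    rcases h.center v hv hc with h1 | h1
    · exact hv1 h1
    · exact hvx h1
  push Not at hnc
  obtain ⟨w₀, hw₀, hw₀v⟩ := hnc
  have hw₀v' : ¬ w₀ * v = v * w₀ := fun e => hw₀v e.symm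
  have hcentral : (∀ w ∈ P, w * y = y * w) → y = 1 ∨ y = x := by
    intro hc
    exact h.center y hy (fun w hw => (hc w hw).symm)
  by_cases c0 : w₀ * y = y * w₀
  · have hall : ∀ w ∈ P, w * y = y * w := by
      intro w hw
      by_cases c1 : w * v = v * w
      · exact hyc w hw c1
      · have h1 : w₀ * w * v = v * (w₀ * w) := by
          rw [h.mul_comm_iff hw₀ hw hv]
          simp [hw₀v', c1]
        have h2 := hyc _ (P.mul_mem hw₀ hw) h1
        rw [h.mul_comm_iff hw₀ hw hy] at h2
        exact h2.mp c0
    rcases hcentral hall with e | e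
    · exact Or.inl e
    · exact Or.inr (Or.inl e)
  · have hall : ∀ w ∈ P, w * (y * v) = y * v * w := by
      intro w hw
      rw [h.comm_mul_iff hw hy hv]
      by_cases c1 : w * v = v * w
      · simp [c1, hyc w hw c1]
      · have h1 : w₀ * w * v = v * (w₀ * w) := by
          rw [h.mul_comm_iff hw₀ hw hv]
          simp [hw₀v', c1]
        have h2 := hyc _ (P.mul_mem hw₀ hw) h1
        rw [h.mul_comm_iff hw₀ hw hy] at h2
        have c2 : ¬ w * y = y * w := fun e => c0 (h2.mpr e)
        simp [c1, c2]
    have hyv : y * v = 1 ∨ y * v = x :=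
      h.center (y * v) (P.mul_mem hy hv) (fun w hw => (hall w hw).symm)
    have hxv : x * v = v * x := (h.central v hv).symm
    right; right
    rcases h.sqmem v hv with e2 | e2
    · -- v⁻¹ = v
      have hvi : v⁻¹ = v := inv_eq_of_mul_eq_one_left e2
      rcases hyv with e | e
      · left
        have : y = v⁻¹ := eq_inv_of_mul_eq_one_left e
        rw [this, hvi]
      · right
        have : y = x * v⁻¹ := by rw [← e]; group
        rw [this, hvi]
    · -- v * v = x, v⁻¹ = x * v
      have hvi : v⁻¹ = x * v := by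
        apply inv_eq_of_mul_eq_one_left
        rw [mul_assoc, e2, h.sq]
      rcases hyv with e | e
      · right
        have : y = v⁻¹ := eq_inv_of_mul_eq_one_left e
        rw [this, hvi]
      · left
        have : y = x * v⁻¹ := by rw [← e]; group
        rw [this, hvi, ← mul_assoc, h.sq, one_mul]

end ExtraAt

end Cfsg.Agent.Lib.Helper94
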