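import Mathlib
import Cfsg.Prelude.Def_Sporadic_a
import Cfsg.Agent.Lib.Helper9.M24Enum

/-!
# Tools for exact computations in the group of the length-24 code

On top of helper9's table framework (`HasTable`, `prodW`, `prodT`, `sgsEnv`, `sgsTabs`,
`words5`, `Reach`, `InvMask`):

* `tableOf`, `hasTable_tableOf`: every permutation has a table;
* `smul_dec_eq`, `smul_eq_iff_pull`: action on supports of masks via `pull`;
* `TDec H P`: `H` is a subgroup of `M24` whose membership is decided on tables by `P`;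
  constructors `tdec_M24`, `TDec.inf_stab`;
* `TDec.level`: one step of a stabiliser chain with exact orbit size;
* `EnumFix L Ts` and `TDec.card_fix`: exact order of `H ⊓ fixing L` from an enumeration;
* `enum5 : EnumFix [3, 2, 1, 0, 23] stab5T` (48 tables).
-/

set_option autoImplicit false

namespace Cfsg.Agent.Lib.Helper94

open Cfsg Cfsg.Agent.Lib.Helper9
open scoped Pointwise

/-! ### Tables of arbitrary permutations -/

/-- The table of a permutation. -/
def tableOf (σ : Equiv.Perm GolayPt) : List ℕ := (List.range 24).map (fun i => idx (σ (pt i)))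

theorem hasTable_tableOf (σ : Equiv.Perm GolayPt) : HasTable σ (tableOf σ) := by
  refine ⟨?_, fun p => ?_⟩
  · rw [tableValid_iff]
    refine ⟨by simp [tableOf], ?_⟩
    intro t ht
    rw [tableOf, List.mem_map] at ht
    obtain ⟨i, _, rfl⟩ := ht
    exact idx_lt _
  · have hp := idx_lt p
    rw [tableOf, List.getD_eq_getElem _ _ (by simpa using hp), List.getElem_map,
      List.getElem_range, pt_idx, pt_idx]

/-! ### Action on masks -/

theorem smul_dec_eq {σ : Equiv.Perm GolayPt} {T : List ℕ} (hT : HasTable σ T) (m : ℕ) :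
    σ • support₂ (dec m) = support₂ (dec (pull (invT T) m)) := by
  rw [smul_support₂, dec_comp_of_table (hasTable_inv hT).1 (hasTable_inv hT).2]

theorem smul_eq_iff_pull {σ : Equiv.Perm GolayPt} {T : List ℕ} (hT : HasTable σ T) {m : ℕ}
    (hm : m < 2 ^ 24) : σ • support₂ (dec m) = support₂ (dec m) ↔ pull T m = m := by
  constructor
  · exact pull_eq_of_smul_eq hT hm
  · intro h
    have h1 : σ⁻¹ • support₂ (dec m) = support₂ (dec m) := by
      rw [smul_support₂, inv_inv, dec_comp_of_table hT.1 hT.2, h]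
    rw [inv_smul_eq_iff] at h1
    exact h1.symm

theorem pull_lt24 {σ : Equiv.Perm GolayPt} {T : List ℕ} (hT : HasTable σ T) (m : ℕ) :
    pull T m < 2 ^ 24 := by
  have := pull_lt T m
  rwa [hT.length_eq] at this

/-! ### Invariant masks -/

theorem invMask_of_le_stab {H : Subgroup (Equiv.Perm GolayPt)} {m : ℕ}
    (h : H ≤ MulAction.stabilizer (Equiv.Perm GolayPt) (support₂ (dec m))) : InvMask H m := by
  intro σ hσ p hp
  have h1 : σ • support₂ (dec m) = support₂ (dec m) := MulAction.mem_stabilizer_iff.1 (h hσ)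
  have h2 : p ∈ support₂ (dec m) := (mem_support₂ _ _).2 ((dec_ne_zero_iff _ _).2 hp)
  have h3 : σ • p ∈ σ • support₂ (dec m) := Finset.smul_mem_smul_finset h2
  rw [h1, mem_support₂, dec_ne_zero_iff] at h3
  exact h3

theorem invMask_mono {H K : Subgroup (Equiv.Perm GolayPt)} {m : ℕ} (h : InvMask H m)
    (hK : K ≤ H) : InvMask K m := fun σ hσ => h σ (hK hσ)

theorem invMask_inter_fix {H : Subgroup (Equiv.Perm GolayPt)} {m : ℕ} (h : InvMask H m)
    (L : List ℕ) : InvMask (H ⊓ fixing L) (m &&& (16777215 ^^^ maskOf L)) :=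
  (invMask_mono h inf_le_left).and (fixMask_fixing H L).inv.compl

/-! ### Table-decidable subgroups -/

/-- `H` is a subgroup of `M24` whose membership is decided on tables by `P`. -/
structure TDec (H : Subgroup (Equiv.Perm GolayPt)) (P : List ℕ → Bool) : Prop where
  le : H ≤ M24
  spec : ∀ σ ∈ M24, ∀ T, HasTable σ T → (σ ∈ H ↔ P T = true)

theorem tdec_M24 : TDec M24 (fun _ => true) :=
  ⟨le_rfl, fun _ hσ _ _ => ⟨fun _ => rfl, fun _ => hσ⟩⟩

theorem TDec.inf_stab {H : Subgroup (Equiv.Perm GolayPt)} {P : List ℕ → Bool} (h : TDec H P)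
    {m : ℕ} (hm : m < 2 ^ 24) :
    TDec (H ⊓ MulAction.stabilizer (Equiv.Perm GolayPt) (support₂ (dec m)))
      (fun T => P T && pull T m == m) := by
  refine ⟨inf_le_left.trans h.le, fun σ hσ T hT => ?_⟩
  rw [Subgroup.mem_inf, MulAction.mem_stabilizer_iff, h.spec σ hσ T hT, smul_eq_iff_pull hT hm,
    Bool.and_eq_true, beq_iff_eq]

theorem TDec.invMask {H : Subgroup (Equiv.Perm GolayPt)} {P : List ℕ → Bool} (h : TDec H P)
    {m : ℕ} (hm : m < 2 ^ 24)
    (hP : ∀ T, P T = true → pull T m = m) : InvMask H m := by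
  apply invMask_of_le_stab
  intro σ hσ
  rw [MulAction.mem_stabilizer_iff, smul_eq_iff_pull (hasTable_tableOf σ) hm]
  exact hP _ ((h.spec σ (h.le hσ) _ (hasTable_tableOf σ)).1 hσ)

theorem TDec.mem_of_word {H : Subgroup (Equiv.Perm GolayPt)} {P : List ℕ → Bool} (h : TDec H P)
    {w : List ℕ} (hw : P (prodT sgsTabs w) = true) :
    prodW sgsEnv w ∈ H ∧ HasTable (prodW sgsEnv w) (prodT sgsTabs w) := by
  have hg := good_sgs_M24.prod w
  exact ⟨(h.spec _ hg.1 _ hg.2).2 hw, hg.2⟩

/-- One step of a stabiliser chain: the orbit of the base point `b` under `H ⊓ fixing L` is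
exactly the set of points of the mask `m`. -/
theorem TDec.level {H : Subgroup (Equiv.Perm GolayPt)} {P : List ℕ → Bool} (h : TDec H P)
    {ws ts : List (List ℕ)} (hts : ws.map (prodT sgsTabs) = ts) (hP : ts.all P = true)
    (L : List ℕ) {b : ℕ} (hb : b < 24) {m : ℕ} (fuel : ℕ)
    (hfix : ts.all (fun T => L.all (fun c => decide (c < 24) && T.getD c 0 == c)) = true)
    (horb : orbIter ts fuel (2 ^ b) = m) (hbm : m.testBit b = true)
    (hinv : InvMask (H ⊓ fixing L) m) :
    Nat.card ↥(H ⊓ fixing L) = popc m * Nat.card ↥(H ⊓ fixing (b :: L)) := by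
  have htabs : ∀ T ∈ ts, ∃ σ ∈ H ⊓ fixing L, HasTable σ T := by
    intro T hT
    rw [← hts, List.mem_map] at hT
    obtain ⟨w, hw, rfl⟩ := hT
    have hT' : prodT sgsTabs w ∈ ts := by rw [← hts]; exact List.mem_map_of_mem hw
    have h1 := h.mem_of_word (List.all_eq_true.mp hP _ hT')
    exact ⟨prodW sgsEnv w, ⟨h1.1, mem_fixing_of_table h1.2 (List.all_eq_true.mp hfix _ hT')⟩, h1.2⟩
  have hreach : Reach (H ⊓ fixing L) (pt b) m := by
    rw [← horb]
    exact Reach.iter ts htabs fuel (reach_pow _ hb)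
  have hidx : m.testBit (idx (pt b)) = true := by rw [idx_pt hb]; exact hbm
  have horbit : (MulAction.orbit ↥(H ⊓ fixing L) (pt b)).ncard = popc m :=
    le_antisymm (hinv.ncard_orbit_le hidx) hreach.popc_le
  rw [card_inf_fixing H b L, horbit]

/-! ### Enumerations of pointwise stabilisers -/

/-- `Ts` lists tables of all the elements of `M24 ⊓ fixing L` (and only of such). -/
structure EnumFix (L : List ℕ) (Ts : List (List ℕ)) : Prop where
  complete : ∀ σ ∈ M24 ⊓ fixing L, ∃ T ∈ Ts, HasTable σ T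
  sound : ∀ T ∈ Ts, ∃ σ ∈ M24 ⊓ fixing L, HasTable σ T

theorem TDec.card_fix {H : Subgroup (Equiv.Perm GolayPt)} {P : List ℕ → Bool} (h : TDec H P)
    {L : List ℕ} {Ts : List (List ℕ)} (e : EnumFix L Ts) (hnd : (Ts.filter P).Nodup) :
    Nat.card ↥(H ⊓ fixing L) = (Ts.filter P).length := by
  have hmem : ∀ σ : ↥(H ⊓ fixing L), tableOf σ.1 ∈ Ts.filter P := by
    intro σ
    obtain ⟨T, hT, hσT⟩ := e.complete σ.1 ⟨h.le σ.2.1, σ.2.2⟩
    have : tableOf σ.1 = T := (hasTable_tableOf σ.1).unique hσT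
    rw [this, List.mem_filter]
    exact ⟨hT, (h.spec σ.1 (h.le σ.2.1) T hσT).1 σ.2.1⟩
  let f : ↥(H ⊓ fixing L) → {T // T ∈ Ts.filter P} := fun σ => ⟨tableOf σ.1, hmem σ⟩
  have hf : Function.Bijective f := by
    constructor
    · intro σ τ hστ
      apply Subtype.ext
      have h1 : tableOf σ.1 = tableOf τ.1 := congrArg Subtype.val hστ
      have h2 := hasTable_tableOf σ.1
      rw [h1] at h2
      exact h2.eq_of_eq (hasTable_tableOf τ.1)
    · rintro ⟨T, hT⟩
      rw [List.mem_filter] at hT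
      obtain ⟨σ, hσ, hσT⟩ := e.sound T hT.1
      have hσH : σ ∈ H := (h.spec σ hσ.1 T hσT).2 hT.2
      refine ⟨⟨σ, ⟨hσH, hσ.2⟩⟩, Subtype.ext ?_⟩
      exact (hasTable_tableOf σ).unique hσT
  rw [Nat.card_congr (Equiv.ofBijective f hf)]
  have : Nat.card {T // T ∈ Ts.filter P} = ((Ts.filter P).toFinset).card := by
    rw [← Nat.card_eq_finsetCard]
    apply Nat.card_congr
    exact Equiv.subtypeEquivRight (fun T => by simp)
  rw [this, List.toFinset_card_of_nodup hnd]

/-- The tables of the 48 elements fixing the five points `23, 0, 1, 2, 3`. -/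
def stab5T : List (List ℕ) := words5.map (prodT sgsTabs)

theorem enum5 : EnumFix [3, 2, 1, 0, 23] stab5T := by
  constructor
  · intro σ hσ
    obtain ⟨w, hw, _, hT⟩ := exists_word5 hσ
    exact ⟨prodT sgsTabs w, List.mem_map_of_mem hw, hT⟩
  · intro T hT
    rw [stab5T, List.mem_map] at hT
    obtain ⟨w, hw, rfl⟩ := hT
    have h := good_sgs_M24.prod w
    exact ⟨prodW sgsEnv w, ⟨h.1, mem_fixing_of_table h.2 (List.all_eq_true.mp words5_fix w hw)⟩,
      h.2⟩

theorem stab5T_nodup : stab5T.Nodup := words5_nodup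

/-! ### Subgroups of `M24` as a type versus subgroups of the symmetric group -/

theorem card_map_subtype (K : Subgroup ↥M24) : Nat.card ↥(K.map M24.subtype) = Nat.card K :=
  (Nat.card_congr (K.equivMapOfInjective M24.subtype M24.subtype_injective).toEquiv).symm

theorem map_stabilizer_finset (o : Finset GolayPt) :
    (MulAction.stabilizer M24 o).map M24.subtype =
      M24 ⊓ MulAction.stabilizer (Equiv.Perm GolayPt) o := by
  ext σ
  rw [Subgroup.mem_map, Subgroup.mem_inf, MulAction.mem_stabilizer_iff]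
  constructor
  · rintro ⟨x, hx, rfl⟩
    exact ⟨x.2, MulAction.mem_stabilizer_iff.1 hx⟩
  · rintro ⟨h1, h2⟩
    exact ⟨⟨σ, h1⟩, MulAction.mem_stabilizer_iff.2 h2, rfl⟩

end Cfsg.Agent.Lib.Helper94
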