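import Mathlib
import Cfsg.Prelude.Def_Sporadic_a
import Cfsg.Agent.Lib.Helper94.M24Tools

/-!
# Normalisers of table-decidable subgroups of `M24` through orbit sizes

* `famSet`, `TDec.inf_stabFam`: the stabiliser of a finite family of subsets given by masks is
  table-decidable;
* `smul_member_of_fix`: an element of that stabiliser fixing a point which lies in exactly one
  member stabilises that member;
* `TDec.reach`: orbits of `H ⊓ fixing L` from words;
* `IsOrb`, `col`, `ncard_orbit_eq_col`: orbit sizes from a list of masks each of which is one orbit;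
* `Pres`, `pres_of_normalizer`: an element normalising `H` preserves every union of classes of
  points with the same orbit size.
-/

set_option autoImplicit false

namespace Cfsg.Agent.Lib.Helper94

open Cfsg Cfsg.Agent.Lib.Helper9
open scoped Pointwise

/-! ### Families of subsets -/

/-- The family of the supports of a list of masks. -/
def famSet (ms : List ℕ) : Finset (Finset GolayPt) :=
  (ms.map (fun m => support₂ (dec m))).toFinset

theorem mem_famSet {ms : List ℕ} {X : Finset GolayPt} :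
    X ∈ famSet ms ↔ ∃ m ∈ ms, support₂ (dec m) = X := by
  simp [famSet]

theorem inv_smul_supp {σ : Equiv.Perm GolayPt} {T : List ℕ} (hT : HasTable σ T) (m : ℕ) :
    σ⁻¹ • support₂ (dec m) = support₂ (dec (pull T m)) := by
  rw [smul_support₂, inv_inv, dec_comp_of_table hT.1 hT.2]

theorem supp_mem_famSet {ms : List ℕ} (hms : ∀ m ∈ ms, m < 2 ^ 24) {m' : ℕ} (hm' : m' < 2 ^ 24) :
    support₂ (dec m') ∈ famSet ms ↔ m' ∈ ms := by
  rw [mem_famSet]
  constructor
  · rintro ⟨m, hm, h⟩
    have := dec_injOn (hms m hm) hm' (support₂_injective h)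
    rwa [← this]
  · intro h
    exact ⟨m', h, rfl⟩

theorem mem_stabilizer_fam_iff {σ : Equiv.Perm GolayPt} {T : List ℕ} (hT : HasTable σ T)
    {ms : List ℕ} (hms : ∀ m ∈ ms, m < 2 ^ 24) :
    σ ∈ MulAction.stabilizer (Equiv.Perm GolayPt) (famSet ms) ↔
      ms.all (fun m => ms.contains (pull T m)) = true := by
  rw [← inv_mem_iff, MulAction.mem_stabilizer_iff]
  constructor
  · intro h
    rw [List.all_eq_true]
    intro m hm
    have h1 : σ⁻¹ • support₂ (dec m) ∈ σ⁻¹ • famSet ms :=
      Finset.smul_mem_smul_finset (mem_famSet.2 ⟨m, hm, rfl⟩)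
    rw [h, inv_smul_supp hT, supp_mem_famSet hms (pull_lt24 hT m)] at h1
    rw [List.contains_iff_mem]
    exact h1
  · intro h
    apply Finset.eq_of_subset_of_card_le
    · intro X hX
      obtain ⟨Y, hY, rfl⟩ := Finset.mem_smul_finset.1 hX
      obtain ⟨m, hm, rfl⟩ := mem_famSet.1 hY
      rw [inv_smul_supp hT, supp_mem_famSet hms (pull_lt24 hT m)]
      have := List.all_eq_true.1 h m hm
      rwa [List.contains_iff_mem] at this
    · rw [Finset.card_smul_finset]

theorem TDec.inf_stabFam {H : Subgroup (Equiv.Perm GolayPt)} {P : List ℕ → Bool} (h : TDec H P)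
    {ms : List ℕ} (hms : ∀ m ∈ ms, m < 2 ^ 24) :
    TDec (H ⊓ MulAction.stabilizer (Equiv.Perm GolayPt) (famSet ms))
      (fun T => P T && ms.all (fun m => ms.contains (pull T m))) := by
  refine ⟨inf_le_left.trans h.le, fun σ hσ T hT => ?_⟩
  rw [Subgroup.mem_inf, h.spec σ hσ T hT, mem_stabilizer_fam_iff hT hms, Bool.and_eq_true]

/-- An element of the stabiliser of the family which fixes a point lying in exactly one member
of the family stabilises that member. -/
theorem smul_member_of_fix {σ : Equiv.Perm GolayPt} {ms : List ℕ}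
    (hσ : σ ∈ MulAction.stabilizer (Equiv.Perm GolayPt) (famSet ms)) {m j : ℕ} (hm : m ∈ ms)
    (hj : j < 24) (hjm : m.testBit j = true)
    (huniq : ∀ m' ∈ ms, m'.testBit j = true → m' = m) (hfix : σ (pt j) = pt j) :
    σ • support₂ (dec m) = support₂ (dec m) := by
  have h1 : σ • support₂ (dec m) ∈ σ • famSet ms :=
    Finset.smul_mem_smul_finset (mem_famSet.2 ⟨m, hm, rfl⟩)
  rw [MulAction.mem_stabilizer_iff.1 hσ] at h1
  obtain ⟨m', hm', h⟩ := mem_famSet.1 h1
  have h2 : pt j ∈ support₂ (dec m) := by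
    rw [mem_support₂, dec_ne_zero_iff, idx_pt hj]
    exact hjm
  have h3 : σ • pt j ∈ σ • support₂ (dec m) := Finset.smul_mem_smul_finset h2
  rw [Equiv.Perm.smul_def, hfix, ← h, mem_support₂, dec_ne_zero_iff, idx_pt hj] at h3
  rw [← h, huniq m' hm' h3]

/-! ### Preserved masks -/

/-- The permutation maps the mask into itself. -/
def Pres (g : Equiv.Perm GolayPt) (m : ℕ) : Prop :=
  ∀ p, m.testBit (idx p) = true → m.testBit (idx (g p)) = true

theorem Pres.and {g : Equiv.Perm GolayPt} {a b : ℕ} (ha : Pres g a) (hb : Pres g b) :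
    Pres g (a &&& b) := by
  intro p hp
  rw [Nat.testBit_and, Bool.and_eq_true] at hp ⊢
  exact ⟨ha p hp.1, hb p hp.2⟩

theorem Pres.mul {g h : Equiv.Perm GolayPt} {m : ℕ} (hg : Pres g m) (hh : Pres h m) :
    Pres (g * h) m := fun p hp => hg _ (hh p hp)

theorem invMask_pres {H : Subgroup (Equiv.Perm GolayPt)} {m : ℕ} (h : InvMask H m)
    {σ : Equiv.Perm GolayPt} (hσ : σ ∈ H) : Pres σ m := h σ hσ

theorem Pres.smul_eq {g : Equiv.Perm GolayPt} {m : ℕ} (h : Pres g m) :
    g • support₂ (dec m) = support₂ (dec m) := by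
  apply Finset.eq_of_subset_of_card_le
  · intro q hq
    obtain ⟨p, hp, rfl⟩ := Finset.mem_smul_finset.1 hq
    rw [mem_support₂, dec_ne_zero_iff] at hp
    rw [Equiv.Perm.smul_def, mem_support₂, dec_ne_zero_iff]
    exact h p hp
  · rw [Finset.card_smul_finset]

theorem Pres.pull_eq {g : Equiv.Perm GolayPt} {m : ℕ} (h : Pres g m) {T : List ℕ}
    (hT : HasTable g T) (hm : m < 2 ^ 24) : pull T m = m :=
  (smul_eq_iff_pull hT hm).1 h.smul_eq

theorem pres_of_smul_eq {g : Equiv.Perm GolayPt} {m : ℕ}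
    (h : g • support₂ (dec m) = support₂ (dec m)) : Pres g m := by
  intro p hp
  have h2 : p ∈ support₂ (dec m) := (mem_support₂ _ _).2 ((dec_ne_zero_iff _ _).2 hp)
  have h3 : g • p ∈ g • support₂ (dec m) := Finset.smul_mem_smul_finset h2
  rw [h, mem_support₂, dec_ne_zero_iff] at h3
  exact h3

theorem invMask_pow' {H : Subgroup (Equiv.Perm GolayPt)} {j : ℕ} (hj : j < 24)
    (h : ∀ σ ∈ H, σ (pt j) = pt j) : InvMask H (2 ^ j) := by
  intro σ hσ p hp
  rw [Nat.testBit_two_pow] at hp
  have hjp : j = idx p := by simpa using hp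
  have hp' : p = pt j := by rw [hjp, pt_idx]
  rw [hp', h σ hσ, idx_pt hj, Nat.testBit_two_pow]
  simp

/-! ### Orbits from words -/

theorem TDec.reach {H : Subgroup (Equiv.Perm GolayPt)} {P : List ℕ → Bool} (h : TDec H P)
    {ws ts : List (List ℕ)} (hts : ws.map (prodT sgsTabs) = ts) (hP : ts.all P = true)
    (L : List ℕ)
    (hfix : ts.all (fun T => L.all (fun c => decide (c < 24) && T.getD c 0 == c)) = true)
    {b : ℕ} (hb : b < 24) (fuel : ℕ) :
    Reach (H ⊓ fixing L) (pt b) (orbIter ts fuel (2 ^ b)) := by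
  have htabs : ∀ T ∈ ts, ∃ σ ∈ H ⊓ fixing L, HasTable σ T := by
    intro T hT
    rw [← hts, List.mem_map] at hT
    obtain ⟨w, hw, rfl⟩ := hT
    have hT' : prodT sgsTabs w ∈ ts := by rw [← hts]; exact List.mem_map_of_mem hw
    have h1 := h.mem_of_word (List.all_eq_true.mp hP _ hT')
    exact ⟨prodW sgsEnv w, ⟨h1.1, mem_fixing_of_table h1.2 (List.all_eq_true.mp hfix _ hT')⟩, h1.2⟩
  exact Reach.iter ts htabs fuel (reach_pow _ hb)

/-- The mask is exactly one orbit of `H`. -/
def IsOrb (H : Subgroup (Equiv.Perm GolayPt)) (m : ℕ) : Prop :=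
  InvMask H m ∧ ∃ b, b < 24 ∧ m.testBit b = true ∧ Reach H (pt b) m

theorem isOrb_pow {H : Subgroup (Equiv.Perm GolayPt)} {j : ℕ} (hj : j < 24)
    (h : ∀ σ ∈ H, σ (pt j) = pt j) : IsOrb H (2 ^ j) :=
  ⟨invMask_pow' hj h, j, hj, by rw [Nat.testBit_two_pow]; simp, reach_pow H hj⟩

theorem IsOrb.ncard {H : Subgroup (Equiv.Perm GolayPt)} {m : ℕ} (h : IsOrb H m) {p : GolayPt}
    (hp : m.testBit (idx p) = true) : (MulAction.orbit H p).ncard = popc m := by
  obtain ⟨hinv, b, hb, hbm, hr⟩ := h
  have h1 : p ∈ MulAction.orbit H (pt b) := hr.mem_orbit hp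
  rw [MulAction.orbit_eq_iff.2 h1]
  have hidx : m.testBit (idx (pt b)) = true := by rw [idx_pt hb]; exact hbm
  exact le_antisymm (hinv.ncard_orbit_le hidx) hr.popc_le

/-- The size of the member of the list containing the point `i`. -/
def col (ms : List ℕ) (i : ℕ) : ℕ :=
  match ms.find? (fun m => m.testBit i) with
  | some m => popc m
  | none => 0

theorem ncard_orbit_eq_col {H : Subgroup (Equiv.Perm GolayPt)} {ms : List ℕ}
    (hms : ∀ m ∈ ms, IsOrb H m)
    (hcov : (List.range 24).all (fun i => ms.any (fun m => m.testBit i)) = true) (p : GolayPt) :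
    (MulAction.orbit H p).ncard = col ms (idx p) := by
  have h1 := List.all_eq_true.1 hcov (idx p) (List.mem_range.2 (idx_lt p))
  rw [List.any_eq_true] at h1
  obtain ⟨m0, hm0, hm0p⟩ := h1
  unfold col
  cases hf : ms.find? (fun m => m.testBit (idx p)) with
  | none =>
    have := List.find?_eq_none.1 hf m0 hm0
    exact absurd hm0p this
  | some m =>
    have h2 : m.testBit (idx p) = true := by simpa using List.find?_some hf
    exact (hms m (List.mem_of_find?_eq_some hf)).ncard h2

/-! ### Normalisers -/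

theorem ncard_orbit_of_mem_normalizer {H : Subgroup (Equiv.Perm GolayPt)}
    {g : Equiv.Perm GolayPt} (hg : g ∈ Subgroup.normalizer (H : Set (Equiv.Perm GolayPt)))
    (p : GolayPt) : (MulAction.orbit H (g p)).ncard = (MulAction.orbit H p).ncard := by
  have e : MulAction.orbit H (g p) = (fun q => g q) '' MulAction.orbit H p := by
    ext q
    rw [mem_orbit_subgroup, Set.mem_image]
    constructor
    · rintro ⟨σ, hσ, rfl⟩
      refine ⟨(g⁻¹ * σ * g) p, ?_, ?_⟩
      · rw [mem_orbit_subgroup]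
        exact ⟨g⁻¹ * σ * g, (Subgroup.mem_normalizer_iff''.1 hg σ).1 hσ, rfl⟩
      · simp [Equiv.Perm.mul_apply]
    · rintro ⟨r, hr, rfl⟩
      obtain ⟨σ, hσ, rfl⟩ := mem_orbit_subgroup.1 hr
      refine ⟨g * σ * g⁻¹, (Subgroup.mem_normalizer_iff.1 hg σ).1 hσ, ?_⟩
      simp [Equiv.Perm.mul_apply]
  rw [e, Set.ncard_image_of_injective _ g.injective]

theorem mem_normalizer_inf {G : Type*} [Group G] {H K : Subgroup G} {g : G}
    (hg : g ∈ Subgroup.normalizer (H : Set G)) (hK : g ∈ K) :
    g ∈ Subgroup.normalizer ((H ⊓ K : Subgroup G) : Set G) := by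
  rw [Subgroup.mem_normalizer_iff]
  intro h
  rw [Subgroup.mem_inf, Subgroup.mem_inf, ← (Subgroup.mem_normalizer_iff.1 hg h)]
  constructor
  · rintro ⟨h1, h2⟩
    exact ⟨h1, K.mul_mem (K.mul_mem hK h2) (K.inv_mem hK)⟩
  · rintro ⟨h1, h2⟩
    refine ⟨h1, ?_⟩
    have : h = g⁻¹ * (g * h * g⁻¹) * g := by group
    rw [this]
    exact K.mul_mem (K.mul_mem (K.inv_mem hK) h2) hK

/-- An element normalising `H` preserves every union of classes of points with the same orbit
size. -/
theorem pres_of_normalizer {H : Subgroup (Equiv.Perm GolayPt)} {ms : List ℕ}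
    (hA : ∀ p, (MulAction.orbit H p).ncard = col ms (idx p))
    {g : Equiv.Perm GolayPt} (hg : g ∈ Subgroup.normalizer (H : Set (Equiv.Perm GolayPt)))
    {M : ℕ}
    (hM : (List.range 24).all (fun i => (List.range 24).all
      (fun j => !(M.testBit i) || !(col ms i == col ms j) || M.testBit j)) = true) :
    Pres g M := by
  intro p hp
  have h1 := List.all_eq_true.1 (List.all_eq_true.1 hM (idx p) (List.mem_range.2 (idx_lt p)))
    (idx (g p)) (List.mem_range.2 (idx_lt _))
  have h2 : col ms (idx p) = col ms (idx (g p)) := by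
    rw [← hA, ← hA, ncard_orbit_of_mem_normalizer hg]
  rw [hp, h2] at h1
  simpa using h1

end Cfsg.Agent.Lib.Helper94
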