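import Mathlib
import Cfsg.Prelude.Def_Sporadic_a
import Cfsg.Agent.Lib.Helper94.M24Norm

/-!
# A Sylow 2-subgroup of `M24` and its normaliser

`syl2` is the stabiliser in `M24` of the octad `{0, 1, 2, 3, 5, 14, 17, 23}`, of its partition
into the tetrads `{23, 0, 1, 2}`, `{3, 5, 14, 17}` and of its partition into the pairs
`{23, 0}`, `{1, 2}`, `{3, 5}`, `{14, 17}`.

* `tdec_syl2 : TDec syl2 PS`;
* `card_syl2 : Nat.card syl2 = 1024`;
* `syl2_normalizer`: an element of `M24` normalising `syl2` lies in `syl2`;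
* `syl2_trans_octad`, orbit data `orbS0`, `orbS1`, `orbS2`.
-/

set_option autoImplicit false

namespace Cfsg.Agent.Lib.Helper94

open Cfsg Cfsg.Agent.Lib.Helper9
open scoped Pointwise

/-- A Sylow 2-subgroup of `M24`. -/
def syl2 : Subgroup (Equiv.Perm GolayPt) :=
  ((M24 ⊓ MulAction.stabilizer (Equiv.Perm GolayPt) (support₂ (dec 8536111))) ⊓
    MulAction.stabilizer (Equiv.Perm GolayPt) (famSet [8388615, 147496])) ⊓
    MulAction.stabilizer (Equiv.Perm GolayPt) (famSet [8388609, 6, 40, 147456])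

/-- The membership test of `syl2` on tables. -/
def PS (T : List ℕ) : Bool :=
  ((true && pull T 8536111 == 8536111) &&
    ([8388615, 147496].contains (pull T 8388615) &&
      ([8388615, 147496].contains (pull T 147496) && true))) &&
    ([8388609, 6, 40, 147456].contains (pull T 8388609) &&
      ([8388609, 6, 40, 147456].contains (pull T 6) &&
        ([8388609, 6, 40, 147456].contains (pull T 40) &&
          ([8388609, 6, 40, 147456].contains (pull T 147456) && true))))

theorem tdec_syl2 : TDec syl2 PS :=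
  ((tdec_M24.inf_stab (m := 8536111) (by norm_num)).inf_stabFam (ms := [8388615, 147496])
    (by decide)).inf_stabFam (ms := [8388609, 6, 40, 147456]) (by decide)

theorem syl2_le : syl2 ≤ M24 := tdec_syl2.le

theorem fixing_mono {L L' : List ℕ} (h : ∀ i ∈ L, i ∈ L') : fixing L' ≤ fixing L :=
  fun _ hσ i hi => hσ i (h i hi)

theorem invMask_diff {H : Subgroup (Equiv.Perm GolayPt)} {a b c : ℕ} (ha : InvMask H a)
    (hb : InvMask H b) (hc : a &&& (16777215 ^^^ b) = c) : InvMask H c :=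
  hc ▸ ha.and hb.compl

theorem isOrb_single {H : Subgroup (Equiv.Perm GolayPt)} {j m : ℕ} (hj : j < 24)
    (hm : 2 ^ j = m) (hinv : InvMask H m) : IsOrb H m := by
  subst hm
  exact ⟨hinv, j, hj, by rw [Nat.testBit_two_pow]; simp, reach_pow H hj⟩

/-! ### Invariant masks -/

theorem invS0_O : InvMask syl2 8536111 := invMask_of_le_stab (fun _ hσ => hσ.1.1.2)

theorem invS0_C : InvMask syl2 8241104 := invS0_O.compl

theorem invS1_23 : InvMask (syl2 ⊓ fixing [23]) 8388608 :=
  invMask_pow' (j := 23) (by norm_num) (fun _ hσ => hσ.2 23 (by simp))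

theorem invS1_a1 : InvMask (syl2 ⊓ fixing [23]) 8388609 := by
  apply invMask_of_le_stab
  intro σ hσ
  rw [MulAction.mem_stabilizer_iff]
  exact smul_member_of_fix hσ.1.2 (j := 23) (by simp) (by norm_num) (by decide) (by decide)
    (hσ.2 23 (by simp))

theorem invS1_A : InvMask (syl2 ⊓ fixing [23]) 8388615 := by
  apply invMask_of_le_stab
  intro σ hσ
  rw [MulAction.mem_stabilizer_iff]
  exact smul_member_of_fix hσ.1.1.2 (j := 23) (by simp) (by norm_num) (by decide) (by decide)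
    (hσ.2 23 (by simp))

theorem invS1_0 : InvMask (syl2 ⊓ fixing [23]) 1 := invMask_diff invS1_a1 invS1_23 (by decide)

theorem invS1_a2 : InvMask (syl2 ⊓ fixing [23]) 6 := invMask_diff invS1_A invS1_a1 (by decide)

theorem invS1_O : InvMask (syl2 ⊓ fixing [23]) 8536111 := invMask_mono invS0_O inf_le_left

theorem invS1_B : InvMask (syl2 ⊓ fixing [23]) 147496 := invMask_diff invS1_O invS1_A (by decide)

theorem invS1_C : InvMask (syl2 ⊓ fixing [23]) 8241104 := invMask_mono invS0_C inf_le_left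

theorem le21 : syl2 ⊓ fixing [3, 23] ≤ syl2 ⊓ fixing [23] :=
  inf_le_inf_left _ (fixing_mono (by simp))

theorem invS2_3 : InvMask (syl2 ⊓ fixing [3, 23]) 8 :=
  invMask_pow' (j := 3) (by norm_num) (fun _ hσ => hσ.2 3 (by simp))

theorem invS2_b1 : InvMask (syl2 ⊓ fixing [3, 23]) 40 := by
  apply invMask_of_le_stab
  intro σ hσ
  rw [MulAction.mem_stabilizer_iff]
  exact smul_member_of_fix hσ.1.2 (j := 3) (by simp) (by norm_num) (by decide) (by decide)
    (hσ.2 3 (by simp))

theorem invS2_5 : InvMask (syl2 ⊓ fixing [3, 23]) 32 := invMask_diff invS2_b1 invS2_3 (by decide)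

theorem invS2_b2 : InvMask (syl2 ⊓ fixing [3, 23]) 147456 :=
  invMask_diff (invMask_mono invS1_B le21) invS2_b1 (by decide)

def wsK : List (List ℕ) := [[24],
   [26],
   [28],
   [30]]

def tsK : List (List ℕ) := [[0, 1, 2, 3, 10, 5, 11, 12, 19, 22, 4, 6, 7, 20, 14, 16, 15, 17, 21, 8, 13, 18, 9, 23],
   [0, 1, 2, 3, 12, 5, 9, 10, 16, 6, 7, 22, 4, 18, 14, 19, 8, 17, 13, 15, 21, 20, 11, 23],
   [0, 1, 2, 3, 19, 5, 13, 16, 10, 18, 8, 20, 15, 6, 14, 12, 7, 17, 9, 4, 11, 22, 21, 23],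
   [0, 1, 2, 3, 13, 5, 19, 21, 11, 15, 20, 8, 18, 4, 14, 9, 22, 17, 12, 6, 10, 7, 16, 23]]

theorem tsK_tab : wsK.map (prodT sgsTabs) = tsK := by decide +kernel

theorem tsK_P : tsK.all PS = true := by decide +kernel

def wsO : List (List ℕ) := [[0, 0, 0, 2, 6, 8, 8, 11, 19, 19, 17],
   [17, 22]]

def tsO : List (List ℕ) := [[5, 14, 17, 1, 9, 2, 22, 4, 6, 18, 8, 19, 21, 15, 23, 12, 20, 0, 7, 16, 11, 13, 10, 3],
   [0, 1, 2, 17, 4, 14, 19, 21, 18, 20, 15, 12, 11, 13, 5, 10, 16, 3, 8, 6, 9, 7, 22, 23]]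

theorem tsO_tab : wsO.map (prodT sgsTabs) = tsO := by decide +kernel

theorem tsO_P : tsO.all PS = true := by decide +kernel

def wsE : List (List ℕ) := [[9, 12, 19, 11, 20, 20, 16, 22, 22]]

def tsE : List (List ℕ) := [[0, 2, 1, 3, 13, 5, 9, 20, 8, 6, 21, 11, 18, 4, 17, 19, 16, 14, 12, 15, 7, 10, 22, 23]]

theorem tsE_tab : wsE.map (prodT sgsTabs) = tsE := by decide +kernel

theorem tsE_P : tsE.all PS = true := by decide +kernel

def wsB : List (List ℕ) := [[17, 22],
   [16, 22, 22]]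

def tsB : List (List ℕ) := [[0, 1, 2, 17, 4, 14, 19, 21, 18, 20, 15, 12, 11, 13, 5, 10, 16, 3, 8, 6, 9, 7, 22, 23],
   [0, 1, 2, 5, 13, 3, 7, 6, 8, 20, 15, 11, 12, 4, 17, 10, 22, 14, 18, 21, 9, 19, 16, 23]]

theorem tsB_tab : wsB.map (prodT sgsTabs) = tsB := by decide +kernel

theorem tsB_P : tsB.all PS = true := by decide +kernel

theorem tsO_orb : orbIter tsO 24 (2 ^ 23) = 8536111 := by decide +kernel

theorem tsK_orb : orbIter tsK 24 (2 ^ 4) = 8241104 := by decide +kernel

theorem tsE_orb1 : orbIter tsE 24 (2 ^ 1) = 6 := by decide +kernel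

theorem tsE_orb14 : orbIter tsE 24 (2 ^ 14) = 147456 := by decide +kernel

theorem tsB_orb : orbIter tsB 24 (2 ^ 3) = 147496 := by decide +kernel

/-! ### Orbits -/

theorem reachS0_O : Reach (syl2 ⊓ fixing []) (pt 23) 8536111 :=
  tsO_orb ▸ tdec_syl2.reach tsO_tab tsO_P [] (by decide +kernel) (by norm_num) 24

theorem reachS0_C : Reach (syl2 ⊓ fixing []) (pt 4) 8241104 :=
  tsK_orb ▸ tdec_syl2.reach tsK_tab tsK_P [] (by decide +kernel) (by norm_num) 24

theorem reachS1_a2 : Reach (syl2 ⊓ fixing [23]) (pt 1) 6 :=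
  tsE_orb1 ▸ tdec_syl2.reach tsE_tab tsE_P [23] (by decide +kernel) (by norm_num) 24

theorem reachS1_B : Reach (syl2 ⊓ fixing [23]) (pt 3) 147496 :=
  tsB_orb ▸ tdec_syl2.reach tsB_tab tsB_P [23] (by decide +kernel) (by norm_num) 24

theorem reachS1_C : Reach (syl2 ⊓ fixing [23]) (pt 4) 8241104 :=
  tsK_orb ▸ tdec_syl2.reach tsK_tab tsK_P [23] (by decide +kernel) (by norm_num) 24

theorem reachS2_a2 : Reach (syl2 ⊓ fixing [3, 23]) (pt 1) 6 :=
  tsE_orb1 ▸ tdec_syl2.reach tsE_tab tsE_P [3, 23] (by decide +kernel) (by norm_num) 24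

theorem reachS2_b2 : Reach (syl2 ⊓ fixing [3, 23]) (pt 14) 147456 :=
  tsE_orb14 ▸ tdec_syl2.reach tsE_tab tsE_P [3, 23] (by decide +kernel) (by norm_num) 24

theorem reachS2_C : Reach (syl2 ⊓ fixing [3, 23]) (pt 4) 8241104 :=
  tsK_orb ▸ tdec_syl2.reach tsK_tab tsK_P [3, 23] (by decide +kernel) (by norm_num) 24

/-- Orbit sizes of `syl2`: the octad and its complement. -/
theorem orbS0 (p : GolayPt) :
    (MulAction.orbit syl2 p).ncard = col [8536111, 8241104] (idx p) := by
  have h : ∀ m ∈ [8536111, 8241104], IsOrb (syl2 ⊓ fixing []) m := by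
    intro m hm
    simp only [List.mem_cons, List.not_mem_nil, or_false] at hm
    rcases hm with rfl | rfl
    · exact ⟨invMask_mono invS0_O inf_le_left, 23, by norm_num, by decide, reachS0_O⟩
    · exact ⟨invMask_mono invS0_C inf_le_left, 4, by norm_num, by decide, reachS0_C⟩
  have := ncard_orbit_eq_col h (by decide +kernel) p
  rwa [inf_fixing_nil] at this

/-- Orbit sizes of the stabiliser of the point `23` in `syl2`. -/
theorem orbS1 (p : GolayPt) : (MulAction.orbit ↥(syl2 ⊓ fixing [23]) p).ncard =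
    col [8388608, 1, 6, 147496, 8241104] (idx p) := by
  have h : ∀ m ∈ [8388608, 1, 6, 147496, 8241104], IsOrb (syl2 ⊓ fixing [23]) m := by
    intro m hm
    simp only [List.mem_cons, List.not_mem_nil, or_false] at hm
    rcases hm with rfl | rfl | rfl | rfl | rfl
    · exact isOrb_single (j := 23) (by norm_num) (by norm_num) invS1_23
    · exact isOrb_single (j := 0) (by norm_num) (by norm_num) invS1_0
    · exact ⟨invS1_a2, 1, by norm_num, by decide, reachS1_a2⟩
    · exact ⟨invS1_B, 3, by norm_num, by decide, reachS1_B⟩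
    · exact ⟨invS1_C, 4, by norm_num, by decide, reachS1_C⟩
  exact ncard_orbit_eq_col h (by decide +kernel) p

/-- Orbit sizes of the stabiliser of the points `23` and `3` in `syl2`. -/
theorem orbS2 (p : GolayPt) : (MulAction.orbit ↥(syl2 ⊓ fixing [3, 23]) p).ncard =
    col [8388608, 1, 8, 32, 6, 147456, 8241104] (idx p) := by
  have h : ∀ m ∈ [8388608, 1, 8, 32, 6, 147456, 8241104], IsOrb (syl2 ⊓ fixing [3, 23]) m := by
    intro m hm
    simp only [List.mem_cons, List.not_mem_nil, or_false] at hm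
    rcases hm with rfl | rfl | rfl | rfl | rfl | rfl | rfl
    · exact isOrb_single (j := 23) (by norm_num) (by norm_num) (invMask_mono invS1_23 le21)
    · exact isOrb_single (j := 0) (by norm_num) (by norm_num) (invMask_mono invS1_0 le21)
    · exact isOrb_single (j := 3) (by norm_num) (by norm_num) invS2_3
    · exact isOrb_single (j := 5) (by norm_num) (by norm_num) invS2_5
    · exact ⟨invMask_mono invS1_a2 le21, 1, by norm_num, by decide, reachS2_a2⟩
    · exact ⟨invS2_b2, 14, by norm_num, by decide, reachS2_b2⟩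
    · exact ⟨invMask_mono invS1_C le21, 4, by norm_num, by decide, reachS2_C⟩
  exact ncard_orbit_eq_col h (by decide +kernel) p

/-! ### The order -/

theorem syl2_level0 :
    Nat.card ↥(syl2 ⊓ fixing []) = popc 8536111 * Nat.card ↥(syl2 ⊓ fixing [23]) :=
  tdec_syl2.level tsO_tab tsO_P [] (by norm_num) 24 (by decide +kernel) tsO_orb
    (by decide +kernel) (invMask_mono invS0_O inf_le_left)

theorem syl2_level1 :
    Nat.card ↥(syl2 ⊓ fixing [23]) = popc 1 * Nat.card ↥(syl2 ⊓ fixing [0, 23]) :=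
  tdec_syl2.level (ws := []) (ts := []) rfl rfl [23] (by norm_num) 24 rfl (by decide +kernel)
    (by decide +kernel) invS1_0

theorem syl2_level2 :
    Nat.card ↥(syl2 ⊓ fixing [0, 23]) = popc 6 * Nat.card ↥(syl2 ⊓ fixing [1, 0, 23]) :=
  tdec_syl2.level tsE_tab tsE_P [0, 23] (by norm_num) 24 (by decide +kernel) tsE_orb1
    (by decide +kernel) (invMask_mono invS1_a2 (inf_le_inf_left _ (fixing_mono (by simp))))

theorem syl2_level3 :
    Nat.card ↥(syl2 ⊓ fixing [1, 0, 23]) = popc 4 * Nat.card ↥(syl2 ⊓ fixing [2, 1, 0, 23]) :=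
  tdec_syl2.level (ws := []) (ts := []) rfl rfl [1, 0, 23] (by norm_num) 24 rfl
    (by decide +kernel) (by decide +kernel)
    (invMask_diff (invMask_mono invS1_a2 (inf_le_inf_left _ (fixing_mono (L' := [1, 0, 23]) (by simp))))
      (invMask_pow' (j := 1) (by norm_num) (fun _ hσ => hσ.2 1 (by simp))) (by decide))

theorem syl2_level4 :
    Nat.card ↥(syl2 ⊓ fixing [2, 1, 0, 23]) =
      popc 147496 * Nat.card ↥(syl2 ⊓ fixing [3, 2, 1, 0, 23]) :=
  tdec_syl2.level tsB_tab tsB_P [2, 1, 0, 23] (by norm_num) 24 (by decide +kernel) tsB_orb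
    (by decide +kernel) (invMask_mono invS1_B (inf_le_inf_left _ (fixing_mono (by simp))))

theorem syl2_rest_length : (stab5T.filter PS).length = 16 := by decide +kernel

theorem syl2_rest_nodup : (stab5T.filter PS).Nodup := by decide +kernel

theorem card_syl2 : Nat.card ↥syl2 = 1024 := by
  have h := syl2_level0
  rw [inf_fixing_nil, syl2_level1, syl2_level2, syl2_level3, syl2_level4,
    tdec_syl2.card_fix enum5 syl2_rest_nodup, syl2_rest_length] at h
  rw [h]
  decide +kernel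

/-- `syl2` is transitive on the octad. -/
theorem syl2_trans_octad {p : GolayPt} (hp : Nat.testBit 8536111 (idx p) = true) :
    ∃ σ ∈ syl2, σ (pt 23) = p := by
  have h := reachS0_O
  rw [inf_fixing_nil] at h
  exact mem_orbit_subgroup.1 (h.mem_orbit hp)

/-! ### The normaliser -/

/-- An element of `M24` normalising `syl2` lies in `syl2`. -/
theorem syl2_normalizer {g : Equiv.Perm GolayPt} (hgM : g ∈ M24)
    (hg : g ∈ Subgroup.normalizer (syl2 : Set (Equiv.Perm GolayPt))) : g ∈ syl2 := by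
  have hO : ∀ x, x ∈ Subgroup.normalizer (syl2 : Set (Equiv.Perm GolayPt)) → Pres x 8536111 :=
    fun x hx => pres_of_normalizer orbS0 hx (by decide +kernel)
  -- first reduction: the point `23` is fixed
  have h23 : Nat.testBit 8536111 (idx (g (pt 23))) = true :=
    hO g hg (pt 23) (by rw [idx_pt (by norm_num)]; decide)
  obtain ⟨σ, hσ, hσg⟩ := syl2_trans_octad h23
  suffices h : σ⁻¹ * g ∈ syl2 by
    have := syl2.mul_mem hσ h
    rwa [mul_inv_cancel_left] at this
  have hg1N : σ⁻¹ * g ∈ Subgroup.normalizer (syl2 : Set (Equiv.Perm GolayPt)) :=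
    Subgroup.mul_mem _ (Subgroup.le_normalizer (syl2.inv_mem hσ)) hg
  have hg1M : σ⁻¹ * g ∈ M24 := M24.mul_mem (M24.inv_mem (syl2_le hσ)) hgM
  have hg1fix : (σ⁻¹ * g) (pt 23) = pt 23 := by
    rw [Equiv.Perm.mul_apply, ← hσg]
    simp
  generalize σ⁻¹ * g = g1 at hg1N hg1M hg1fix ⊢
  clear hσg hσ σ h23 hg hgM g
  have hg1F : g1 ∈ fixing [23] := by
    intro i hi
    rw [List.mem_singleton] at hi
    subst hi
    exact hg1fix
  have hg1N1 := mem_normalizer_inf hg1N hg1F
  have p_a1 : Pres g1 8388609 := pres_of_normalizer orbS1 hg1N1 (by decide +kernel)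
  have p_a2 : Pres g1 6 := pres_of_normalizer orbS1 hg1N1 (by decide +kernel)
  have p_A : Pres g1 8388615 := pres_of_normalizer orbS1 hg1N1 (by decide +kernel)
  have p_B : Pres g1 147496 := pres_of_normalizer orbS1 hg1N1 (by decide +kernel)
  -- second reduction: the point `3` is fixed
  have h3 : Nat.testBit 147496 (idx (g1 (pt 3))) = true :=
    p_B (pt 3) (by rw [idx_pt (by norm_num)]; decide)
  obtain ⟨τ, hτ, hτg⟩ := mem_orbit_subgroup.1 (reachS1_B.mem_orbit h3)
  suffices h : τ⁻¹ * g1 ∈ syl2 by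
    have := syl2.mul_mem hτ.1 h
    rwa [mul_inv_cancel_left] at this
  have hτi : τ⁻¹ ∈ syl2 ⊓ fixing [23] := Subgroup.inv_mem _ hτ
  have q_a1 : Pres (τ⁻¹ * g1) 8388609 := (invMask_pres invS1_a1 hτi).mul p_a1
  have q_a2 : Pres (τ⁻¹ * g1) 6 := (invMask_pres invS1_a2 hτi).mul p_a2
  have q_A : Pres (τ⁻¹ * g1) 8388615 := (invMask_pres invS1_A hτi).mul p_A
  have q_B : Pres (τ⁻¹ * g1) 147496 := (invMask_pres invS1_B hτi).mul p_B
  have hg2N : τ⁻¹ * g1 ∈ Subgroup.normalizer (syl2 : Set (Equiv.Perm GolayPt)) :=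
    Subgroup.mul_mem _ (Subgroup.le_normalizer hτi.1) hg1N
  have hg2M : τ⁻¹ * g1 ∈ M24 := M24.mul_mem (syl2_le hτi.1) hg1M
  have hg2F : τ⁻¹ * g1 ∈ fixing [3, 23] := by
    intro i hi
    simp only [List.mem_cons, List.not_mem_nil, or_false] at hi
    rcases hi with rfl | rfl
    · rw [Equiv.Perm.mul_apply, ← hτg]
      simp
    · rw [Equiv.Perm.mul_apply, hg1fix]
      exact hτi.2 23 (by simp)
  have q_O : Pres (τ⁻¹ * g1) 8536111 := hO _ hg2N
  generalize τ⁻¹ * g1 = g2 at q_a1 q_a2 q_A q_B q_O hg2N hg2M hg2F ⊢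
  have hg2N2 := mem_normalizer_inf hg2N hg2F
  have q_F : Pres g2 8388649 := pres_of_normalizer orbS2 hg2N2 (by decide +kernel)
  have q_G : Pres g2 147462 := pres_of_normalizer orbS2 hg2N2 (by decide +kernel)
  have q_b1 : Pres g2 40 := q_F.and q_B
  have q_b2 : Pres g2 147456 := q_G.and q_B
  have hT := hasTable_tableOf g2
  rw [tdec_syl2.spec g2 hg2M _ hT]
  unfold PS
  rw [q_O.pull_eq hT (by norm_num), q_A.pull_eq hT (by norm_num), q_B.pull_eq hT (by norm_num),
    q_a1.pull_eq hT (by norm_num), q_a2.pull_eq hT (by norm_num), q_b1.pull_eq hT (by norm_num),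
    q_b2.pull_eq hT (by norm_num)]
  decide

end Cfsg.Agent.Lib.Helper94
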