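import Mathlib
import Cfsg.Agent.Lib.Helper94.M24Classes
import Cfsg.Agent.Lib.Helper94.M24Syl2
import Cfsg.Agent.S2882

set_option autoImplicit false

/-!
# Subgroups of `M24` containing large 2-subgroups: preparation (helper94)

* `moved_card_dvd`: orbit counting for an element of prime order on an invariant set;
* `fix_le_eight`: a non-identity element of `M24` fixes at most 8 points; `fix_seven`;
* `exists_conj_syl2`: every 2-subgroup of `M24` lies in a conjugate of `syl2`;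
* `conj_P23`: a subgroup of `M24` fixing `x` of order divisible by `2^7` contains a conjugate
  `g (syl2 ⊓ fixing [23]) g⁻¹` with `g (pt 23) = x`.
-/

namespace Cfsg.Agent.Lib.Helper94

open Cfsg Cfsg.Agent.Lib.Helper9
open scoped Pointwise

/-- for `σ ^ p = 1` and an invariant set, the number of moved points in the set is divisible by
`p` -/
theorem moved_card_dvd {α : Type*} [Fintype α] [DecidableEq α] (σ : Equiv.Perm α) (p : ℕ)
    [hp : Fact p.Prime] (hσ : σ ^ p = 1) (S : Finset α) (hS : ∀ a, σ a ∈ S ↔ a ∈ S) :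
    p ∣ (S.filter fun a => σ a ≠ a).card := by
  have hτp : (Equiv.Perm.ofSubtype (σ.subtypePerm hS)) ^ p ^ 1 = 1 := by
    rw [pow_one, ← map_pow, Equiv.Perm.subtypePerm_pow]
    have h1 : (σ ^ p).subtypePerm (by intro x; rw [hσ]; rfl) = (1 : Equiv.Perm {x // x ∈ S}) := by
      ext x
      simp [hσ]
    rw [h1, map_one]
  have h1 := Equiv.Perm.card_compl_support_modEq hτp
  have h2 : (Equiv.Perm.ofSubtype (σ.subtypePerm hS)).support = S.filter fun a => σ a ≠ a := by
    ext a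
    rw [Equiv.Perm.mem_support, Finset.mem_filter]
    by_cases ha : a ∈ S
    · rw [Equiv.Perm.ofSubtype_apply_of_mem _ ha]
      simp [ha]
    · rw [Equiv.Perm.ofSubtype_apply_of_not_mem _ ha]
      simp [ha]
  rw [Finset.card_compl, h2] at h1
  have h3 := Finset.card_le_univ (S.filter fun a => σ a ≠ a)
  have h4 := (Nat.modEq_iff_dvd' (Nat.sub_le _ _)).1 h1
  rwa [Nat.sub_sub_self h3] at h4

/-! ### Fixed points -/

theorem stab5_fix : stab5T.all (fun T => decide (fixCount T ≤ 8) || T == idT) = true := by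
  decide +kernel

/-- a non-identity element of `M24` fixes at most 8 points -/
theorem fix_le_eight {g : Equiv.Perm GolayPt} (hg : g ∈ M24) (hne : g ≠ 1) :
    (Finset.univ.filter fun p => g p = p).card ≤ 8 := by
  by_contra hcon
  have h9 : 8 < (Finset.univ.filter fun p => g p = p).card := not_le.1 hcon
  obtain ⟨a, ha, b, hb, c, hc, hab, hac, hbc⟩ := Finset.two_lt_card.1 (by omega :
    2 < (Finset.univ.filter fun p => g p = p).card)
  have h2 : 1 < ((Finset.univ.filter fun p => g p = p) \ {a, b, c}).card := by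
    have h3 := Finset.le_card_sdiff ({a, b, c} : Finset GolayPt)
      (Finset.univ.filter fun p => g p = p)
    have h4 : ({a, b, c} : Finset GolayPt).card ≤ 3 := Finset.card_le_three
    omega
  obtain ⟨d, hd, e, he, hde⟩ := Finset.one_lt_card.1 h2
  rw [Finset.mem_sdiff, Finset.mem_insert, Finset.mem_insert, Finset.mem_singleton] at hd he
  rw [Finset.mem_filter] at ha hb hc
  have hd' := (Finset.mem_filter.1 hd.1).2
  have he' := (Finset.mem_filter.1 he.1).2
  have had : a ≠ d := fun h => hd.2 (Or.inl h.symm)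
  have hae : a ≠ e := fun h => he.2 (Or.inl h.symm)
  have hbd : b ≠ d := fun h => hd.2 (Or.inr (Or.inl h.symm))
  have hbe : b ≠ e := fun h => he.2 (Or.inr (Or.inl h.symm))
  have hcd : c ≠ d := fun h => hd.2 (Or.inr (Or.inr h.symm))
  have hce : c ≠ e := fun h => he.2 (Or.inr (Or.inr h.symm))
  obtain ⟨k, hk, e0, e1, e2, e3, e4⟩ := exists_map_five hab hac had hae hbc hbd hbe hcd hce hde
  have hfix : ∀ (p : GolayPt) (i : ℕ), g p = p → k p = pt i → (k * g * k⁻¹) (pt i) = pt i := by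
    intro p i hp hki
    rw [← hki, Equiv.Perm.mul_apply, Equiv.Perm.mul_apply, inv_app', hp]
  have hmem : k * g * k⁻¹ ∈ M24 ⊓ fixing [3, 2, 1, 0, 23] := by
    refine ⟨M24.mul_mem (M24.mul_mem hk hg) (M24.inv_mem hk), ?_⟩
    intro i hi
    simp only [List.mem_cons, List.not_mem_nil, or_false] at hi
    rcases hi with rfl | rfl | rfl | rfl | rfl
    · exact hfix e 3 he' e4
    · exact hfix d 2 hd' e3
    · exact hfix c 1 hc.2 e2
    · exact hfix b 0 hb.2 e1
    · exact hfix a 23 ha.2 e0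
  obtain ⟨T, hT, hgT⟩ := enum5.complete _ hmem
  have hcnt := card_fixed_conj k g
  rw [card_fixed_eq hgT] at hcnt
  have h5 := List.all_eq_true.mp stab5_fix T hT
  rw [Bool.or_eq_true, decide_eq_true_eq, beq_iff_eq] at h5
  rcases h5 with h5 | h5
  · omega
  · rw [h5] at hgT
    have h6 := eq_one_of_hasTable_idT hgT
    apply hne
    have h7 : g = k⁻¹ * (k * g * k⁻¹) * k := by group
    rw [h7, h6]
    group

/-- an element of order 7 of `M24` fixes exactly 3 points -/
theorem fix_seven {g : Equiv.Perm GolayPt} (hg : g ∈ M24) (h7 : orderOf g = 7) :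
    (Finset.univ.filter fun p => g p = p).card = 3 := by
  have : Fact (Nat.Prime 7) := ⟨by norm_num⟩
  have hne : g ≠ 1 := by
    intro h
    rw [h, orderOf_one] at h7
    norm_num at h7
  have hp : g ^ 7 = 1 := by rw [← h7]; exact pow_orderOf_eq_one g
  have h1 := moved_card_dvd g 7 hp Finset.univ (by simp)
  have h2 := fix_le_eight hg hne
  have h3 : (Finset.univ.filter fun p => g p = p).card +
      (Finset.univ.filter fun p => g p ≠ p).card = (Finset.univ : Finset GolayPt).card :=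
    Finset.card_filter_add_card_filter_not (s := (Finset.univ : Finset GolayPt))
      (fun p => g p = p)
  have h4 : (Finset.univ : Finset GolayPt).card = 24 := by
    rw [Finset.card_univ, Fintype.card_option, ZMod.card]
  rw [h4] at h3
  omega

/-! ### Sylow 2-subgroups -/

/-- every 2-subgroup of `M24` lies in a conjugate of `syl2` -/
theorem exists_conj_syl2 {Q : Subgroup (Equiv.Perm GolayPt)} (hQ : Q ≤ M24) (hp : IsPGroup 2 Q) :
    ∃ g ∈ M24, ∀ σ ∈ Q, g⁻¹ * σ * g ∈ syl2 := by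
  have : Fact (Nat.Prime 2) := ⟨Nat.prime_two⟩
  have hp' : IsPGroup 2 (Q.subgroupOf M24) :=
    hp.comap_of_injective M24.subtype (Subgroup.subtype_injective M24)
  obtain ⟨S, hS⟩ := hp'.exists_le_sylow
  obtain ⟨g, hg⟩ := MulAction.exists_smul_eq ↥M24
    (Sylow.ofCard Cfsg.Agent.S2882.P0 Cfsg.Agent.S2882.card_P0) S
  refine ⟨g.1, g.2, fun σ hσ => ?_⟩
  have h1 : (⟨σ, hQ hσ⟩ : ↥M24) ∈ (S : Subgroup ↥M24) := hS (Subgroup.mem_subgroupOf.2 hσ)
  rw [← hg, Sylow.coe_subgroup_smul, Subgroup.mem_pointwise_smul_iff_inv_smul_mem] at h1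
  have h2 : (MulAut.conj g)⁻¹ • (⟨σ, hQ hσ⟩ : ↥M24) ∈ Cfsg.Agent.S2882.P0 := h1
  rw [Cfsg.Agent.S2882.P0, Subgroup.mem_subgroupOf] at h2
  have h3 : (((MulAut.conj g)⁻¹ • (⟨σ, hQ hσ⟩ : ↥M24) : ↥M24) : Equiv.Perm GolayPt) =
      g.1⁻¹ * σ * g.1 := by
    rw [MulAut.smul_def, MulAut.conj_inv_apply]
    rfl
  rwa [h3] at h2

theorem col_octad : ∀ i < 24, col [8536111, 8241104] i =
    if Nat.testBit 8536111 i then 8 else 16 := by
  decide +kernel

/-- a subgroup of `M24` fixing `x` with order divisible by `2^7` contains a conjugate of the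
stabiliser of `pt 23` in `syl2` by an element of `M24` mapping `pt 23` to `x` -/
theorem conj_P23 {K : Subgroup (Equiv.Perm GolayPt)} (hK : K ≤ M24) {x : GolayPt}
    (hx : ∀ k ∈ K, k x = x) (h2 : 2 ^ 7 ∣ Nat.card ↥K) :
    ∃ g ∈ M24, g (pt 23) = x ∧ ∀ τ ∈ syl2 ⊓ fixing [23], g * τ * g⁻¹ ∈ K := by
  have : Fact (Nat.Prime 2) := ⟨Nat.prime_two⟩
  obtain ⟨Q0, hQ0⟩ := Sylow.exists_subgroup_card_pow_prime 2 h2
  have hQcard : Nat.card ↥(Q0.map K.subtype) = 2 ^ 7 := by
    rw [Subgroup.card_map_of_injective (Subgroup.subtype_injective K), hQ0]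
  have hQK : Q0.map K.subtype ≤ K := Subgroup.map_subtype_le Q0
  obtain ⟨g, hg, hconj⟩ := exists_conj_syl2 (hQK.trans hK) (IsPGroup.of_card hQcard)
  -- the conjugate fixes `y = g⁻¹ x`
  let f : ↥(Q0.map K.subtype) → ↥(syl2 ⊓ MulAction.stabilizer (Equiv.Perm GolayPt) (g⁻¹ x)) :=
    fun σ => ⟨g⁻¹ * σ.1 * g, Subgroup.mem_inf.2 ⟨hconj σ.1 σ.2, MulAction.mem_stabilizer_iff.2 (by
      show (g⁻¹ * σ.1 * g) (g⁻¹ x) = g⁻¹ x
      rw [Equiv.Perm.mul_apply, Equiv.Perm.mul_apply, app_inv', hx σ.1 (hQK σ.2)])⟩⟩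
  have hf : Function.Injective f := by
    intro σ σ' h
    have h1 : g⁻¹ * σ.1 * g = g⁻¹ * σ'.1 * g := congrArg Subtype.val h
    exact Subtype.ext (mul_left_cancel (mul_right_cancel h1))
  have hle := Nat.card_le_card_of_injective f hf
  rw [hQcard] at hle
  have horb := card_eq_orbit_mul_stab' (G := Equiv.Perm GolayPt) syl2 (g⁻¹ x)
  rw [card_syl2, orbS0, col_octad _ (idx_lt _)] at horb
  have hbit : Nat.testBit 8536111 (idx (g⁻¹ x)) = true := by
    by_contra hb
    rw [if_neg hb] at horb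
    omega
  rw [if_pos hbit] at horb
  have hcard : Nat.card ↥(syl2 ⊓ MulAction.stabilizer (Equiv.Perm GolayPt) (g⁻¹ x)) = 2 ^ 7 := by
    omega
  have hsurj : Function.Surjective f := by
    have hbij := (Nat.bijective_iff_injective_and_card f).2 ⟨hf, by rw [hQcard, hcard]⟩
    exact hbij.2
  obtain ⟨σ0, hσ0, hσ0y⟩ := syl2_trans_octad hbit
  refine ⟨g * σ0, M24.mul_mem hg (syl2_le hσ0), ?_, fun τ hτ => ?_⟩
  · rw [Equiv.Perm.mul_apply, hσ0y, app_inv']
  · have hmem : σ0 * τ * σ0⁻¹ ∈ syl2 ⊓ MulAction.stabilizer (Equiv.Perm GolayPt) (g⁻¹ x) := by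
      refine Subgroup.mem_inf.2 ⟨syl2.mul_mem (syl2.mul_mem hσ0 hτ.1) (syl2.inv_mem hσ0),
        MulAction.mem_stabilizer_iff.2 ?_⟩
      show (σ0 * τ * σ0⁻¹) (g⁻¹ x) = g⁻¹ x
      have h23 : τ (pt 23) = pt 23 := hτ.2 23 (by simp)
      rw [← hσ0y, Equiv.Perm.mul_apply, Equiv.Perm.mul_apply, inv_app', h23]
    obtain ⟨σ, hσ⟩ := hsurj ⟨σ0 * τ * σ0⁻¹, hmem⟩
    have h1 : g⁻¹ * σ.1 * g = σ0 * τ * σ0⁻¹ := congrArg Subtype.val hσ
    have h2 : g * σ0 * τ * (g * σ0)⁻¹ = σ.1 := by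
      have h3 : g * σ0 * τ * (g * σ0)⁻¹ = g * (σ0 * τ * σ0⁻¹) * g⁻¹ := by group
      rw [h3, ← h1]
      group
    rw [h2]
    exact hQK σ.2

end Cfsg.Agent.Lib.Helper94
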