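import Mathlib
import Cfsg.Agent.Lib.Helper94.M23IdxA
import Cfsg.Agent.Lib.Helper36.M24OctStab
import Cfsg.Agent.Lib.Helper9.M24Trans

set_option autoImplicit false

/-!
# Subgroups of the point stabiliser of `M24` of order `40320` (helper94)

* `core_P23`: a subgroup `K` of `Perm GolayPt` fixing `pt 23`, containing `syl2 ⊓ fixing [23]`
  and an element of order 7 with 3 fixed points, whose order is prime to `11` and `23`,
  fixes the octad `ms 8536111` or the duad `ms 6`.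
-/

namespace Cfsg.Agent.Lib.Helper94

open Cfsg Cfsg.Agent.Lib.Helper9 Cfsg.Agent.Lib.Helper36
open scoped Pointwise

/-- the candidate orbits of the point `pt 4` -/
def Sm (e0 e1 e3 : Bool) : ℕ :=
  8241104 + (if e0 then 1 else 0) + (if e1 then 6 else 0) + (if e3 then 147496 else 0)

theorem Sm_C : ∀ i < 24, Nat.testBit 8241104 i = true →
    ∀ e0 e1 e3 : Bool, (Sm e0 e1 e3).testBit i = true := by decide +kernel

theorem Sm_0 : ∀ e0 e1 e3 : Bool, (Sm e0 e1 e3).testBit 0 = e0 := by decide +kernel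

theorem Sm_6 : ∀ i < 24, Nat.testBit 6 i = true →
    ∀ e0 e1 e3 : Bool, (Sm e0 e1 e3).testBit i = e1 := by decide +kernel

theorem Sm_B : ∀ i < 24, Nat.testBit 147496 i = true →
    ∀ e0 e1 e3 : Bool, (Sm e0 e1 e3).testBit i = e3 := by decide +kernel

theorem Sm_23 : ∀ e0 e1 e3 : Bool, (Sm e0 e1 e3).testBit 23 = false := by decide +kernel

theorem Sm_blocks : ∀ i < 24, i = 23 ∨ Nat.testBit 8241104 i = true ∨ i = 0 ∨
    Nat.testBit 6 i = true ∨ Nat.testBit 147496 i = true := by decide +kernel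

theorem Sm_arith' : ∀ e0 e1 e3 : Bool, ∀ f < 3,
    ¬ (f ≤ popc (Sm e0 e1 e3) ∧ 7 ∣ popc (Sm e0 e1 e3) - f ∧ ¬ 11 ∣ popc (Sm e0 e1 e3) ∧
      ¬ 23 ∣ popc (Sm e0 e1 e3)) ∨
    (e0 = false ∧ e1 = false ∧ e3 = false) ∨ (e0 = true ∧ e1 = false ∧ e3 = true) := by
  decide +kernel

theorem Sm_arith (e0 e1 e3 : Bool) (f : ℕ) (hf : f < 3) (h1 : f ≤ popc (Sm e0 e1 e3))
    (h2 : 7 ∣ popc (Sm e0 e1 e3) - f) (h3 : ¬ 11 ∣ popc (Sm e0 e1 e3))
    (h4 : ¬ 23 ∣ popc (Sm e0 e1 e3)) :
    (e0 = false ∧ e1 = false ∧ e3 = false) ∨ (e0 = true ∧ e1 = false ∧ e3 = true) := by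
  rcases Sm_arith' e0 e1 e3 f hf with h | h
  · exact absurd ⟨h1, h2, h3, h4⟩ h
  · exact h

theorem Sm_compl_octad : ∀ i < 24, Nat.testBit 8536111 i = !(Sm false false false).testBit i := by
  decide +kernel

theorem Sm_compl_duad : ∀ i < 24, Nat.testBit 6 i =
    (!(Sm true false true).testBit i && decide (i ≠ 23)) := by
  decide +kernel

/-- the key orbit argument in standard position -/
theorem core_P23 {K : Subgroup (Equiv.Perm GolayPt)} (hP : syl2 ⊓ fixing [23] ≤ K)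
    (h23 : ∀ k ∈ K, k (pt 23) = pt 23) {g7 : Equiv.Perm GolayPt} (hg7 : g7 ∈ K)
    (h7 : g7 ^ 7 = 1) (hfix : (Finset.univ.filter fun p => g7 p = p).card = 3)
    (h11 : ¬ 11 ∣ Nat.card ↥K) (h23' : ¬ 23 ∣ Nat.card ↥K) :
    (∀ k ∈ K, k • ms 8536111 = ms 8536111) ∨ (∀ k ∈ K, k • ms 6 = ms 6) := by
  classical
  have : Fact (Nat.Prime 7) := ⟨by norm_num⟩
  have hKS : ∀ k ∈ K, ∀ p, k p ∈ MulAction.orbit ↥K (pt 4) ↔ p ∈ MulAction.orbit ↥K (pt 4) := by
    intro k hk p
    constructor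
    · intro h
      obtain ⟨k', hk', hkp⟩ := mem_orbit_subgroup.1 h
      exact mem_orbit_subgroup.2 ⟨k⁻¹ * k', K.mul_mem (K.inv_mem hk) hk', by
        rw [Equiv.Perm.mul_apply, hkp, inv_app']⟩
    · intro h
      obtain ⟨k', hk', hkp⟩ := mem_orbit_subgroup.1 h
      exact mem_orbit_subgroup.2 ⟨k * k', K.mul_mem hk hk', by rw [Equiv.Perm.mul_apply, hkp]⟩
  have hPS : ∀ {p q : GolayPt}, q ∈ MulAction.orbit ↥(syl2 ⊓ fixing [23]) p →
      (q ∈ MulAction.orbit ↥K (pt 4) ↔ p ∈ MulAction.orbit ↥K (pt 4)) := by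
    intro p q hq
    obtain ⟨σ, hσ, rfl⟩ := mem_orbit_subgroup.1 hq
    exact hKS σ (hP hσ) p
  have h23S : pt 23 ∉ MulAction.orbit ↥K (pt 4) := by
    intro h
    obtain ⟨k, hk, hkp⟩ := mem_orbit_subgroup.1 h
    have h1 : k (pt 23) = k (pt 4) := by rw [h23 k hk, hkp]
    have h2 := congrArg idx (k.injective h1)
    rw [idx_pt (by norm_num), idx_pt (by norm_num)] at h2
    norm_num at h2
  set e0 : Bool := decide (pt 0 ∈ MulAction.orbit ↥K (pt 4)) with he0
  set e1 : Bool := decide (pt 1 ∈ MulAction.orbit ↥K (pt 4)) with he1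
  set e3 : Bool := decide (pt 3 ∈ MulAction.orbit ↥K (pt 4)) with he3
  have hmem : ∀ p : GolayPt, p ∈ ms (Sm e0 e1 e3) ↔ p ∈ MulAction.orbit ↥K (pt 4) := by
    intro p
    rw [mem_ms]
    rcases Sm_blocks (idx p) (idx_lt p) with h | h | h | h | h
    · have hp : p = pt 23 := by rw [← h, pt_idx]
      rw [h, Sm_23]
      simp [hp, h23S]
    · rw [Sm_C _ (idx_lt p) h]
      have h1 : p ∈ MulAction.orbit ↥(syl2 ⊓ fixing [23]) (pt 4) := reachS1_C.mem_orbit h
      simp [(hPS h1).2 (MulAction.mem_orbit_self _)]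
    · have hp : p = pt 0 := by rw [← h, pt_idx]
      rw [h, Sm_0, hp, he0, decide_eq_true_eq]
    · rw [Sm_6 _ (idx_lt p) h]
      have h1 : p ∈ MulAction.orbit ↥(syl2 ⊓ fixing [23]) (pt 1) := reachS1_a2.mem_orbit h
      rw [hPS h1, he1, decide_eq_true_eq]
    · rw [Sm_B _ (idx_lt p) h]
      have h1 : p ∈ MulAction.orbit ↥(syl2 ⊓ fixing [23]) (pt 3) := reachS1_B.mem_orbit h
      rw [hPS h1, he3, decide_eq_true_eq]
  have hcard : (MulAction.orbit ↥K (pt 4)).ncard = popc (Sm e0 e1 e3) := by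
    rw [← card_ms, ← Set.ncard_coe_finset]
    congr 1
    ext p
    rw [Finset.mem_coe, hmem]
  have hdvd : popc (Sm e0 e1 e3) ∣ Nat.card ↥K := by
    have h1 := card_eq_orbit_mul_stab' (G := Equiv.Perm GolayPt) K (pt 4)
    rw [hcard] at h1
    exact Dvd.intro _ h1.symm
  have hinv : ∀ a, g7 a ∈ ms (Sm e0 e1 e3) ↔ a ∈ ms (Sm e0 e1 e3) := by
    intro a
    rw [hmem, hmem]
    exact hKS g7 hg7 a
  have hmoved := moved_card_dvd g7 7 h7 (ms (Sm e0 e1 e3)) hinv
  have hsplit : ((ms (Sm e0 e1 e3)).filter fun a => g7 a = a).card +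
      ((ms (Sm e0 e1 e3)).filter fun a => g7 a ≠ a).card = (ms (Sm e0 e1 e3)).card :=
    Finset.card_filter_add_card_filter_not (s := ms (Sm e0 e1 e3)) (fun a => g7 a = a)
  have hfixS : ((ms (Sm e0 e1 e3)).filter fun a => g7 a = a).card < 3 := by
    have hsub : ((ms (Sm e0 e1 e3)).filter fun a => g7 a = a) ⊆
        (Finset.univ.filter fun p => g7 p = p).erase (pt 23) := by
      intro a ha
      rw [Finset.mem_filter] at ha
      rw [Finset.mem_erase, Finset.mem_filter]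
      refine ⟨?_, Finset.mem_univ _, ha.2⟩
      rintro rfl
      exact h23S ((hmem _).1 ha.1)
    have h1 := Finset.card_le_card hsub
    rw [Finset.card_erase_of_mem (by
      rw [Finset.mem_filter]; exact ⟨Finset.mem_univ _, h23 g7 hg7⟩), hfix] at h1
    omega
  rw [card_ms] at hsplit
  have harith := Sm_arith e0 e1 e3 _ hfixS (by omega) (by
      have h2 : popc (Sm e0 e1 e3) - ((ms (Sm e0 e1 e3)).filter fun a => g7 a = a).card =
        ((ms (Sm e0 e1 e3)).filter fun a => g7 a ≠ a).card := by omega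
      rw [h2]; exact hmoved) (fun h => h11 (h.trans hdvd)) (fun h => h23' (h.trans hdvd))
  rcases harith with ⟨h0, h1, h3⟩ | ⟨h0, h1, h3⟩
  · left
    intro k hk
    apply smul_eq_of_mem_iff
    intro x
    rw [mem_ms, mem_ms, Sm_compl_octad _ (idx_lt _), Sm_compl_octad _ (idx_lt _)]
    have hx := hmem x
    have hkx := hmem (k x)
    rw [mem_ms, h0, h1, h3] at hx hkx
    have h4 := hKS k hk x
    rw [← hx, ← hkx] at h4
    simp only [Bool.not_eq_true', ← Bool.not_eq_true, h4]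
  · right
    intro k hk
    apply smul_eq_of_mem_iff
    intro x
    rw [mem_ms, mem_ms, Sm_compl_duad _ (idx_lt _), Sm_compl_duad _ (idx_lt _)]
    have hx := hmem x
    have hkx := hmem (k x)
    rw [mem_ms, h0, h1, h3] at hx hkx
    have h4 := hKS k hk x
    rw [← hx, ← hkx] at h4
    have h5 : idx (k x) ≠ 23 ↔ idx x ≠ 23 := by
      have e1 : ∀ y : GolayPt, idx y = 23 ↔ y = pt 23 := by
        intro y
        constructor
        · intro h; rw [← h, pt_idx]
        · intro h; rw [h, idx_pt (by norm_num)]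
      rw [not_iff_not, e1, e1]
      constructor
      · intro h
        have h6 : k x = k (pt 23) := by rw [h, h23 k hk]
        exact k.injective h6
      · intro h
        rw [h, h23 k hk]
    simp only [Bool.and_eq_true, Bool.not_eq_true', ← Bool.not_eq_true, decide_eq_true_eq, h4, h5]

/-! ### The two stabilisers of order `40320` -/

/-- the stabiliser of `pt 23` and of the set `a` in `M24` -/
def T23 (a : Finset GolayPt) : Subgroup (Equiv.Perm GolayPt) :=
  (M24 ⊓ MulAction.stabilizer (Equiv.Perm GolayPt) (pt 23)) ⊓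
    MulAction.stabilizer (Equiv.Perm GolayPt) a

theorem mem_T23 {a : Finset GolayPt} {σ : Equiv.Perm GolayPt} :
    σ ∈ T23 a ↔ σ ∈ M24 ∧ σ (pt 23) = pt 23 ∧ σ • a = a := by
  unfold T23
  rw [Subgroup.mem_inf, Subgroup.mem_inf, MulAction.mem_stabilizer_iff,
    MulAction.mem_stabilizer_iff, and_assoc]
  rfl

theorem inCode_O0 : inCode 8536111 = true := by decide +kernel

theorem popc_O0 : popc 8536111 = 8 := by decide +kernel

theorem pt_ne {i j : ℕ} (hi : i < 24) (hj : j < 24) (h : i ≠ j) : pt i ≠ pt j := by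
  intro h1
  have h2 := congrArg idx h1
  rw [idx_pt hi, idx_pt hj] at h2
  exact h h2

theorem card_T23_octad : Nat.card ↥(T23 (ms 8536111)) = 40320 := by
  have ho : ms 8536111 ∈ octads := ms_mem_octads inCode_O0 popc_O0
  have h1 := card_eq_orbit_mul_stab' (G := Equiv.Perm GolayPt) (stabIn (ms 8536111)) (pt 23)
  rw [card_stabIn_octad ho] at h1
  have horb : MulAction.orbit ↥(stabIn (ms 8536111)) (pt 23) =
      ((ms 8536111 : Finset GolayPt) : Set GolayPt) := by
    ext p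
    rw [mem_orbit_subgroup, Finset.mem_coe]
    constructor
    · rintro ⟨σ, hσ, rfl⟩
      have h2 := (mem_stabIn.1 hσ).2
      rw [Cfsg.Agent.Lib.Helper36.mem_iff_of_smul_eq h2 (pt 23), mem_ms, idx_pt (by norm_num)]
      decide
    · intro hp
      obtain ⟨σ, hσ, hσp⟩ := syl2_trans_octad ((mem_ms _ _).1 hp)
      exact ⟨σ, hσ.1.1, hσp⟩
  rw [horb, Set.ncard_coe_finset, card_ms, popc_O0] at h1
  have h2 : stabIn (ms 8536111) ⊓ MulAction.stabilizer (Equiv.Perm GolayPt) (pt 23) =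
      T23 (ms 8536111) := by
    unfold T23 stabIn
    rw [inf_right_comm]
  rw [h2] at h1
  omega

theorem bits6 : ∀ i < 24, (Nat.testBit 6 i = true ↔ i = 1 ∨ i = 2) := by decide +kernel

theorem ms6_eq : ms 6 = {pt 1, pt 2} := by
  ext p
  rw [mem_ms, Finset.mem_insert, Finset.mem_singleton, bits6 (idx p) (idx_lt p)]
  constructor
  · rintro (h | h)
    · left; rw [← h, pt_idx]
    · right; rw [← h, pt_idx]
  · rintro (h | h)
    · left; rw [h, idx_pt (by norm_num)]
    · right; rw [h, idx_pt (by norm_num)]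

theorem card_G23 :
    Nat.card ↥(M24 ⊓ MulAction.stabilizer (Equiv.Perm GolayPt) (pt 23)) = 10200960 := by
  rw [← card_stabilizer_M24 (pt 23)]
  exact (Nat.card_congr (stabEquiv (pt 23))).symm

theorem card_T23_duad : Nat.card ↥(T23 (ms 6)) = 40320 := by
  classical
  have h1 := card_eq_orbit_mul_stab' (G := Equiv.Perm GolayPt)
    (M24 ⊓ MulAction.stabilizer (Equiv.Perm GolayPt) (pt 23)) (ms 6)
  rw [card_G23] at h1
  have horb : MulAction.orbit ↥(M24 ⊓ MulAction.stabilizer (Equiv.Perm GolayPt) (pt 23)) (ms 6) =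
      ((Finset.powersetCard 2 (Finset.univ.erase (pt 23)) : Finset (Finset GolayPt)) :
        Set (Finset GolayPt)) := by
    ext s
    rw [Finset.mem_coe, Finset.mem_powersetCard, MulAction.mem_orbit_iff]
    constructor
    · rintro ⟨σ, rfl⟩
      have hσ23 : σ.1 (pt 23) = pt 23 := MulAction.mem_stabilizer_iff.1 σ.2.2
      refine ⟨?_, ?_⟩
      · intro p hp
        rw [Finset.mem_erase]
        refine ⟨?_, Finset.mem_univ _⟩
        rintro rfl
        have h2 : σ.1 (pt 23) ∈ σ.1 • ms 6 := by rw [hσ23]; exact hp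
        have h3 : pt 23 ∈ ms 6 := (Finset.smul_mem_smul_finset_iff σ.1).1 h2
        rw [mem_ms, idx_pt (by norm_num)] at h3
        exact absurd h3 (by decide)
      · show (σ.1 • ms 6).card = 2
        rw [Finset.card_smul_finset, card_ms]
        decide
    · rintro ⟨hsub, hcard⟩
      obtain ⟨a, b, hab, rfl⟩ := Finset.card_eq_two.1 hcard
      have ha : a ≠ pt 23 := (Finset.mem_erase.1 (hsub (by simp))).1
      have hb : b ≠ pt 23 := (Finset.mem_erase.1 (hsub (by simp))).1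
      obtain ⟨g1, hg1, e0, e1, e2⟩ := exists_map_three (Ne.symm ha) (Ne.symm hb) hab
      obtain ⟨g2, hg2, f0, f1, f2⟩ := exists_map_three (p0 := pt 23) (p1 := pt 1) (p2 := pt 2)
        (pt_ne (by norm_num) (by norm_num) (by norm_num))
        (pt_ne (by norm_num) (by norm_num) (by norm_num))
        (pt_ne (by norm_num) (by norm_num) (by norm_num))
      refine ⟨⟨g1⁻¹ * g2, ⟨M24.mul_mem (M24.inv_mem hg1) hg2,
        MulAction.mem_stabilizer_iff.2 ?_⟩⟩, ?_⟩
      · show (g1⁻¹ * g2) (pt 23) = pt 23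
        rw [Equiv.Perm.mul_apply, f0, Equiv.Perm.inv_eq_iff_eq, e0]
      · show (g1⁻¹ * g2) • ms 6 = {a, b}
        rw [ms6_eq, Finset.smul_finset_insert, Finset.smul_finset_singleton,
          Equiv.Perm.smul_def, Equiv.Perm.smul_def, Equiv.Perm.mul_apply, Equiv.Perm.mul_apply,
          f1, f2, ← e1, ← e2, inv_app', inv_app']
  have hc : (Finset.powersetCard 2 (Finset.univ.erase (pt 23)) : Finset (Finset GolayPt)).card =
      253 := by
    rw [Finset.card_powersetCard, Finset.card_erase_of_mem (Finset.mem_univ _), Finset.card_univ,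
      Fintype.card_option, ZMod.card]
    decide
  rw [horb, Set.ncard_coe_finset, hc] at h1
  have h2 : (M24 ⊓ MulAction.stabilizer (Equiv.Perm GolayPt) (pt 23)) ⊓
      MulAction.stabilizer (Equiv.Perm GolayPt) (ms 6) = T23 (ms 6) := rfl
  rw [h2] at h1
  omega

theorem conj_mem_T23 {g σ : Equiv.Perm GolayPt} (hg : g ∈ M24) (a : Finset GolayPt) :
    g⁻¹ * σ * g ∈ T23 a ↔ σ ∈ M24 ∧ σ (g (pt 23)) = g (pt 23) ∧ σ • (g • a) = g • a := by
  rw [mem_T23]
  refine and_congr ?_ (and_congr ?_ ?_)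
  · constructor
    · intro h
      have h1 : σ = g * (g⁻¹ * σ * g) * g⁻¹ := by group
      rw [h1]
      exact M24.mul_mem (M24.mul_mem hg h) (M24.inv_mem hg)
    · intro h
      exact M24.mul_mem (M24.mul_mem (M24.inv_mem hg) h) hg
  · rw [Equiv.Perm.mul_apply, Equiv.Perm.mul_apply, Equiv.Perm.inv_eq_iff_eq]
  · rw [mul_smul, mul_smul, inv_smul_eq_iff]

/-- a subgroup of order `40320` of `M24` fixing a point `x` is the stabiliser of a duad not
containing `x` or of an octad containing `x` in the stabiliser of `x` -/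
theorem idx253_main {K : Subgroup (Equiv.Perm GolayPt)} (hK : K ≤ M24) {x : GolayPt}
    (hx : ∀ k ∈ K, k x = x) (hcard : Nat.card ↥K = 40320) :
    (∃ s : Finset GolayPt, s.card = 2 ∧ x ∉ s ∧
      ∀ σ, σ ∈ K ↔ σ ∈ M24 ∧ σ x = x ∧ σ • s = s) ∨
    (∃ o ∈ octads, x ∈ o ∧ ∀ σ, σ ∈ K ↔ σ ∈ M24 ∧ σ x = x ∧ σ • o = o) := by
  obtain ⟨g, hg, hgx, hconj⟩ := conj_P23 hK hx (by rw [hcard]; norm_num)
  set K' : Subgroup (Equiv.Perm GolayPt) := K.map (MulAut.conj g⁻¹).toMonoidHom with hK'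
  have hmem : ∀ k, k ∈ K' ↔ g * k * g⁻¹ ∈ K := by
    intro k
    rw [hK', Subgroup.mem_map]
    constructor
    · rintro ⟨k0, hk0, rfl⟩
      have h1 : g * (MulAut.conj g⁻¹).toMonoidHom k0 * g⁻¹ = k0 := by
        show g * (g⁻¹ * k0 * g⁻¹⁻¹) * g⁻¹ = k0
        group
      rwa [h1]
    · intro h
      refine ⟨g * k * g⁻¹, h, ?_⟩
      show g⁻¹ * (g * k * g⁻¹) * g⁻¹⁻¹ = k
      group
  have hcard' : Nat.card ↥K' = 40320 := by
    rw [hK', Subgroup.card_map_of_injective (MulEquiv.injective _), hcard]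
  have hK'M : K' ≤ M24 := by
    intro k hk
    have h1 := hK ((hmem k).1 hk)
    have h2 : k = g⁻¹ * (g * k * g⁻¹) * g := by group
    rw [h2]
    exact M24.mul_mem (M24.mul_mem (M24.inv_mem hg) h1) hg
  have h23 : ∀ k ∈ K', k (pt 23) = pt 23 := by
    intro k hk
    have h1 := hx _ ((hmem k).1 hk)
    rw [Equiv.Perm.mul_apply, Equiv.Perm.mul_apply, ← hgx, inv_app'] at h1
    exact g.injective h1
  have hP : syl2 ⊓ fixing [23] ≤ K' := fun τ hτ => (hmem τ).2 (hconj τ hτ)
  have : Fact (Nat.Prime 7) := ⟨by norm_num⟩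
  have : Finite ↥K' := Nat.finite_of_card_ne_zero (by rw [hcard']; norm_num)
  obtain ⟨y, hy⟩ := exists_prime_orderOf_dvd_card' (G := ↥K') 7 (by rw [hcard']; norm_num)
  have hy' : orderOf (y : Equiv.Perm GolayPt) = 7 := by rw [Subgroup.orderOf_coe]; exact hy
  have h7 : (y : Equiv.Perm GolayPt) ^ 7 = 1 := by rw [← hy']; exact pow_orderOf_eq_one _
  have hfix := fix_seven (hK'M y.2) hy'
  have hkey := core_P23 hP h23 y.2 h7 hfix (by rw [hcard']; norm_num) (by rw [hcard']; norm_num)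
  have hfinal : ∀ a : Finset GolayPt, Nat.card ↥(T23 a) = 40320 → (∀ k ∈ K', k • a = a) →
      ∀ σ, σ ∈ K ↔ σ ∈ M24 ∧ σ x = x ∧ σ • (g • a) = g • a := by
    intro a hTa hKa σ
    have hle : K' ≤ T23 a := fun k hk => mem_T23.2 ⟨hK'M hk, h23 k hk, hKa k hk⟩
    have : Finite ↥(T23 a) := Nat.finite_of_card_ne_zero (by rw [hTa]; norm_num)
    have heq : K' = T23 a := Subgroup.eq_of_le_of_card_ge hle (by rw [hTa, hcard'])
    rw [← hgx, ← conj_mem_T23 hg a, ← heq, hmem]
    have h1 : g * (g⁻¹ * σ * g) * g⁻¹ = σ := by group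
    rw [h1]
  rcases hkey with h | h
  · right
    refine ⟨g • ms 8536111, smul_octad_mem hg (ms_mem_octads inCode_O0 popc_O0), ?_,
      hfinal _ card_T23_octad h⟩
    rw [← hgx]
    exact Finset.smul_mem_smul_finset ((mem_ms _ _).2 (by rw [idx_pt (by norm_num)]; decide))
  · left
    refine ⟨g • ms 6, by rw [Finset.card_smul_finset, card_ms]; decide, ?_,
      hfinal _ card_T23_duad h⟩
    rw [← hgx]
    intro hmem6
    have h1 : pt 23 ∈ ms 6 := (Finset.smul_mem_smul_finset_iff g).1 hmem6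
    rw [mem_ms, idx_pt (by norm_num)] at h1
    exact absurd h1 (by decide)

end Cfsg.Agent.Lib.Helper94
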