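import Mathlib
import Cfsg.Prelude.Def_Sporadic_a
import Cfsg.Prelude.Def_SporadicCombinatorics
import Cfsg.Agent.Lib.Helper94.M24FixCount

/-!
# Reduction of elements of order 2 and 3 of `M24` to the four class representatives

`conj_r6`, `conj_r0`, `conj_t8`, `conj_t0`: an element of order 3 (resp. 2) with 6 (resp. 8)
fixed points or none is conjugate in `M24` to `r6`, `r0`, `t8`, `t0`;
`fixed_octads_eq`, ... : transfer of the numbers of fixed octads, dodecads, sextets, trios.
-/

set_option autoImplicit false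

namespace Cfsg.Agent.Lib.Helper94

open Cfsg Cfsg.Agent.Lib.Helper9
open scoped Pointwise

theorem card_fixed_zero {g : Equiv.Perm GolayPt} (h₀ : ∀ p, g p ≠ p) :
    (Finset.univ.filter fun p => g p = p).card = 0 :=
  Finset.card_eq_zero.2 (Finset.filter_eq_empty_iff.2 (fun p _ => h₀ p))

theorem conj_r6 {g : Equiv.Perm GolayPt} (hg : g ∈ M24) (h3 : orderOf g = 3)
    (h6 : (Finset.univ.filter fun p => g p = p).card = 6) : ∃ k ∈ M24, k * g * k⁻¹ = r6 := by
  have hne : g ≠ 1 := by
    rintro rfl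
    rw [orderOf_one] at h3
    norm_num at h3
  have hp : g ^ 3 = 1 := by rw [← h3]; exact pow_orderOf_eq_one g
  obtain ⟨k, hk, h | h⟩ := class3 g hg hne hp
  · exact ⟨k, hk, h⟩
  · exfalso
    have := card_fixed_conj k g
    rw [h, card_fixed_eq r0_table, r0_facts.2.1, h6] at this
    norm_num at this

theorem conj_r0 {g : Equiv.Perm GolayPt} (hg : g ∈ M24) (h3 : orderOf g = 3)
    (h₀ : ∀ p, g p ≠ p) : ∃ k ∈ M24, k * g * k⁻¹ = r0 := by
  have hne : g ≠ 1 := by
    rintro rfl
    rw [orderOf_one] at h3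
    norm_num at h3
  have hp : g ^ 3 = 1 := by rw [← h3]; exact pow_orderOf_eq_one g
  obtain ⟨k, hk, h | h⟩ := class3 g hg hne hp
  · exfalso
    have := card_fixed_conj k g
    rw [h, card_fixed_eq r6_table, r6_facts.2.1, card_fixed_zero h₀] at this
    norm_num at this
  · exact ⟨k, hk, h⟩

theorem conj_t8 {g : Equiv.Perm GolayPt} (hg : g ∈ M24) (h2 : orderOf g = 2)
    (h8 : (Finset.univ.filter fun p => g p = p).card = 8) : ∃ k ∈ M24, k * g * k⁻¹ = t8 := by
  have hne : g ≠ 1 := by
    rintro rfl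
    rw [orderOf_one] at h2
    norm_num at h2
  have hp : g ^ 2 = 1 := by rw [← h2]; exact pow_orderOf_eq_one g
  obtain ⟨k, hk, h | h⟩ := class2 g hg hne hp
  · exact ⟨k, hk, h⟩
  · exfalso
    have := card_fixed_conj k g
    rw [h, card_fixed_eq t0_table, t0_facts.2.1, h8] at this
    norm_num at this

theorem conj_t0 {g : Equiv.Perm GolayPt} (hg : g ∈ M24) (h2 : orderOf g = 2)
    (h₀ : ∀ p, g p ≠ p) : ∃ k ∈ M24, k * g * k⁻¹ = t0 := by
  have hne : g ≠ 1 := by
    rintro rfl
    rw [orderOf_one] at h2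
    norm_num at h2
  have hp : g ^ 2 = 1 := by rw [← h2]; exact pow_orderOf_eq_one g
  obtain ⟨k, hk, h | h⟩ := class2 g hg hne hp
  · exfalso
    have := card_fixed_conj k g
    rw [h, card_fixed_eq t8_table, t8_facts.2.1, card_fixed_zero h₀] at this
    norm_num at this
  · exact ⟨k, hk, h⟩

section transfer

variable {g r k : Equiv.Perm GolayPt} {R : List ℕ}

theorem fixed_octads_eq (hk : k ∈ M24) (h : k * g * k⁻¹ = r) (hR : HasTable r R) :
    {o : Finset GolayPt | o ∈ octads ∧ g • o = o}.ncard =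
      cnt (fun m => popc m == 8 && pull R m == m) gB 0 := by
  rw [← ncard_fixed_octads hR, ← h]
  exact (ncard_fixed_conj octads k g (smul_mem_octads_iff' hk)).symm

theorem fixed_dodecads_eq (hk : k ∈ M24) (h : k * g * k⁻¹ = r) (hR : HasTable r R) :
    {d : Finset GolayPt | d ∈ dodecads ∧ g • d = d}.ncard =
      cnt (fun m => popc m == 12 && pull R m == m) gB 0 := by
  rw [← ncard_fixed_dodecads hR, ← h]
  exact (ncard_fixed_conj dodecads k g (smul_mem_dodecads_iff' hk)).symm

theorem fixed_sextets_eq (hk : k ∈ M24) (h : k * g * k⁻¹ = r) (hr : r ∈ M24)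
    (hR : HasTable r R) :
    {S : Finset (Finset GolayPt) | S ∈ sextets ∧ g • S = S}.ncard =
      (Helper95.sxL.filter (fun L => L.contains (pull R (L.headD 0)))).length := by
  rw [← ncard_fixed_sextets hr hR, ← h]
  exact (ncard_fixed_conj sextets k g (smul_mem_sextets_iff' hk)).symm

theorem fixed_trios_eq (hk : k ∈ M24) (h : k * g * k⁻¹ = r) (hr : r ∈ M24)
    (hR : HasTable r R) :
    {T : Finset (Finset GolayPt) | T ∈ trios ∧ g • T = T}.ncard =
      (trioL.filter (fixTrio R)).length := by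
  rw [← ncard_fixed_trios hr hR, ← h]
  exact (ncard_fixed_conj trios k g (smul_mem_trios_iff' hk)).symm

end transfer

end Cfsg.Agent.Lib.Helper94
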