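import Mathlib
import Cfsg.Agent.Lib.Helper94.M23IdxB
import Cfsg.Agent.Lib.Helper95.SextetStab

set_option autoImplicit false

/-!
# Subgroups of `M24` containing a Sylow 2-subgroup: tools (helper94)

* `fix_five`, `fix_eleven`: fixed point counts of elements of order 5 and 11;
* `exists_conj_syl2_le`: a subgroup of `M24` of order divisible by `2^10` contains a conjugate
  of `syl2`;
* `syl2_dichotomy`: a subgroup containing `syl2` fixes the octad `ms 8536111` or is transitive;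
* `typeA_false`, `typeB_false`: a transitive subgroup containing `syl2` whose point stabiliser
  fixes the standard octad (resp. the duad `ms 6`) does not exist (given elements of order 5,
  resp. 7).
-/

namespace Cfsg.Agent.Lib.Helper94

open Cfsg Cfsg.Agent.Lib.Helper9 Cfsg.Agent.Lib.Helper36
open scoped Pointwise

/-! ### Fixed points -/

/-- an element of order 5 of `M24` fixes exactly 4 points -/
theorem fix_five {g : Equiv.Perm GolayPt} (hg : g ∈ M24) (h5 : orderOf g = 5) :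
    (Finset.univ.filter fun p => g p = p).card = 4 := by
  have : Fact (Nat.Prime 5) := ⟨by norm_num⟩
  have hne : g ≠ 1 := by
    intro h
    rw [h, orderOf_one] at h5
    norm_num at h5
  have hp : g ^ 5 = 1 := by rw [← h5]; exact pow_orderOf_eq_one g
  have h1 := moved_card_dvd g 5 hp Finset.univ (by simp)
  have h2 := fix_le_eight hg hne
  have h3 : (Finset.univ.filter fun p => g p = p).card +
      (Finset.univ.filter fun p => g p ≠ p).card = (Finset.univ : Finset GolayPt).card :=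
    Finset.card_filter_add_card_filter_not (s := (Finset.univ : Finset GolayPt))
      (fun p => g p = p)
  have h4 : (Finset.univ : Finset GolayPt).card = 24 := by
    rw [Finset.card_univ, Fintype.card_option, ZMod.card]
  rw [h4] at h3
  omega

/-- an element of order 11 of `M24` fixes exactly 2 points -/
theorem fix_eleven {g : Equiv.Perm GolayPt} (hg : g ∈ M24) (h11 : orderOf g = 11) :
    (Finset.univ.filter fun p => g p = p).card = 2 := by
  have : Fact (Nat.Prime 11) := ⟨by norm_num⟩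
  have hne : g ≠ 1 := by
    intro h
    rw [h, orderOf_one] at h11
    norm_num at h11
  have hp : g ^ 11 = 1 := by rw [← h11]; exact pow_orderOf_eq_one g
  have h1 := moved_card_dvd g 11 hp Finset.univ (by simp)
  have h2 := fix_le_eight hg hne
  have h3 : (Finset.univ.filter fun p => g p = p).card +
      (Finset.univ.filter fun p => g p ≠ p).card = (Finset.univ : Finset GolayPt).card :=
    Finset.card_filter_add_card_filter_not (s := (Finset.univ : Finset GolayPt))
      (fun p => g p = p)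
  have h4 : (Finset.univ : Finset GolayPt).card = 24 := by
    rw [Finset.card_univ, Fintype.card_option, ZMod.card]
  rw [h4] at h3
  omega

/-- an element of odd order 7 preserving a pair fixes its points -/
theorem fix_of_pair {σ : Equiv.Perm GolayPt} (h7 : σ ^ 7 = 1) {a b : GolayPt}
    (ha : σ a = a ∨ σ a = b) (hb : σ b = a ∨ σ b = b) : σ a = a := by
  rcases ha with ha | ha
  · exact ha
  · rcases hb with hb | hb
    · have h1 : (σ ^ 7) a = b := by
        simp only [pow_succ, pow_zero, one_mul, Equiv.Perm.mul_apply, ha, hb]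
      rw [h7, Equiv.Perm.one_apply] at h1
      rw [← h1] at ha
      exact ha
    · have h1 : a = b := σ.injective (ha.trans hb.symm)
      rw [← h1] at ha
      exact ha

/-! ### Conjugates -/

theorem conj_sub_mem (Hp : Subgroup (Equiv.Perm GolayPt)) (g k : Equiv.Perm GolayPt) :
    k ∈ Hp.map (MulAut.conj g⁻¹).toMonoidHom ↔ g * k * g⁻¹ ∈ Hp := by
  rw [Subgroup.mem_map]
  constructor
  · rintro ⟨k0, hk0, rfl⟩
    have h1 : g * (MulAut.conj g⁻¹).toMonoidHom k0 * g⁻¹ = k0 := by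
      show g * (g⁻¹ * k0 * g⁻¹⁻¹) * g⁻¹ = k0
      group
    rwa [h1]
  · intro h
    refine ⟨g * k * g⁻¹, h, ?_⟩
    show g⁻¹ * (g * k * g⁻¹) * g⁻¹⁻¹ = k
    group

theorem conj_sub_card (Hp : Subgroup (Equiv.Perm GolayPt)) (g : Equiv.Perm GolayPt) :
    Nat.card ↥(Hp.map (MulAut.conj g⁻¹).toMonoidHom) = Nat.card ↥Hp :=
  Subgroup.card_map_of_injective (MulEquiv.injective _)

theorem conj_sub_le {Hp : Subgroup (Equiv.Perm GolayPt)} (hH : Hp ≤ M24)
    {g : Equiv.Perm GolayPt} (hg : g ∈ M24) : Hp.map (MulAut.conj g⁻¹).toMonoidHom ≤ M24 := by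
  intro k hk
  have h1 := hH ((conj_sub_mem Hp g k).1 hk)
  have h2 : k = g⁻¹ * (g * k * g⁻¹) * g := by group
  rw [h2]
  exact M24.mul_mem (M24.mul_mem (M24.inv_mem hg) h1) hg

/-- a subgroup of `M24` of order divisible by `2^10` contains a conjugate of `syl2` -/
theorem exists_conj_syl2_le {Hp : Subgroup (Equiv.Perm GolayPt)} (hH : Hp ≤ M24)
    (h2 : 2 ^ 10 ∣ Nat.card ↥Hp) : ∃ g ∈ M24, ∀ σ ∈ syl2, g * σ * g⁻¹ ∈ Hp := by
  have : Fact (Nat.Prime 2) := ⟨Nat.prime_two⟩
  obtain ⟨Q0, hQ0⟩ := Sylow.exists_subgroup_card_pow_prime 2 h2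
  have hQcard : Nat.card ↥(Q0.map Hp.subtype) = 2 ^ 10 := by
    rw [Subgroup.card_map_of_injective (Subgroup.subtype_injective Hp), hQ0]
  have hQK : Q0.map Hp.subtype ≤ Hp := Subgroup.map_subtype_le Q0
  obtain ⟨g, hg, hconj⟩ := exists_conj_syl2 (hQK.trans hH) (IsPGroup.of_card hQcard)
  let f : ↥(Q0.map Hp.subtype) → ↥syl2 := fun σ => ⟨g⁻¹ * σ.1 * g, hconj σ.1 σ.2⟩
  have hf : Function.Injective f := by
    intro σ σ' h
    have h1 : g⁻¹ * σ.1 * g = g⁻¹ * σ'.1 * g := congrArg Subtype.val h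
    exact Subtype.ext (mul_left_cancel (mul_right_cancel h1))
  have hbij := (Nat.bijective_iff_injective_and_card f).2 ⟨hf, by rw [hQcard, card_syl2]; norm_num⟩
  refine ⟨g, hg, fun σ hσ => ?_⟩
  obtain ⟨τ, hτ⟩ := hbij.2 ⟨σ, hσ⟩
  have h1 : g⁻¹ * τ.1 * g = σ := congrArg Subtype.val hτ
  have h3 : g * σ * g⁻¹ = τ.1 := by rw [← h1]; group
  rw [h3]
  exact hQK τ.2

/-! ### Orbits of a subgroup containing `syl2` -/

theorem syl2_pres_O0 {σ : Equiv.Perm GolayPt} (hσ : σ ∈ syl2) :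
    σ • ms 8536111 = ms 8536111 := MulAction.mem_stabilizer_iff.1 hσ.1.1.2

theorem syl2_trans_C {p : GolayPt} (hp : Nat.testBit 8241104 (idx p) = true) :
    ∃ σ ∈ syl2, σ (pt 4) = p := by
  have h := reachS0_C
  rw [inf_fixing_nil] at h
  exact mem_orbit_subgroup.1 (h.mem_orbit hp)

theorem bits_C : ∀ i < 24, Nat.testBit 8241104 i = !Nat.testBit 8536111 i := by decide +kernel

theorem pt23_mem_O0 : pt 23 ∈ ms 8536111 :=
  (mem_ms _ _).2 (by rw [idx_pt (by norm_num)]; decide)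

/-- a subgroup containing `syl2` fixes the standard octad or is transitive -/
theorem syl2_dichotomy {Hp : Subgroup (Equiv.Perm GolayPt)} (hS : syl2 ≤ Hp) :
    (∀ h ∈ Hp, h • ms 8536111 = ms 8536111) ∨ (∀ p, ∃ h ∈ Hp, h (pt 23) = p) := by
  by_cases hc : ∀ h ∈ Hp, ∀ p, p ∈ ms 8536111 → h p ∈ ms 8536111
  · left
    intro h hh
    apply Finset.eq_of_subset_of_card_le
    · intro q hq
      obtain ⟨p, hp, rfl⟩ := Finset.mem_smul_finset.1 hq
      exact hc h hh p hp
    · rw [Finset.card_smul_finset]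
  · right
    push_neg at hc
    obtain ⟨h, hh, p, hp, hhp⟩ := hc
    obtain ⟨σ, hσ, hσp⟩ := syl2_trans_octad ((mem_ms _ _).1 hp)
    have hC : ∀ q : GolayPt, q ∉ ms 8536111 → ∃ ρ ∈ syl2, ρ (pt 4) = q := by
      intro q hq
      apply syl2_trans_C
      rw [bits_C _ (idx_lt q)]
      rw [mem_ms] at hq
      simpa using hq
    obtain ⟨ρ, hρ, hρp⟩ := hC (h p) hhp
    intro q
    by_cases hq : q ∈ ms 8536111
    · obtain ⟨σ', hσ', hσq⟩ := syl2_trans_octad ((mem_ms _ _).1 hq)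
      exact ⟨σ', hS hσ', hσq⟩
    · obtain ⟨ρ', hρ', hρq⟩ := hC q hq
      refine ⟨ρ' * ρ⁻¹ * h * σ, Hp.mul_mem (Hp.mul_mem (Hp.mul_mem (hS hρ')
        (Hp.inv_mem (hS hρ))) hh) (hS hσ), ?_⟩
      rw [Equiv.Perm.mul_apply, Equiv.Perm.mul_apply, Equiv.Perm.mul_apply, hσp, ← hρp,
        inv_app', hρq]

/-- the order of a transitive subgroup -/
theorem card_of_trans {Hp : Subgroup (Equiv.Perm GolayPt)}
    (htr : ∀ p, ∃ h ∈ Hp, h (pt 23) = p) (x : GolayPt) :
    Nat.card ↥Hp = 24 * Nat.card ↥(Hp ⊓ MulAction.stabilizer (Equiv.Perm GolayPt) x) := by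
  have h1 := card_eq_orbit_mul_stab' (G := Equiv.Perm GolayPt) Hp x
  have horb : MulAction.orbit ↥Hp x = Set.univ := by
    ext q
    simp only [Set.mem_univ, iff_true]
    obtain ⟨a, ha, hax⟩ := htr x
    obtain ⟨b, hb, hbq⟩ := htr q
    exact mem_orbit_subgroup.2 ⟨b * a⁻¹, Hp.mul_mem hb (Hp.inv_mem ha), by
      rw [Equiv.Perm.mul_apply, ← hax, inv_app', hbq]⟩
  rw [horb, Set.ncard_univ, card_golayPt] at h1
  exact h1

/-! ### Type A: the point stabiliser fixes the octad -/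

theorem typeA_false {Hp : Subgroup (Equiv.Perm GolayPt)} (hH : Hp ≤ M24) (hS : syl2 ≤ Hp)
    (htr : ∀ p, ∃ h ∈ Hp, h (pt 23) = p)
    (hK : ∀ k ∈ Hp, k (pt 23) = pt 23 → k • ms 8536111 = ms 8536111)
    {τ : Equiv.Perm GolayPt} (hτ : τ ∈ Hp) (h5 : orderOf τ = 5) : False := by
  classical
  have : Fact (Nat.Prime 5) := ⟨by norm_num⟩
  have hτ5 : τ ^ 5 = 1 := by rw [← h5]; exact pow_orderOf_eq_one τ
  have hfix := fix_five (hH hτ) h5
  have hblock : ∀ h ∈ Hp, ∀ z ∈ ms 8536111, h z ∈ ms 8536111 →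
      h • ms 8536111 = ms 8536111 := by
    intro h hh z hz hhz
    obtain ⟨σ', hσ', hσz⟩ := syl2_trans_octad ((mem_ms _ _).1 hz)
    obtain ⟨σ, hσ, hσhz⟩ := syl2_trans_octad ((mem_ms _ _).1 hhz)
    have h1 : (σ⁻¹ * h * σ') • ms 8536111 = ms 8536111 := by
      apply hK _ (Hp.mul_mem (Hp.mul_mem (Hp.inv_mem (hS hσ)) hh) (hS hσ'))
      rw [Equiv.Perm.mul_apply, Equiv.Perm.mul_apply, hσz, ← hσhz, inv_app']
    have h2 : h = σ * (σ⁻¹ * h * σ') * σ'⁻¹ := by group
    rw [h2, mul_smul, mul_smul, inv_smul_eq_iff.2 (syl2_pres_O0 hσ').symm, h1, syl2_pres_O0 hσ]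
  have hkey : ∀ z, τ z = z → ∃ h ∈ Hp, z ∈ h • ms 8536111 ∧
      ((h • ms 8536111).filter fun a => τ a = a).card = 3 := by
    intro z hz
    obtain ⟨h, hh, hhz⟩ := htr z
    have h1 : (h⁻¹ * τ * h) • ms 8536111 = ms 8536111 := by
      apply hK _ (Hp.mul_mem (Hp.mul_mem (Hp.inv_mem hh) hτ) hh)
      rw [Equiv.Perm.mul_apply, Equiv.Perm.mul_apply, hhz, hz, ← hhz, inv_app']
    have h2 : τ • (h • ms 8536111) = h • ms 8536111 := by
      have h3 : τ = h * (h⁻¹ * τ * h) * h⁻¹ := by group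
      rw [h3, mul_smul, mul_smul, inv_smul_smul, h1]
    have hinv : ∀ a, τ a ∈ h • ms 8536111 ↔ a ∈ h • ms 8536111 :=
      Cfsg.Agent.Lib.Helper36.mem_iff_of_smul_eq h2
    refine ⟨h, hh, ?_, ?_⟩
    · rw [← hhz]
      exact Finset.smul_mem_smul_finset pt23_mem_O0
    · have hm := moved_card_dvd τ 5 hτ5 (h • ms 8536111) hinv
      have hsplit : ((h • ms 8536111).filter fun a => τ a = a).card +
          ((h • ms 8536111).filter fun a => τ a ≠ a).card = (h • ms 8536111).card :=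
        Finset.card_filter_add_card_filter_not (s := h • ms 8536111) (fun a => τ a = a)
      rw [Finset.card_smul_finset, card_ms, popc_O0] at hsplit
      have hle : ((h • ms 8536111).filter fun a => τ a = a).card ≤ 4 := by
        rw [← hfix]
        exact Finset.card_le_card (Finset.filter_subset_filter _ (Finset.subset_univ _))
      omega
  obtain ⟨z, hz⟩ : ∃ z, τ z = z := by
    have h0 : 0 < (Finset.univ.filter fun p => τ p = p).card := by rw [hfix]; norm_num
    obtain ⟨z, hz⟩ := Finset.card_pos.1 h0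
    exact ⟨z, (Finset.mem_filter.1 hz).2⟩
  obtain ⟨h, hh, hzo, ho3⟩ := hkey z hz
  obtain ⟨z', hz', hz'o⟩ : ∃ z', τ z' = z' ∧ z' ∉ h • ms 8536111 := by
    by_contra hcon
    push_neg at hcon
    have hsub : (Finset.univ.filter fun p => τ p = p) ⊆
        ((h • ms 8536111).filter fun a => τ a = a) := by
      intro a ha
      rw [Finset.mem_filter] at ha ⊢
      exact ⟨hcon a ha.2, ha.2⟩
    have hc := Finset.card_le_card hsub
    omega
  obtain ⟨h', hh', hzo', ho'3⟩ := hkey z' hz'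
  have hdisj : Disjoint (h • ms 8536111) (h' • ms 8536111) := by
    rw [Finset.disjoint_left]
    intro w hw hw'
    obtain ⟨a, ha, rfl⟩ := Finset.mem_smul_finset.1 hw
    obtain ⟨a', ha', hae⟩ := Finset.mem_smul_finset.1 hw'
    have h1 : (h⁻¹ * h') a' = a := by
      rw [Equiv.Perm.mul_apply]
      have h0 : h' a' = h a := hae
      rw [h0, inv_app']
    have h2 := hblock (h⁻¹ * h') (Hp.mul_mem (Hp.inv_mem hh) hh') a' ha' (by rw [h1]; exact ha)
    apply hz'o
    have h3 : h' • ms 8536111 = h • ms 8536111 := by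
      calc h' • ms 8536111 = h • ((h⁻¹ * h') • ms 8536111) := by rw [mul_smul, smul_inv_smul]
        _ = h • ms 8536111 := by rw [h2]
    rw [← h3]
    exact hzo'
  have hsub : ((h • ms 8536111).filter fun a => τ a = a) ∪
      ((h' • ms 8536111).filter fun a => τ a = a) ⊆ (Finset.univ.filter fun p => τ p = p) := by
    intro a ha
    rw [Finset.mem_union, Finset.mem_filter, Finset.mem_filter] at ha
    rw [Finset.mem_filter]
    rcases ha with ha | ha <;> exact ⟨Finset.mem_univ _, ha.2⟩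
  have hc := Finset.card_le_card hsub
  rw [Finset.card_union_of_disjoint (Finset.disjoint_filter_filter hdisj), ho3, ho'3, hfix] at hc
  omega

/-! ### Type B: the point stabiliser fixes the duad -/

def sw1W : List ℕ := [0, 2, 15, 6, 12, 12, 9, 19, 19, 10, 26]

def sw1T : List ℕ :=
  [2, 23, 0, 3, 4, 5, 19, 21, 12, 10, 9, 18, 8, 13, 14, 20, 16, 17, 11, 6, 15, 7, 22, 1]

theorem sw1_tab : prodT sgsTabs sw1W = sw1T := by decide +kernel

theorem sw1_P : PS sw1T = true := by decide +kernel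

theorem exists_sw1 : ∃ σ ∈ syl2, σ (pt 23) = pt 1 ∧ σ (pt 1) = pt 23 ∧ σ (pt 2) = pt 0 ∧
    σ (pt 0) = pt 2 := by
  have h := tdec_syl2.mem_of_word (w := sw1W) (by rw [sw1_tab]; exact sw1_P)
  rw [sw1_tab] at h
  refine ⟨_, h.1, ?_, ?_, ?_, ?_⟩
  · rw [h.2.apply_pt (by norm_num)]; rfl
  · rw [h.2.apply_pt (by norm_num)]; rfl
  · rw [h.2.apply_pt (by norm_num)]; rfl
  · rw [h.2.apply_pt (by norm_num)]; rfl

theorem bits_t0 : ∀ i < 24, Nat.testBit 8388615 i = true → i = 23 ∨ i = 0 ∨ i = 1 ∨ i = 2 := by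
  decide +kernel

theorem typeB_false {Hp : Subgroup (Equiv.Perm GolayPt)} (hH : Hp ≤ M24) (hS : syl2 ≤ Hp)
    (hK : ∀ k ∈ Hp, k (pt 23) = pt 23 → k • ms 6 = ms 6)
    {g7 : Equiv.Perm GolayPt} (hg : g7 ∈ Hp) (hg23 : g7 (pt 23) = pt 23)
    (h7 : orderOf g7 = 7) : False := by
  classical
  have hfix := fix_seven (hH hg) h7
  have hp7 : g7 ^ 7 = 1 := by rw [← h7]; exact pow_orderOf_eq_one g7
  have hmem := Cfsg.Agent.Lib.Helper36.mem_iff_of_smul_eq (hK g7 hg hg23)
  have hm1 : g7 (pt 1) = pt 1 ∨ g7 (pt 1) = pt 2 := by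
    have h1 := (hmem (pt 1)).2 (by rw [ms6_eq]; simp)
    rw [ms6_eq] at h1
    simpa using h1
  have hm2 : g7 (pt 2) = pt 1 ∨ g7 (pt 2) = pt 2 := by
    have h1 := (hmem (pt 2)).2 (by rw [ms6_eq]; simp)
    rw [ms6_eq] at h1
    simpa using h1
  have hf1 : g7 (pt 1) = pt 1 := fix_of_pair hp7 hm1 hm2
  have hf2 : g7 (pt 2) = pt 2 := fix_of_pair hp7 hm2.symm hm1.symm
  obtain ⟨σ, hσ, s23, s1, s2, s0⟩ := exists_sw1
  have hk : (σ⁻¹ * g7 * σ) (pt 23) = pt 23 := by
    rw [Equiv.Perm.mul_apply, Equiv.Perm.mul_apply, s23, hf1, ← s23, inv_app']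
  have hmem' := Cfsg.Agent.Lib.Helper36.mem_iff_of_smul_eq
    (hK _ (Hp.mul_mem (Hp.mul_mem (Hp.inv_mem (hS hσ)) hg) (hS hσ)) hk)
  have h3 := (hmem' (pt 2)).2 (by rw [ms6_eq]; simp)
  rw [ms6_eq, Equiv.Perm.mul_apply, Equiv.Perm.mul_apply, s2, Finset.mem_insert,
    Finset.mem_singleton, Equiv.Perm.inv_eq_iff_eq, Equiv.Perm.inv_eq_iff_eq, s1, s2] at h3
  have hf0 : g7 (pt 0) = pt 0 := by
    rcases h3 with h3 | h3
    · exfalso
      have h4 : g7 (pt 0) = g7 (pt 23) := by rw [h3, hg23]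
      exact pt_ne (by norm_num) (by norm_num) (by norm_num) (g7.injective h4)
    · exact h3
  have hsub : ms 8388615 ⊆ (Finset.univ.filter fun p => g7 p = p) := by
    intro p hp
    rw [Finset.mem_filter]
    refine ⟨Finset.mem_univ _, ?_⟩
    rw [mem_ms] at hp
    rcases bits_t0 _ (idx_lt p) hp with h | h | h | h
    · rw [← pt_idx p, h]; exact hg23
    · rw [← pt_idx p, h]; exact hf0
    · rw [← pt_idx p, h]; exact hf1
    · rw [← pt_idx p, h]; exact hf2
  have hc := Finset.card_le_card hsub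
  rw [card_ms, hfix] at hc
  revert hc
  decide +kernel

end Cfsg.Agent.Lib.Helper94
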