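import Mathlib
import Cfsg.Agent.Lib.Helper94.M24IdxA

set_option autoImplicit false

/-!
# Subgroups of `M24` of index 759, 253 and 1771 (helper94)

In standard position (the subgroup contains `syl2`):
* `std_759_253`: a subgroup of order `322560` or `967680` fixes the standard octad;
* `std_1771`: a subgroup of order `138240` fixes the standard sextet.
Then the statements for arbitrary subgroups of `↥M24`: `idx759`, `idx253`, `idx1771`.
-/

namespace Cfsg.Agent.Lib.Helper94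

open Cfsg Cfsg.Agent.Lib.Helper9 Cfsg.Agent.Lib.Helper36
open scoped Pointwise

/-- the orbit of `pt 4` under a subgroup fixing `pt 23` and containing `syl2 ⊓ fixing [23]` -/
theorem orbit_P23 {K : Subgroup (Equiv.Perm GolayPt)} (hP : syl2 ⊓ fixing [23] ≤ K)
    (h23 : ∀ k ∈ K, k (pt 23) = pt 23) :
    ∃ e0 e1 e3 : Bool,
      (∀ p : GolayPt, p ∈ ms (Sm e0 e1 e3) ↔ p ∈ MulAction.orbit ↥K (pt 4)) ∧
      popc (Sm e0 e1 e3) ∣ Nat.card ↥K ∧
      ∀ k ∈ K, ∀ p, k p ∈ ms (Sm e0 e1 e3) ↔ p ∈ ms (Sm e0 e1 e3) := by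
  classical
  have hKS : ∀ k ∈ K, ∀ p, k p ∈ MulAction.orbit ↥K (pt 4) ↔ p ∈ MulAction.orbit ↥K (pt 4) := by
    intro k hk p
    constructor
    · intro h
      obtain ⟨k', hk', hkp⟩ := mem_orbit_subgroup.1 h
      exact mem_orbit_subgroup.2 ⟨k⁻¹ * k', K.mul_mem (K.inv_mem hk) hk', by
        rw [Equiv.Perm.mul_apply, hkp, inv_app']⟩
    · intro h
      obtain ⟨k', hk', hkp⟩ := mem_orbit_subgroup.1 h
      exact mem_orbit_subgroup.2 ⟨k * k', K.mul_mem hk hk', by rw [Equiv.Perm.mul_apply, hkp]⟩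
  have hPS : ∀ {p q : GolayPt}, q ∈ MulAction.orbit ↥(syl2 ⊓ fixing [23]) p →
      (q ∈ MulAction.orbit ↥K (pt 4) ↔ p ∈ MulAction.orbit ↥K (pt 4)) := by
    intro p q hq
    obtain ⟨σ, hσ, rfl⟩ := mem_orbit_subgroup.1 hq
    exact hKS σ (hP hσ) p
  have h23S : pt 23 ∉ MulAction.orbit ↥K (pt 4) := by
    intro h
    obtain ⟨k, hk, hkp⟩ := mem_orbit_subgroup.1 h
    have h1 : k (pt 23) = k (pt 4) := by rw [h23 k hk, hkp]
    have h2 := congrArg idx (k.injective h1)
    rw [idx_pt (by norm_num), idx_pt (by norm_num)] at h2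
    norm_num at h2
  refine ⟨decide (pt 0 ∈ MulAction.orbit ↥K (pt 4)), decide (pt 1 ∈ MulAction.orbit ↥K (pt 4)),
    decide (pt 3 ∈ MulAction.orbit ↥K (pt 4)), ?_⟩
  set e0 : Bool := decide (pt 0 ∈ MulAction.orbit ↥K (pt 4)) with he0
  set e1 : Bool := decide (pt 1 ∈ MulAction.orbit ↥K (pt 4)) with he1
  set e3 : Bool := decide (pt 3 ∈ MulAction.orbit ↥K (pt 4)) with he3
  have hmem : ∀ p : GolayPt, p ∈ ms (Sm e0 e1 e3) ↔ p ∈ MulAction.orbit ↥K (pt 4) := by
    intro p
    rw [mem_ms]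
    rcases Sm_blocks (idx p) (idx_lt p) with h | h | h | h | h
    · have hp : p = pt 23 := by rw [← h, pt_idx]
      rw [h, Sm_23]
      simp [hp, h23S]
    · rw [Sm_C _ (idx_lt p) h]
      have h1 : p ∈ MulAction.orbit ↥(syl2 ⊓ fixing [23]) (pt 4) := reachS1_C.mem_orbit h
      simp [(hPS h1).2 (MulAction.mem_orbit_self _)]
    · have hp : p = pt 0 := by rw [← h, pt_idx]
      rw [h, Sm_0, hp, he0, decide_eq_true_eq]
    · rw [Sm_6 _ (idx_lt p) h]
      have h1 : p ∈ MulAction.orbit ↥(syl2 ⊓ fixing [23]) (pt 1) := reachS1_a2.mem_orbit h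
      rw [hPS h1, he1, decide_eq_true_eq]
    · rw [Sm_B _ (idx_lt p) h]
      have h1 : p ∈ MulAction.orbit ↥(syl2 ⊓ fixing [23]) (pt 3) := reachS1_B.mem_orbit h
      rw [hPS h1, he3, decide_eq_true_eq]
  have hcard : (MulAction.orbit ↥K (pt 4)).ncard = popc (Sm e0 e1 e3) := by
    rw [← card_ms, ← Set.ncard_coe_finset]
    congr 1
    ext p
    rw [Finset.mem_coe, hmem]
  refine ⟨hmem, ?_, ?_⟩
  · have h1 := card_eq_orbit_mul_stab' (G := Equiv.Perm GolayPt) K (pt 4)
    rw [hcard] at h1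
    exact Dvd.intro _ h1.symm
  · intro k hk p
    rw [hmem, hmem]
    exact hKS k hk p

/-! ### Orders `322560` and `967680` -/

theorem mem_K_iff {Hc : Subgroup (Equiv.Perm GolayPt)} {k : Equiv.Perm GolayPt} :
    k ∈ Hc ⊓ MulAction.stabilizer (Equiv.Perm GolayPt) (pt 23) ↔ k ∈ Hc ∧ k (pt 23) = pt 23 := by
  rw [Subgroup.mem_inf, MulAction.mem_stabilizer_iff]
  rfl

theorem P23_le_K {Hc : Subgroup (Equiv.Perm GolayPt)} (hS : syl2 ≤ Hc) :
    syl2 ⊓ fixing [23] ≤ Hc ⊓ MulAction.stabilizer (Equiv.Perm GolayPt) (pt 23) :=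
  fun τ hτ => mem_K_iff.2 ⟨hS hτ.1, hτ.2 23 (by simp)⟩

/-- a subgroup of order `322560` or `967680` containing `syl2` fixes the standard octad -/
theorem std_759_253 {Hc : Subgroup (Equiv.Perm GolayPt)} (hH : Hc ≤ M24) (hS : syl2 ≤ Hc)
    (hcard : Nat.card ↥Hc = 322560 ∨ Nat.card ↥Hc = 967680) :
    ∀ h ∈ Hc, h • ms 8536111 = ms 8536111 := by
  rcases syl2_dichotomy hS with h | htr
  · exact h
  · exfalso
    have hKc := card_of_trans htr (pt 23)
    have hKcard : Nat.card ↥(Hc ⊓ MulAction.stabilizer (Equiv.Perm GolayPt) (pt 23)) = 13440 ∨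
        Nat.card ↥(Hc ⊓ MulAction.stabilizer (Equiv.Perm GolayPt) (pt 23)) = 40320 := by omega
    have h23 : ∀ k ∈ Hc ⊓ MulAction.stabilizer (Equiv.Perm GolayPt) (pt 23), k (pt 23) = pt 23 :=
      fun k hk => (mem_K_iff.1 hk).2
    have : Fact (Nat.Prime 7) := ⟨by norm_num⟩
    have : Finite ↥(Hc ⊓ MulAction.stabilizer (Equiv.Perm GolayPt) (pt 23)) :=
      Nat.finite_of_card_ne_zero (by rcases hKcard with h | h <;> rw [h] <;> norm_num)
    obtain ⟨y, hy⟩ := exists_prime_orderOf_dvd_card'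
      (G := ↥(Hc ⊓ MulAction.stabilizer (Equiv.Perm GolayPt) (pt 23))) 7
      (by rcases hKcard with h | h <;> rw [h] <;> norm_num)
    have hy' : orderOf (y : Equiv.Perm GolayPt) = 7 := by rw [Subgroup.orderOf_coe]; exact hy
    have h7 : (y : Equiv.Perm GolayPt) ^ 7 = 1 := by rw [← hy']; exact pow_orderOf_eq_one _
    have hfix := fix_seven (hH y.2.1) hy'
    have hkey := core_P23 (P23_le_K hS) h23 y.2 h7 hfix
      (by rcases hKcard with h | h <;> rw [h] <;> norm_num)
      (by rcases hKcard with h | h <;> rw [h] <;> norm_num)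
    have : Fact (Nat.Prime 5) := ⟨by norm_num⟩
    have : Finite ↥Hc :=
      Nat.finite_of_card_ne_zero (by rcases hcard with h | h <;> rw [h] <;> norm_num)
    obtain ⟨t, ht⟩ := exists_prime_orderOf_dvd_card' (G := ↥Hc) 5
      (by rcases hcard with h | h <;> rw [h] <;> norm_num)
    rcases hkey with hA | hB
    · exact typeA_false hH hS htr (fun k hk hk23 => hA k (mem_K_iff.2 ⟨hk, hk23⟩)) t.2
        (by rw [Subgroup.orderOf_coe]; exact ht)
    · exact typeB_false hH hS (fun k hk hk23 => hB k (mem_K_iff.2 ⟨hk, hk23⟩)) y.2.1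
        (h23 y.1 y.2) hy'

/-! ### Order `138240` -/

/-- the standard sextet -/
def sxS : Finset (Finset GolayPt) := Cfsg.Agent.Lib.Helper95.sxSet Cfsg.Agent.Lib.Helper95.sx0L

theorem sxS_mem : sxS ∈ sextets := Cfsg.Agent.Lib.Helper95.sx0_mem_sextets

theorem t0_mem_sxS : ms 8388615 ∈ sxS :=
  Cfsg.Agent.Lib.Helper95.mem_sxSet.mpr ⟨8388615, by decide, rfl⟩

theorem B_mem_sxS : ms 147496 ∈ sxS :=
  Cfsg.Agent.Lib.Helper95.mem_sxSet.mpr ⟨147496, by decide, rfl⟩

theorem smul_sxS_of_tetrad {σ : Equiv.Perm GolayPt} (hσ : σ ∈ M24) {t : Finset GolayPt}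
    (ht : t ∈ sxS) (hσt : σ • t ∈ sxS) : σ • sxS = sxS :=
  Cfsg.Agent.Lib.Helper95.sextet_eq_of_common
    (Cfsg.Agent.Lib.Helper95.smul_sextet_mem hσ sxS_mem) sxS_mem
    (Finset.smul_mem_smul_finset ht) hσt

theorem syl2_pres_sxS {σ : Equiv.Perm GolayPt} (hσ : σ ∈ syl2) : σ • sxS = sxS := by
  have h1 : σ • famSet [8388615, 147496] = famSet [8388615, 147496] :=
    MulAction.mem_stabilizer_iff.1 hσ.1.2
  have h2 : σ • ms 8388615 ∈ famSet [8388615, 147496] := by
    rw [← h1]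
    exact Finset.smul_mem_smul_finset (mem_famSet.2 ⟨8388615, by simp, rfl⟩)
  obtain ⟨m, hm, hme⟩ := mem_famSet.1 h2
  apply smul_sxS_of_tetrad (syl2_le hσ) t0_mem_sxS
  rw [← hme]
  simp only [List.mem_cons, List.not_mem_nil, or_false] at hm
  rcases hm with rfl | rfl
  · exact t0_mem_sxS
  · exact B_mem_sxS

theorem Sm_arith_1771 : ∀ e0 e1 e3 : Bool, popc (Sm e0 e1 e3) ∣ 5760 →
    (e0 = false ∧ e3 = false) ∨ (e0 = false ∧ e1 = false ∧ e3 = true) := by decide +kernel

theorem Sm_W : ∀ i < 24, Nat.testBit 8536105 i = true →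
    Nat.testBit 8536111 i = true ∧ ∀ e1 : Bool, (Sm false e1 false).testBit i = false := by
  decide +kernel

theorem Sm_compl_O0 : ∀ i < 24, ∀ e1 : Bool, (Sm false e1 false).testBit i = false →
    Nat.testBit 8536111 i = true := by decide +kernel

theorem Sm_compl_t0 : ∀ i < 24, Nat.testBit 8388615 i = !(Sm false false true).testBit i := by
  decide +kernel

theorem popc_W : popc 8536105 = 6 := by decide +kernel

theorem Sm_3 : (Sm false false true).testBit 3 = true := by decide +kernel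

/-- a subgroup of order `138240` containing `syl2` fixes the standard sextet -/
theorem std_1771 {Hc : Subgroup (Equiv.Perm GolayPt)} (hH : Hc ≤ M24) (hS : syl2 ≤ Hc)
    (hcard : Nat.card ↥Hc = 138240) : ∀ h ∈ Hc, h • sxS = sxS := by
  have hO0 : ms 8536111 ∈ octads := ms_mem_octads inCode_O0 popc_O0
  have : Finite ↥Hc := Nat.finite_of_card_ne_zero (by rw [hcard]; norm_num)
  rcases syl2_dichotomy hS with hO | htr
  · exfalso
    have hle : Hc ≤ stabIn (ms 8536111) := fun h hh => mem_stabIn.2 ⟨hH hh, hO h hh⟩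
    have h1 := Subgroup.card_dvd_of_le hle
    rw [hcard, card_stabIn_octad hO0] at h1
    revert h1
    decide +kernel
  · have hKc := card_of_trans htr (pt 23)
    have hKcard : Nat.card ↥(Hc ⊓ MulAction.stabilizer (Equiv.Perm GolayPt) (pt 23)) = 5760 := by
      omega
    have h23 : ∀ k ∈ Hc ⊓ MulAction.stabilizer (Equiv.Perm GolayPt) (pt 23), k (pt 23) = pt 23 :=
      fun k hk => (mem_K_iff.1 hk).2
    obtain ⟨e0, e1, e3, hmem, hdvd, hinv⟩ := orbit_P23 (P23_le_K hS) h23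
    rw [hKcard] at hdvd
    rcases Sm_arith_1771 e0 e1 e3 hdvd with ⟨h0, h3⟩ | ⟨h0, h1, h3⟩
    · -- the point stabiliser fixes the octad
      exfalso
      subst h0 h3
      have : Fact (Nat.Prime 5) := ⟨by norm_num⟩
      obtain ⟨t, ht⟩ := exists_prime_orderOf_dvd_card' (G := ↥Hc) 5 (by rw [hcard]; norm_num)
      refine typeA_false hH hS htr (fun k hk hk23 => ?_) t.2
        (by rw [Subgroup.orderOf_coe]; exact ht)
      have hkK := mem_K_iff.2 ⟨hk, hk23⟩
      refine (octad_eq_of_inter (smul_octad_mem (hH hk) hO0) hO0 ?_)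
      have hsub : k • ms 8536105 ⊆ k • ms 8536111 ∩ ms 8536111 := by
        intro q hq
        obtain ⟨p, hp, rfl⟩ := Finset.mem_smul_finset.1 hq
        rw [mem_ms] at hp
        have hW := Sm_W _ (idx_lt p) hp
        rw [Finset.mem_inter]
        refine ⟨Finset.smul_mem_smul_finset ((mem_ms _ _).2 hW.1), ?_⟩
        have h1 : k p ∉ ms (Sm false e1 false) := by
          rw [hinv k hkK p, mem_ms, hW.2 e1]
          simp
        rw [mem_ms] at h1 ⊢
        exact Sm_compl_O0 _ (idx_lt _) e1 (by simpa using h1)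
      have hc := Finset.card_le_card hsub
      rw [Finset.card_smul_finset, card_ms, popc_W] at hc
      omega
    · -- the point stabiliser fixes the tetrad
      subst h0 h1 h3
      have hKt : ∀ k ∈ Hc ⊓ MulAction.stabilizer (Equiv.Perm GolayPt) (pt 23),
          k • sxS = sxS := by
        intro k hk
        apply smul_sxS_of_tetrad (hH hk.1) t0_mem_sxS
        have h1 : k • ms 8388615 = ms 8388615 := by
          apply smul_eq_of_mem_iff
          intro x
          rw [mem_ms, mem_ms, Sm_compl_t0 _ (idx_lt _), Sm_compl_t0 _ (idx_lt _)]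
          have h4 := hinv k hk x
          rw [mem_ms, mem_ms] at h4
          simp only [Bool.not_eq_true', ← Bool.not_eq_true, h4]
        rw [h1]
        exact t0_mem_sxS
      -- the stabiliser of the sextet in `Hc` is transitive
      have h34 : pt 3 ∈ MulAction.orbit ↥(Hc ⊓ MulAction.stabilizer (Equiv.Perm GolayPt) (pt 23))
          (pt 4) := by
        rw [← hmem, mem_ms, idx_pt (by norm_num)]
        exact Sm_3
      obtain ⟨k0, hk0, hk034⟩ := mem_orbit_subgroup.1 h34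
      obtain ⟨σ3, hσ3, hσ33⟩ := syl2_trans_octad (p := pt 3) (by
        rw [idx_pt (by norm_num)]; decide)
      have htrL : ∀ p, ∃ l ∈ Hc, l • sxS = sxS ∧ l (pt 23) = p := by
        intro p
        by_cases hp : p ∈ ms 8536111
        · obtain ⟨σ, hσ, hσp⟩ := syl2_trans_octad ((mem_ms _ _).1 hp)
          exact ⟨σ, hS hσ, syl2_pres_sxS hσ, hσp⟩
        · obtain ⟨ρ, hρ, hρp⟩ := syl2_trans_C (p := p) (by
            rw [bits_C _ (idx_lt p)]
            rw [mem_ms] at hp
            simpa using hp)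
          refine ⟨ρ * k0⁻¹ * σ3, Hc.mul_mem (Hc.mul_mem (hS hρ) (Hc.inv_mem hk0.1)) (hS hσ3),
            ?_, ?_⟩
          · rw [mul_smul, mul_smul, syl2_pres_sxS hσ3,
              inv_smul_eq_iff.2 (hKt k0 hk0).symm, syl2_pres_sxS hρ]
          · rw [Equiv.Perm.mul_apply, Equiv.Perm.mul_apply, hσ33, ← hk034, inv_app', hρp]
      intro h hh
      obtain ⟨l, hl, hls, hlp⟩ := htrL (h (pt 23))
      have h1 : (l⁻¹ * h) • sxS = sxS :=
        hKt _ (mem_K_iff.2 ⟨Hc.mul_mem (Hc.inv_mem hl) hh, by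
          rw [Equiv.Perm.mul_apply, ← hlp, inv_app']⟩)
      calc h • sxS = l • ((l⁻¹ * h) • sxS) := by rw [mul_smul, smul_inv_smul]
        _ = sxS := by rw [h1, hls]

end Cfsg.Agent.Lib.Helper94
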