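import Mathlib
import Cfsg.Agent.Lib.Helper94.M24IdxB

set_option autoImplicit false

/-!
# Subgroups of `↥M24` of index 759, 253 and 1771 (helper94)

* `idx759`: a subgroup of index 759 is the stabiliser of the octad `g • ms 8536111`;
* `idx253`: there is no subgroup of index 253;
* `idx1771`: a subgroup of index 1771 is the stabiliser of the sextet `g • sxS`.
-/

namespace Cfsg.Agent.Lib.Helper94

open Cfsg Cfsg.Agent.Lib.Helper9 Cfsg.Agent.Lib.Helper36
open scoped Pointwise

theorem mem_map_subtype (H : Subgroup ↥M24) (x : ↥M24) : x.1 ∈ H.map M24.subtype ↔ x ∈ H := by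
  rw [Subgroup.mem_map]
  constructor
  · rintro ⟨y, hy, hyx⟩
    have h1 : y = x := Subtype.ext hyx
    rwa [← h1]
  · intro h
    exact ⟨x, h, rfl⟩

theorem map_subtype_le_M24 (H : Subgroup ↥M24) : H.map M24.subtype ≤ M24 := by
  intro σ hσ
  obtain ⟨y, -, rfl⟩ := Subgroup.mem_map.1 hσ
  exact y.2

theorem card_map_subtype_M24 (H : Subgroup ↥M24) :
    Nat.card ↥(H.map M24.subtype) = Nat.card ↥H :=
  Subgroup.card_map_of_injective (Subgroup.subtype_injective _)

theorem card_of_index (H : Subgroup ↥M24) :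
    Nat.card ↥(H.map M24.subtype) * H.index = 244823040 := by
  rw [card_map_subtype_M24, Subgroup.card_mul_index, card_M24]

/-- transfer of a description in standard position -/
theorem mem_of_conj_std (H : Subgroup ↥M24) {g : Equiv.Perm GolayPt} (hg : g ∈ M24)
    {Ω : Type*} [MulAction (Equiv.Perm GolayPt) Ω] (a : Ω)
    (h : ∀ k, k ∈ (H.map M24.subtype).map (MulAut.conj g⁻¹).toMonoidHom ↔ k ∈ M24 ∧ k • a = a)
    (x : ↥M24) : x ∈ H ↔ x.1 • (g • a) = g • a := by
  rw [← mem_map_subtype]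
  have h1 := h (g⁻¹ * x.1 * g)
  rw [conj_sub_mem] at h1
  have h2 : g * (g⁻¹ * x.1 * g) * g⁻¹ = x.1 := by group
  rw [h2] at h1
  rw [h1, mul_smul, mul_smul, inv_smul_eq_iff]
  constructor
  · exact fun h => h.2
  · exact fun h => ⟨M24.mul_mem (M24.mul_mem (M24.inv_mem hg) x.2) hg, h⟩

/-- conjugating a subgroup of order divisible by `2^10` into standard position -/
theorem exists_std (H : Subgroup ↥M24) (h2 : 2 ^ 10 ∣ Nat.card ↥(H.map M24.subtype)) :
    ∃ g ∈ M24, syl2 ≤ (H.map M24.subtype).map (MulAut.conj g⁻¹).toMonoidHom := by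
  obtain ⟨g, hg, hconj⟩ := exists_conj_syl2_le (map_subtype_le_M24 H) h2
  exact ⟨g, hg, fun σ hσ => (conj_sub_mem _ g σ).2 (hconj σ hσ)⟩

theorem idx759 (H : Subgroup ↥M24) (hH : H.index = 759) :
    ∃ g ∈ M24, ∀ x : ↥M24, x ∈ H ↔ x.1 • (g • ms 8536111) = g • ms 8536111 := by
  have hc := card_of_index H
  rw [hH] at hc
  have hcard : Nat.card ↥(H.map M24.subtype) = 322560 := by omega
  obtain ⟨g, hg, hS⟩ := exists_std H (by rw [hcard]; norm_num)
  have hHcM : (H.map M24.subtype).map (MulAut.conj g⁻¹).toMonoidHom ≤ M24 :=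
    conj_sub_le (map_subtype_le_M24 H) hg
  have hHccard : Nat.card ↥((H.map M24.subtype).map (MulAut.conj g⁻¹).toMonoidHom) = 322560 := by
    rw [conj_sub_card, hcard]
  have hpres := std_759_253 hHcM hS (Or.inl hHccard)
  have hO0 : ms 8536111 ∈ octads := ms_mem_octads inCode_O0 popc_O0
  have hle : (H.map M24.subtype).map (MulAut.conj g⁻¹).toMonoidHom ≤ stabIn (ms 8536111) :=
    fun h hh => mem_stabIn.2 ⟨hHcM hh, hpres h hh⟩
  have : Finite ↥(stabIn (ms 8536111)) :=
    Nat.finite_of_card_ne_zero (by rw [card_stabIn_octad hO0]; norm_num)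
  have heq : (H.map M24.subtype).map (MulAut.conj g⁻¹).toMonoidHom = stabIn (ms 8536111) :=
    Subgroup.eq_of_le_of_card_ge hle (by rw [card_stabIn_octad hO0, hHccard])
  refine ⟨g, hg, fun x => mem_of_conj_std H hg _ (fun k => ?_) x⟩
  rw [heq]
  exact mem_stabIn

theorem idx253 (H : Subgroup ↥M24) : H.index ≠ 253 := by
  intro hH
  have hc := card_of_index H
  rw [hH] at hc
  have hcard : Nat.card ↥(H.map M24.subtype) = 967680 := by omega
  obtain ⟨g, hg, hS⟩ := exists_std H (by rw [hcard]; norm_num)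
  have hHcM : (H.map M24.subtype).map (MulAut.conj g⁻¹).toMonoidHom ≤ M24 :=
    conj_sub_le (map_subtype_le_M24 H) hg
  have hHccard : Nat.card ↥((H.map M24.subtype).map (MulAut.conj g⁻¹).toMonoidHom) = 967680 := by
    rw [conj_sub_card, hcard]
  have hpres := std_759_253 hHcM hS (Or.inr hHccard)
  have hO0 : ms 8536111 ∈ octads := ms_mem_octads inCode_O0 popc_O0
  have hle : (H.map M24.subtype).map (MulAut.conj g⁻¹).toMonoidHom ≤ stabIn (ms 8536111) :=
    fun h hh => mem_stabIn.2 ⟨hHcM hh, hpres h hh⟩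
  have : Finite ↥(stabIn (ms 8536111)) :=
    Nat.finite_of_card_ne_zero (by rw [card_stabIn_octad hO0]; norm_num)
  have h1 := Subgroup.card_le_of_le hle
  rw [card_stabIn_octad hO0, hHccard] at h1
  omega

theorem card_stabIn_sxS : Nat.card ↥(stabIn sxS) = 138240 :=
  (Nat.card_congr (stabEquiv sxS)).symm.trans (Cfsg.Agent.Lib.Helper95.card_sextet_stab sxS_mem)

theorem idx1771 (H : Subgroup ↥M24) (hH : H.index = 1771) :
    ∃ g ∈ M24, ∀ x : ↥M24, x ∈ H ↔ x.1 • (g • sxS) = g • sxS := by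
  have hc := card_of_index H
  rw [hH] at hc
  have hcard : Nat.card ↥(H.map M24.subtype) = 138240 := by omega
  obtain ⟨g, hg, hS⟩ := exists_std H (by rw [hcard]; norm_num)
  have hHcM : (H.map M24.subtype).map (MulAut.conj g⁻¹).toMonoidHom ≤ M24 :=
    conj_sub_le (map_subtype_le_M24 H) hg
  have hHccard : Nat.card ↥((H.map M24.subtype).map (MulAut.conj g⁻¹).toMonoidHom) = 138240 := by
    rw [conj_sub_card, hcard]
  have hpres := std_1771 hHcM hS hHccard
  have hle : (H.map M24.subtype).map (MulAut.conj g⁻¹).toMonoidHom ≤ stabIn sxS :=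
    fun h hh => mem_stabIn.2 ⟨hHcM hh, hpres h hh⟩
  have : Finite ↥(stabIn sxS) :=
    Nat.finite_of_card_ne_zero (by rw [card_stabIn_sxS]; norm_num)
  have heq : (H.map M24.subtype).map (MulAut.conj g⁻¹).toMonoidHom = stabIn sxS :=
    Subgroup.eq_of_le_of_card_ge hle (by rw [card_stabIn_sxS, hHccard])
  refine ⟨g, hg, fun x => mem_of_conj_std H hg _ (fun k => ?_) x⟩
  rw [heq]
  exact mem_stabIn

end Cfsg.Agent.Lib.Helper94
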