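import Mathlib
import Cfsg.Agent.Lib.Helper94.M24IdxC

set_option autoImplicit false

/-!
# Subgroups of `↥M24` of index 276 (helper94)

`idx276`: a subgroup of index 276 is the stabiliser of a duad.  The proof looks at the orbits
of the fixed points of an element of order 11, using an element of order 7 and divisibility.
-/

namespace Cfsg.Agent.Lib.Helper94

open Cfsg Cfsg.Agent.Lib.Helper9 Cfsg.Agent.Lib.Helper36
open scoped Pointwise

/-- the orbit of a point as a finset -/
theorem orbit_finset (Hq : Subgroup (Equiv.Perm GolayPt)) (a : GolayPt) :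
    ∃ R : Finset GolayPt, a ∈ R ∧ (∀ p, p ∈ R ↔ ∃ k ∈ Hq, k a = p) ∧
      (∀ k ∈ Hq, ∀ p, k p ∈ R ↔ p ∈ R) ∧
      Nat.card ↥Hq = R.card * Nat.card ↥(Hq ⊓ MulAction.stabilizer (Equiv.Perm GolayPt) a) := by
  classical
  refine ⟨Finset.univ.filter (fun p => p ∈ MulAction.orbit ↥Hq a), ?_, ?_, ?_, ?_⟩
  · simp [MulAction.mem_orbit_self]
  · intro p
    rw [Finset.mem_filter, mem_orbit_subgroup]
    simp
  · intro k hk p
    simp only [Finset.mem_filter, Finset.mem_univ, true_and, mem_orbit_subgroup]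
    constructor
    · rintro ⟨k', hk', hkp⟩
      exact ⟨k⁻¹ * k', Hq.mul_mem (Hq.inv_mem hk) hk', by
        rw [Equiv.Perm.mul_apply, hkp, inv_app']⟩
    · rintro ⟨k', hk', hkp⟩
      exact ⟨k * k', Hq.mul_mem hk hk', by rw [Equiv.Perm.mul_apply, hkp]⟩
  · have h1 := card_eq_orbit_mul_stab' (G := Equiv.Perm GolayPt) Hq a
    rw [h1]
    congr 1
    rw [← Set.ncard_coe_finset]
    congr 1
    ext p
    simp

/-- fixed points of an element of prime order in an invariant set -/
theorem fix_in_count {σ : Equiv.Perm GolayPt} (p : ℕ) [Fact p.Prime] (hσ : σ ^ p = 1)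
    {R : Finset GolayPt} (hinv : ∀ x, σ x ∈ R ↔ x ∈ R) :
    (R.filter fun x => σ x = x).card ≤ R.card ∧
      p ∣ R.card - (R.filter fun x => σ x = x).card := by
  have hm := moved_card_dvd σ p hσ R hinv
  have hsplit : (R.filter fun a => σ a = a).card + (R.filter fun a => σ a ≠ a).card = R.card :=
    Finset.card_filter_add_card_filter_not (s := R) (fun a => σ a = a)
  refine ⟨by omega, ?_⟩
  have h1 : R.card - (R.filter fun x => σ x = x).card = (R.filter fun a => σ a ≠ a).card := by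
    omega
  rw [h1]
  exact hm

theorem card_golay_univ : (Finset.univ : Finset GolayPt).card = 24 := by
  rw [Finset.card_univ, Fintype.card_option, ZMod.card]

/-- orbit data for a subgroup containing elements of order 11 and 7 -/
theorem orbit_data {Hq : Subgroup (Equiv.Perm GolayPt)} (hHq : Hq ≤ M24)
    {σ g7 : Equiv.Perm GolayPt} (hσ : σ ∈ Hq) (h11 : orderOf σ = 11) (hg : g7 ∈ Hq)
    (h7 : orderOf g7 = 7) (a : GolayPt) :
    ∃ R : Finset GolayPt, a ∈ R ∧ (∀ p, p ∈ R ↔ ∃ k ∈ Hq, k a = p) ∧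
      (∀ k ∈ Hq, ∀ p, k p ∈ R ↔ p ∈ R) ∧ R.card ∣ Nat.card ↥Hq ∧ R.card ≤ 24 ∧
      (R.filter fun x => σ x = x).card ≤ R.card ∧
      11 ∣ R.card - (R.filter fun x => σ x = x).card ∧
      ∃ f7 ≤ 3, f7 ≤ R.card ∧ 7 ∣ R.card - f7 := by
  obtain ⟨R, haR, hR, hinv, hcard⟩ := orbit_finset Hq a
  have : Fact (Nat.Prime 11) := ⟨by norm_num⟩
  have : Fact (Nat.Prime 7) := ⟨by norm_num⟩
  have hσ11 : σ ^ 11 = 1 := by rw [← h11]; exact pow_orderOf_eq_one σ
  have hg7 : g7 ^ 7 = 1 := by rw [← h7]; exact pow_orderOf_eq_one g7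
  have c11 := fix_in_count 11 hσ11 (hinv σ hσ)
  have c7 := fix_in_count 7 hg7 (hinv g7 hg)
  refine ⟨R, haR, hR, hinv, Dvd.intro _ hcard.symm, ?_, c11.1, c11.2, _, ?_, c7.1, c7.2⟩
  · have h1 := Finset.card_le_card (Finset.subset_univ R)
    rwa [card_golay_univ] at h1
  · rw [← fix_seven (hHq hg) h7]
    exact Finset.card_le_card (Finset.filter_subset_filter _ (Finset.subset_univ _))

theorem arith276 {n f11 f7 : ℕ} (hn : n ≤ 24) (h1 : 1 ≤ f11) (h2 : f11 ≤ 2) (h3 : f11 ≤ n)
    (h4 : f7 ≤ 3) (h5 : f7 ≤ n) (h6 : 11 ∣ n - f11) (h7 : 7 ∣ n - f7) (h8 : n ∣ 887040) :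
    (n = 1 ∧ f11 = 1) ∨ (n = 2 ∧ f11 = 2) ∨ (n = 24 ∧ f11 = 2) := by
  have h13 : n ≠ 13 := by
    rintro rfl
    norm_num at h8
  have h23 : n ≠ 23 := by
    rintro rfl
    norm_num at h8
  omega

theorem arith276' {n f7 : ℕ} (hn : n ≤ 24) (h1 : 1 ≤ n) (h4 : f7 ≤ 3) (h5 : f7 ≤ n)
    (h6 : 11 ∣ n - 1) (h7 : 7 ∣ n - f7) (h8 : n ∣ 36960) : n = 1 := by
  have h23 : n ≠ 23 := by
    rintro rfl
    norm_num at h8
  omega

/-- the order of the stabiliser of a duad -/
theorem card_stab_duad {a b : GolayPt} (hab : a ≠ b) :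
    Nat.card ↥(stabIn ({a, b} : Finset GolayPt)) = 887040 := by
  classical
  have h1 := card_eq_orbit_mul_stab' (G := Equiv.Perm GolayPt) M24 ({a, b} : Finset GolayPt)
  rw [card_M24] at h1
  have horb : MulAction.orbit ↥M24 ({a, b} : Finset GolayPt) =
      ((Finset.powersetCard 2 Finset.univ : Finset (Finset GolayPt)) :
        Set (Finset GolayPt)) := by
    ext s
    rw [Finset.mem_coe, Finset.mem_powersetCard, MulAction.mem_orbit_iff]
    constructor
    · rintro ⟨σ, rfl⟩
      refine ⟨Finset.subset_univ _, ?_⟩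
      show (σ.1 • ({a, b} : Finset GolayPt)).card = 2
      rw [Finset.card_smul_finset, Finset.card_pair hab]
    · rintro ⟨-, hcard⟩
      obtain ⟨c, d, hcd, rfl⟩ := Finset.card_eq_two.1 hcard
      obtain ⟨g, hg, e0, e1⟩ := exists_map_two_two hab hcd
      refine ⟨⟨g, hg⟩, ?_⟩
      show g • ({a, b} : Finset GolayPt) = {c, d}
      rw [Finset.smul_finset_insert, Finset.smul_finset_singleton, Equiv.Perm.smul_def,
        Equiv.Perm.smul_def, e0, e1]
  have hc : (Finset.powersetCard 2 Finset.univ : Finset (Finset GolayPt)).card = 276 := by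
    rw [Finset.card_powersetCard, card_golay_univ]
    decide
  rw [horb, Set.ncard_coe_finset, hc] at h1
  have h2 : M24 ⊓ MulAction.stabilizer (Equiv.Perm GolayPt) ({a, b} : Finset GolayPt) =
      stabIn ({a, b} : Finset GolayPt) := rfl
  rw [h2] at h1
  omega

/-- a transitive subgroup of order `887040` does not exist -/
theorem trans276_false {Hp : Subgroup (Equiv.Perm GolayPt)} (hH : Hp ≤ M24)
    (hcard : Nat.card ↥Hp = 887040) (htr : ∀ p, ∃ h ∈ Hp, h (pt 23) = p) : False := by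
  classical
  have : Fact (Nat.Prime 11) := ⟨by norm_num⟩
  have : Fact (Nat.Prime 7) := ⟨by norm_num⟩
  have hst : ∀ x : GolayPt,
      Nat.card ↥(Hp ⊓ MulAction.stabilizer (Equiv.Perm GolayPt) x) = 36960 := by
    intro x
    have := card_of_trans htr x
    omega
  have hmemx : ∀ {x : GolayPt} {k : Equiv.Perm GolayPt},
      k ∈ Hp ⊓ MulAction.stabilizer (Equiv.Perm GolayPt) x ↔ k ∈ Hp ∧ k x = x := by
    intro x k
    rw [Subgroup.mem_inf, MulAction.mem_stabilizer_iff]
    rfl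
  have hfin : ∀ x : GolayPt, Finite ↥(Hp ⊓ MulAction.stabilizer (Equiv.Perm GolayPt) x) :=
    fun x => Nat.finite_of_card_ne_zero (by rw [hst x]; norm_num)
  -- elements of order 11 in point stabilisers
  have h11x : ∀ x : GolayPt, ∃ σ ∈ Hp, σ x = x ∧ orderOf σ = 11 := by
    intro x
    have := hfin x
    obtain ⟨y, hy⟩ := exists_prime_orderOf_dvd_card'
      (G := ↥(Hp ⊓ MulAction.stabilizer (Equiv.Perm GolayPt) x)) 11 (by rw [hst x]; norm_num)
    exact ⟨y.1, (hmemx.1 y.2).1, (hmemx.1 y.2).2, by rw [Subgroup.orderOf_coe]; exact hy⟩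
  have h7x : ∀ x : GolayPt, ∃ σ ∈ Hp, σ x = x ∧ orderOf σ = 7 := by
    intro x
    have := hfin x
    obtain ⟨y, hy⟩ := exists_prime_orderOf_dvd_card'
      (G := ↥(Hp ⊓ MulAction.stabilizer (Equiv.Perm GolayPt) x)) 7 (by rw [hst x]; norm_num)
    exact ⟨y.1, (hmemx.1 y.2).1, (hmemx.1 y.2).2, by rw [Subgroup.orderOf_coe]; exact hy⟩
  -- every point stabiliser fixes a second point
  have hpartner : ∀ x : GolayPt, ∃ y, y ≠ x ∧ ∀ k ∈ Hp, k x = x → k y = y := by
    intro x
    obtain ⟨σ, hσ, hσx, hσ11⟩ := h11x x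
    obtain ⟨g7, hg, hgx, hg7⟩ := h7x x
    have hfix := fix_eleven (hH hσ) hσ11
    obtain ⟨u, v, huv, hF⟩ := Finset.card_eq_two.1 hfix
    have hxF : x ∈ ({u, v} : Finset GolayPt) := by
      rw [← hF, Finset.mem_filter]
      exact ⟨Finset.mem_univ _, hσx⟩
    -- the other fixed point
    obtain ⟨y, hyx, hyF, hFxy⟩ : ∃ y, y ≠ x ∧ σ y = y ∧ ∀ z, σ z = z → z = x ∨ z = y := by
      have hmemF : ∀ z, σ z = z ↔ z = u ∨ z = v := by
        intro z
        have h1 : z ∈ (Finset.univ.filter fun p => σ p = p) ↔ z ∈ ({u, v} : Finset GolayPt) := by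
          rw [hF]
        simpa using h1
      rw [Finset.mem_insert, Finset.mem_singleton] at hxF
      rcases hxF with rfl | rfl
      · exact ⟨v, Ne.symm huv, (hmemF v).2 (Or.inr rfl), fun z hz => (hmemF z).1 hz⟩
      · exact ⟨u, huv, (hmemF u).2 (Or.inl rfl), fun z hz => ((hmemF z).1 hz).symm⟩
    refine ⟨y, hyx, ?_⟩
    obtain ⟨R, hyR, hR, hinv, hdvd, hle, hf11le, h11dvd, f7, hf7, hf7le, h7dvd⟩ :=
      orbit_data (Hq := Hp ⊓ MulAction.stabilizer (Equiv.Perm GolayPt) x)
        (inf_le_left.trans hH) (hmemx.2 ⟨hσ, hσx⟩) hσ11 (hmemx.2 ⟨hg, hgx⟩) hg7 y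
    have hxR : x ∉ R := by
      intro hx
      obtain ⟨k, hk, hky⟩ := (hR x).1 hx
      have h1 : k y = k x := by rw [hky, (hmemx.1 hk).2]
      exact hyx (k.injective h1)
    have hfilt : (R.filter fun z => σ z = z) = {y} := by
      ext z
      rw [Finset.mem_filter, Finset.mem_singleton]
      constructor
      · rintro ⟨hz, hσz⟩
        rcases hFxy z hσz with rfl | rfl
        · exact absurd hz hxR
        · rfl
      · rintro rfl
        exact ⟨hyR, hyF⟩
    rw [hfilt, Finset.card_singleton] at hf11le h11dvd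
    rw [hst x] at hdvd
    have hR1 : R.card = 1 := arith276' hle hf11le hf7 hf7le h11dvd h7dvd hdvd
    obtain ⟨c, hc⟩ := Finset.card_eq_one.1 hR1
    intro k hk hkx
    have h1 : k y ∈ R := (hinv k (hmemx.2 ⟨hk, hkx⟩) y).2 hyR
    rw [hc, Finset.mem_singleton] at h1 hyR
    rw [h1, hyR]
  -- symmetry
  have hsymm : ∀ x y : GolayPt, (∀ k ∈ Hp, k x = x → k y = y) → ∀ k ∈ Hp, k y = y → k x = x := by
    intro x y hxy
    have hle : Hp ⊓ MulAction.stabilizer (Equiv.Perm GolayPt) x ≤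
        Hp ⊓ MulAction.stabilizer (Equiv.Perm GolayPt) y :=
      fun k hk => hmemx.2 ⟨(hmemx.1 hk).1, hxy k (hmemx.1 hk).1 (hmemx.1 hk).2⟩
    have := hfin y
    have heq := Subgroup.eq_of_le_of_card_ge hle (by rw [hst x, hst y])
    intro k hk hky
    have h1 : k ∈ Hp ⊓ MulAction.stabilizer (Equiv.Perm GolayPt) x := by
      rw [heq]
      exact hmemx.2 ⟨hk, hky⟩
    exact (hmemx.1 h1).2
  -- an element of order 7 and its three fixed points
  obtain ⟨g7, hg, -, hg7⟩ := h7x (pt 23)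
  have hfix7 := fix_seven (hH hg) hg7
  obtain ⟨u, v, w, huv, huw, hvw, hF⟩ := Finset.card_eq_three.1 hfix7
  have hmemF : ∀ z, g7 z = z ↔ z = u ∨ z = v ∨ z = w := by
    intro z
    have h1 : z ∈ (Finset.univ.filter fun p => g7 p = p) ↔ z ∈ ({u, v, w} : Finset GolayPt) := by
      rw [hF]
    simpa using h1
  have hthree : ∀ u v w : GolayPt, u ≠ v → u ≠ w → v ≠ w → (∀ z, g7 z = z ↔ z = u ∨ z = v ∨ z = w) →
      (∀ k ∈ Hp, k u = u → k v = v) → False := by
    intro u v w huv huw hvw hmemF huvfix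
    obtain ⟨y3, hy3, hy3fix⟩ := hpartner w
    have hg7y3 : g7 y3 = y3 := hy3fix g7 hg ((hmemF w).2 (Or.inr (Or.inr rfl)))
    have hwfix : ∀ k ∈ Hp, k w = w → k u = u ∧ k v = v := by
      intro k hk hkw
      rcases (hmemF y3).1 hg7y3 with rfl | rfl | rfl
      · have h1 := hy3fix k hk hkw
        exact ⟨h1, huvfix k hk h1⟩
      · have h1 := hy3fix k hk hkw
        exact ⟨hsymm _ _ huvfix k hk h1, h1⟩
      · exact absurd rfl hy3
    obtain ⟨σ, hσ, hσw, hσ11⟩ := h11x w
    have hfix := fix_eleven (hH hσ) hσ11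
    have hsub : ({u, v, w} : Finset GolayPt) ⊆ (Finset.univ.filter fun p => σ p = p) := by
      intro z hz
      rw [Finset.mem_filter]
      refine ⟨Finset.mem_univ _, ?_⟩
      rw [Finset.mem_insert, Finset.mem_insert, Finset.mem_singleton] at hz
      rcases hz with rfl | rfl | rfl
      · exact (hwfix σ hσ hσw).1
      · exact (hwfix σ hσ hσw).2
      · exact hσw
    have hc := Finset.card_le_card hsub
    rw [hfix, Finset.card_insert_of_notMem (by simp [huv, huw]),
      Finset.card_pair hvw] at hc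
    omega
  obtain ⟨y1, hy1, hy1fix⟩ := hpartner u
  have hg7y1 : g7 y1 = y1 := hy1fix g7 hg ((hmemF u).2 (Or.inl rfl))
  rcases (hmemF y1).1 hg7y1 with rfl | rfl | rfl
  · exact hy1 rfl
  · exact hthree u y1 w huv huw hvw hmemF hy1fix
  · refine hthree u y1 v huw huv (Ne.symm hvw) (fun z => ?_) hy1fix
    rw [hmemF z]
    tauto

/-- a subgroup of index 276 of `↥M24` is the stabiliser of a duad -/
theorem idx276 (H : Subgroup ↥M24) (hH : H.index = 276) :
    ∃ s : Finset GolayPt, s.card = 2 ∧ ∀ x : ↥M24, x ∈ H ↔ x.1 • s = s := by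
  classical
  have hc := card_of_index H
  rw [hH] at hc
  have hcard : Nat.card ↥(H.map M24.subtype) = 887040 := by omega
  have hHM := map_subtype_le_M24 H
  have : Fact (Nat.Prime 11) := ⟨by norm_num⟩
  have : Fact (Nat.Prime 7) := ⟨by norm_num⟩
  have : Finite ↥(H.map M24.subtype) := Nat.finite_of_card_ne_zero (by rw [hcard]; norm_num)
  obtain ⟨y11, hy11⟩ := exists_prime_orderOf_dvd_card' (G := ↥(H.map M24.subtype)) 11
    (by rw [hcard]; norm_num)
  obtain ⟨y7, hy7⟩ := exists_prime_orderOf_dvd_card' (G := ↥(H.map M24.subtype)) 7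
    (by rw [hcard]; norm_num)
  have hσ11 : orderOf (y11 : Equiv.Perm GolayPt) = 11 := by
    rw [Subgroup.orderOf_coe]; exact hy11
  have hg7 : orderOf (y7 : Equiv.Perm GolayPt) = 7 := by rw [Subgroup.orderOf_coe]; exact hy7
  have hfix := fix_eleven (hHM y11.2) hσ11
  obtain ⟨a, b, hab, hF⟩ := Finset.card_eq_two.1 hfix
  have hmemF : ∀ z, (y11 : Equiv.Perm GolayPt) z = z ↔ z = a ∨ z = b := by
    intro z
    have h1 : z ∈ (Finset.univ.filter fun p => (y11 : Equiv.Perm GolayPt) p = p) ↔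
        z ∈ ({a, b} : Finset GolayPt) := by rw [hF]
    simpa using h1
  obtain ⟨R, haR, hR, hinv, hdvd, hle, hf11le, h11dvd, f7, hf7, hf7le, h7dvd⟩ :=
    orbit_data hHM y11.2 hσ11 y7.2 hg7 a
  rw [hcard] at hdvd
  have hf1 : 1 ≤ (R.filter fun z => (y11 : Equiv.Perm GolayPt) z = z).card :=
    Finset.card_pos.2 ⟨a, Finset.mem_filter.2 ⟨haR, (hmemF a).2 (Or.inl rfl)⟩⟩
  have hsubF : (R.filter fun z => (y11 : Equiv.Perm GolayPt) z = z) ⊆
      ({a, b} : Finset GolayPt) := by
    intro z hz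
    rw [Finset.mem_filter] at hz
    rw [Finset.mem_insert, Finset.mem_singleton]
    exact (hmemF z).1 hz.2
  have hf2 : (R.filter fun z => (y11 : Equiv.Perm GolayPt) z = z).card ≤ 2 := by
    have h1 := Finset.card_le_card hsubF
    rwa [Finset.card_pair hab] at h1
  rcases arith276 hle hf1 hf2 hf11le hf7 hf7le h11dvd h7dvd hdvd with
    ⟨hn, hf⟩ | ⟨hn, hf⟩ | ⟨hn, hf⟩
  · -- the subgroup fixes `a`, then also `b`
    exfalso
    obtain ⟨c, hc'⟩ := Finset.card_eq_one.1 hn
    have hfixa : ∀ k ∈ H.map M24.subtype, k a = a := by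
      intro k hk
      have h1 : k a ∈ R := (hinv k hk a).2 haR
      rw [hc', Finset.mem_singleton] at h1 haR
      rw [h1, haR]
    obtain ⟨R', hbR', hR', hinv', hdvd', hle', hf11le', h11dvd', f7', hf7', hf7le', h7dvd'⟩ :=
      orbit_data hHM y11.2 hσ11 y7.2 hg7 b
    rw [hcard] at hdvd'
    have haR' : a ∉ R' := by
      intro ha
      obtain ⟨k, hk, hkb⟩ := (hR' a).1 ha
      have h1 : k b = k a := by rw [hkb, hfixa k hk]
      exact hab (k.injective h1).symm
    have hfilt : (R'.filter fun z => (y11 : Equiv.Perm GolayPt) z = z) = {b} := by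
      ext z
      rw [Finset.mem_filter, Finset.mem_singleton]
      constructor
      · rintro ⟨hz, hσz⟩
        rcases (hmemF z).1 hσz with rfl | rfl
        · exact absurd hz haR'
        · rfl
      · rintro rfl
        exact ⟨hbR', (hmemF _).2 (Or.inr rfl)⟩
    rw [hfilt, Finset.card_singleton] at hf11le' h11dvd'
    have hn' : R'.card = 1 := by
      rcases arith276 hle' (le_refl 1) (by norm_num) hf11le' hf7' hf7le' h11dvd' h7dvd' hdvd'
        with ⟨h, -⟩ | ⟨-, h⟩ | ⟨-, h⟩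
      · exact h
      · norm_num at h
      · norm_num at h
    obtain ⟨c', hc''⟩ := Finset.card_eq_one.1 hn'
    have hfixb : ∀ k ∈ H.map M24.subtype, k b = b := by
      intro k hk
      have h1 : k b ∈ R' := (hinv' k hk b).2 hbR'
      rw [hc'', Finset.mem_singleton] at h1 hbR'
      rw [h1, hbR']
    have hle2 : H ≤ MulAction.stabilizer ↥M24 a ⊓ MulAction.stabilizer ↥M24 b := by
      intro x hx
      have hx' := (mem_map_subtype H x).2 hx
      exact ⟨MulAction.mem_stabilizer_iff.2 (hfixa _ hx'),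
        MulAction.mem_stabilizer_iff.2 (hfixb _ hx')⟩
    have h1 := Subgroup.card_le_of_le hle2
    rw [card_stabilizer_two_M24 hab, ← card_map_subtype_M24, hcard] at h1
    omega
  · -- the duad `{a, b}`
    have hfeq : (R.filter fun z => (y11 : Equiv.Perm GolayPt) z = z) = {a, b} :=
      Finset.eq_of_subset_of_card_le hsubF (by rw [Finset.card_pair hab, hf])
    have hbR : b ∈ R := by
      have h1 : b ∈ (R.filter fun z => (y11 : Equiv.Perm GolayPt) z = z) := by
        rw [hfeq]; simp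
      exact (Finset.mem_filter.1 h1).1
    have hReq : ({a, b} : Finset GolayPt) = R := by
      apply Finset.eq_of_subset_of_card_le
      · intro z hz
        rw [Finset.mem_insert, Finset.mem_singleton] at hz
        rcases hz with rfl | rfl
        · exact haR
        · exact hbR
      · rw [hn, Finset.card_pair hab]
    have hpres : ∀ k ∈ H.map M24.subtype, k • ({a, b} : Finset GolayPt) = {a, b} := by
      intro k hk
      rw [hReq]
      exact smul_eq_of_mem_iff (hinv k hk)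
    have hle2 : H.map M24.subtype ≤ stabIn ({a, b} : Finset GolayPt) :=
      fun k hk => mem_stabIn.2 ⟨hHM hk, hpres k hk⟩
    have : Finite ↥(stabIn ({a, b} : Finset GolayPt)) :=
      Nat.finite_of_card_ne_zero (by rw [card_stab_duad hab]; norm_num)
    have heq := Subgroup.eq_of_le_of_card_ge hle2 (by rw [card_stab_duad hab, hcard])
    refine ⟨{a, b}, Finset.card_pair hab, fun x => ?_⟩
    rw [← mem_map_subtype, heq, mem_stabIn]
    exact ⟨fun h => h.2, fun h => ⟨x.2, h⟩⟩
  · -- transitive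
    exfalso
    have hRu : R = Finset.univ :=
      Finset.eq_univ_of_card R (by rw [hn, Fintype.card_option, ZMod.card])
    have htr : ∀ p, ∃ h ∈ H.map M24.subtype, h (pt 23) = p := by
      intro p
      obtain ⟨k1, hk1, hk1a⟩ := (hR (pt 23)).1 (by rw [hRu]; exact Finset.mem_univ _)
      obtain ⟨k2, hk2, hk2a⟩ := (hR p).1 (by rw [hRu]; exact Finset.mem_univ _)
      exact ⟨k2 * k1⁻¹, Subgroup.mul_mem _ hk2 (Subgroup.inv_mem _ hk1), by
        rw [Equiv.Perm.mul_apply, ← hk1a, inv_app', hk2a]⟩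
    exact trans276_false hHM hcard htr

end Cfsg.Agent.Lib.Helper94
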