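import Mathlib
import Cfsg.Agent.Lib.Helper45.NRankDefs
import Cfsg.Agent.Lib.Helper63.NRankNEA1
import Cfsg.Agent.Lib.Helper81.SpSyl
import Cfsg.Agent.Lib.Helper81.Sl2Base

/-!
# S2250 piece SPMOD : a model of the Sylow `2`-subgroup of `Sp_2n(q)`, `q` odd, with a normal
elementary abelian subgroup of order `2 ^ n` (adapted from helper81's `SpSyl.lean`)
-/

set_option autoImplicit false

namespace Cfsg.Agent.Lib.Helper94.NRank

open Cfsg.Agent.Lib.Helper45.NRank
open Cfsg.Agent.Lib.Helper74.Wreath Cfsg.Agent.Lib.Helper74.Symp Cfsg.Agent.Lib.Helper81.SpSyl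

universe u

section HasSylESec

open RegularWreathProduct

/-- Some finite `2`-group with a normal elementary abelian subgroup of order `2 ^ m` and order divisible by
`2 ^ (m * c + v₂(m!))` acts faithfully on `l ⊕ l → F`, `l` of cardinality `m`, preserving the
standard symplectic form. -/
def HasSylE (F : Type u) [Field F] (c m : ℕ) : Prop :=
  ∃ (l : Type) (_ : Fintype l) (_ : Nonempty l) (T : Type u) (_ : Group T) (_ : Finite T)
    (ρ : Representation F T (l ⊕ l → F)),
    Fintype.card l = m ∧ IsPGroup 2 T ∧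
      2 ^ (m * c + padicValNat 2 m.factorial) ∣ Nat.card T ∧ NEA T m ∧
      Function.Injective ρ ∧ ∀ g u v, om l (ρ g u) (ρ g v) = om l u v

theorem HasSylE.step {F : Type u} [Field F] {c m : ℕ} (h : HasSylE F c m)
    (hν : padicValNat 2 (2 * m).factorial ≤ 2 * padicValNat 2 m.factorial + 1) :
    HasSylE F c (2 * m) := by
  have hfact : Fact (Nat.Prime 2) := ⟨Nat.prime_two⟩
  obtain ⟨l, _, _, T, _, _, ρ, hcard, hT, hdvd, hsq, hinj, hpres⟩ := h
  have hntQ : Nontrivial (Multiplicative (ZMod 2)) := by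
    have : Fact (1 < 2) := ⟨by norm_num⟩
    infer_instance
  have hσinj := wrRep_injective (Q := Multiplicative (ZMod 2)) ρ hinj
  have hσpres : ∀ (a : T ≀ᵣ Multiplicative (ZMod 2))
      (x y : Multiplicative (ZMod 2) → (l ⊕ l → F)),
      (∑ q, om l (wrRep ρ a x q) (wrRep ρ a y q)) = ∑ q, om l (x q) (y q) := by
    intro a x y
    simp only [wrRep_apply, hpres]
    exact Equiv.sum_comp (Equiv.mulLeft a.right⁻¹) (fun q => om l (x q) (y q))
  obtain ⟨ρ', hinj', hpres'⟩ := transport (l := Multiplicative (ZMod 2) × l)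
    (fun x y : Multiplicative (ZMod 2) → (l ⊕ l → F) => ∑ q, om l (x q) (y q))
    ((LinearEquiv.funCongrLeft F F (Equiv.prodSumDistrib (Multiplicative (ZMod 2)) l l)).trans
      (LinearEquiv.curry F F (Multiplicative (ZMod 2)) (l ⊕ l)))
    (by
      intro u v
      simp only [om, Fintype.sum_prod_type]
      rfl)
    (wrRep ρ) hσpres hσinj
  have hcQ : Nat.card (Multiplicative (ZMod 2)) = 2 := by
    rw [Nat.card_eq_fintype_card, Fintype.card_multiplicative, ZMod.card]
  have hc : Nat.card (T ≀ᵣ Multiplicative (ZMod 2)) = Nat.card T ^ 2 * 2 := by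
    rw [RegularWreathProduct.card, hcQ]
  refine ⟨Multiplicative (ZMod 2) × l, inferInstance, inferInstance,
    T ≀ᵣ Multiplicative (ZMod 2), inferInstance, inferInstance, ρ', ?_, ?_, ?_, ?_,
    hinj', hpres'⟩
  · rw [Fintype.card_prod, Fintype.card_multiplicative, ZMod.card, hcard]
  · obtain ⟨a, ha⟩ := IsPGroup.iff_card.1 hT
    have hc' : Nat.card (T ≀ᵣ Multiplicative (ZMod 2)) = 2 ^ (a * 2 + 1) := by
      rw [hc, ha, ← pow_mul, pow_succ]
    exact IsPGroup.of_card hc'
  · rw [hc]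
    have h1 : (2 ^ (m * c + padicValNat 2 m.factorial)) ^ 2 * 2 ∣ Nat.card T ^ 2 * 2 :=
      mul_dvd_mul (pow_dvd_pow_of_dvd hdvd 2) (dvd_refl 2)
    refine dvd_trans ?_ h1
    rw [← pow_mul, ← pow_succ]
    apply pow_dvd_pow
    have h2 : 2 * m * c = m * c * 2 := by ring
    rw [h2]
    omega
  · exact Cfsg.Agent.Lib.Helper63.NRank.NEA.wreath hsq

theorem HasSylE.prod {F : Type u} [Field F] {c a b : ℕ} (h₁ : HasSylE F c a) (h₂ : HasSylE F c b)
    (hν : padicValNat 2 (a + b).factorial ≤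
      padicValNat 2 a.factorial + padicValNat 2 b.factorial) :
    HasSylE F c (a + b) := by
  have hfact : Fact (Nat.Prime 2) := ⟨Nat.prime_two⟩
  obtain ⟨l₁, _, _, T₁, _, _, ρ₁, hcard₁, hT₁, hdvd₁, hsq₁, hinj₁, hpres₁⟩ := h₁
  obtain ⟨l₂, _, _, T₂, _, _, ρ₂, hcard₂, hT₂, hdvd₂, hsq₂, hinj₂, hpres₂⟩ := h₂
  let σ : Representation F (T₁ × T₂) ((l₁ ⊕ l₁ → F) × (l₂ ⊕ l₂ → F)) :=
    { toFun := fun g => LinearMap.prodMap (ρ₁ g.1) (ρ₂ g.2)
      map_one' := by
        show LinearMap.prodMap (ρ₁ 1) (ρ₂ 1) = 1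
        rw [map_one, map_one]
        exact LinearMap.prodMap_one
      map_mul' := by
        intro x y
        show LinearMap.prodMap (ρ₁ (x.1 * y.1)) (ρ₂ (x.2 * y.2)) = _
        rw [map_mul, map_mul]
        refine LinearMap.ext fun v => ?_
        simp [Module.End.mul_apply] }
  have hσinj : Function.Injective σ := by
    intro x y hxy
    refine Prod.ext (hinj₁ ?_) (hinj₂ ?_)
    · refine LinearMap.ext fun w => ?_
      exact congrArg (fun f : Module.End F ((l₁ ⊕ l₁ → F) × (l₂ ⊕ l₂ → F)) => (f (w, 0)).1) hxy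
    · refine LinearMap.ext fun w => ?_
      exact congrArg (fun f : Module.End F ((l₁ ⊕ l₁ → F) × (l₂ ⊕ l₂ → F)) => (f (0, w)).2) hxy
  obtain ⟨ρ', hinj', hpres'⟩ := transport (l := l₁ ⊕ l₂)
    (fun x y : (l₁ ⊕ l₁ → F) × (l₂ ⊕ l₂ → F) => om l₁ x.1 y.1 + om l₂ x.2 y.2)
    ((LinearEquiv.funCongrLeft F F (Equiv.sumSumSumComm l₁ l₁ l₂ l₂)).trans
      (LinearEquiv.sumArrowLequivProdArrow (l₁ ⊕ l₁) (l₂ ⊕ l₂) F F))
    (by
      intro u v
      simp only [om]
      rw [Fintype.sum_sum_type]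
      rfl)
    σ
    (by
      intro g x y
      show om l₁ (ρ₁ g.1 x.1) (ρ₁ g.1 y.1) + om l₂ (ρ₂ g.2 x.2) (ρ₂ g.2 y.2) = _
      rw [hpres₁, hpres₂])
    hσinj
  obtain ⟨j₁, hj₁⟩ := IsPGroup.iff_card.1 hT₁
  obtain ⟨j₂, hj₂⟩ := IsPGroup.iff_card.1 hT₂
  refine ⟨l₁ ⊕ l₂, inferInstance, inferInstance, T₁ × T₂, inferInstance, inferInstance, ρ',
    ?_, ?_, ?_, Cfsg.Agent.Lib.Helper63.NRank.NEA.prod hsq₁ hsq₂, hinj', hpres'⟩
  · rw [Fintype.card_sum, hcard₁, hcard₂]
  · have hc : Nat.card (T₁ × T₂) = 2 ^ (j₁ + j₂) := by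
      rw [Nat.card_prod, hj₁, hj₂, pow_add]
    exact IsPGroup.of_card hc
  · rw [Nat.card_prod]
    refine dvd_trans ?_ (mul_dvd_mul hdvd₁ hdvd₂)
    rw [← pow_add]
    apply pow_dvd_pow
    have h2 : (a + b) * c = a * c + b * c := by ring
    rw [h2]
    omega

/-- The base case gives every degree. -/
theorem hasSylE_all {F : Type u} [Field F] {c : ℕ} (h1 : HasSylE F c 1) :
    ∀ n, 1 ≤ n → HasSylE F c n := by
  intro n
  induction n using Nat.strong_induction_on with
  | _ n ih =>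
    intro hn
    rcases Nat.lt_or_ge n 2 with h2 | h2
    · have h3 : n = 1 := by omega
      rw [h3]
      exact h1
    · obtain ⟨k, hk⟩ : ∃ k, k = Nat.log 2 n := ⟨_, rfl⟩
      have hlo : 2 ^ k ≤ n := by
        rw [hk]
        exact Nat.pow_log_le_self 2 (by omega)
      have hhi : n < 2 ^ (k + 1) := by
        rw [hk]
        exact Nat.lt_pow_succ_log_self (by norm_num) n
      have hk1 : 1 ≤ k := by
        by_contra hcon
        have h3 : k = 0 := by omega
        rw [h3] at hhi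
        norm_num at hhi
        omega
      rcases Nat.eq_or_lt_of_le hlo with heq | hlt
      · obtain ⟨j, rfl⟩ : ∃ j, k = j + 1 := ⟨k - 1, by omega⟩
        have hm : 2 * 2 ^ j = n := by
          rw [← heq, pow_succ]
          ring
        have hj1 : 1 ≤ 2 ^ j := Nat.one_le_two_pow
        rw [← hm]
        apply (ih (2 ^ j) (by omega) hj1).step
        rw [mul_comm 2, ← pow_succ, val_two_pow_factorial, val_two_pow_factorial, pow_succ]
        omega
      · obtain ⟨r, hr⟩ : ∃ r, n = 2 ^ k + r := ⟨n - 2 ^ k, by omega⟩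
        have hr0 : 0 < r := by omega
        have hrk : r < 2 ^ k := by
          rw [pow_succ] at hhi
          omega
        have hk0 : 1 ≤ 2 ^ k := Nat.one_le_two_pow
        rw [hr]
        apply (ih (2 ^ k) (by omega) hk0).prod (ih r (by omega) (by omega))
        rw [val_factorial_add_two_pow k r hrk]

/-- Conversion to an embedding into the symplectic group. -/
theorem HasSylE.exists_hom {F : Type u} [Field F] {c n : ℕ} (h : HasSylE F c n) :
    ∃ (T : Type u) (_ : Group T) (_ : Finite T)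
      (φ : T →* Matrix.symplecticGroup (Fin n) F),
      IsPGroup 2 T ∧ 2 ^ (n * c + padicValNat 2 n.factorial) ∣ Nat.card T ∧ NEA T n ∧
        Function.Injective φ := by
  classical
  obtain ⟨l, _, _, T, _, _, ρ, hcard, hT, hdvd, hsq, hinj, hpres⟩ := h
  have hc : Fintype.card l = Fintype.card (Fin n) := by
    rw [hcard, Fintype.card_fin]
  let e : l ≃ Fin n := Fintype.equivOfCardEq hc
  obtain ⟨ρ', hinj', hpres'⟩ := transport (l := Fin n)
    (fun x y : (l ⊕ l → F) => om l x y)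
    (LinearEquiv.funCongrLeft F F (Equiv.sumCongr e e))
    (by
      intro u v
      simp only [om]
      rw [← Equiv.sum_comp e]
      rfl)
    ρ hpres hinj
  have hmem : ∀ g, (MonoidHomClass.toMonoidHom (LinearMap.toMatrixAlgEquiv' (R := F)
      (n := Fin n ⊕ Fin n))).comp ρ' g ∈ Matrix.symplecticGroup (Fin n) F := by
    intro g
    refine mem_symp_of_pres (Fin n) _ fun u v => ?_
    have h1 : ∀ w, (LinearMap.toMatrix' (ρ' g)).mulVec w = ρ' g w := by
      intro w
      rw [← Matrix.toLin'_apply, Matrix.toLin'_toMatrix']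
    show om (Fin n) ((LinearMap.toMatrix' (ρ' g)).mulVec u)
      ((LinearMap.toMatrix' (ρ' g)).mulVec v) = _
    rw [h1, h1, hpres']
  refine ⟨T, inferInstance, inferInstance,
    ((MonoidHomClass.toMonoidHom (LinearMap.toMatrixAlgEquiv' (R := F)
      (n := Fin n ⊕ Fin n))).comp ρ').codRestrict _ hmem, hT, hdvd, hsq, ?_⟩
  intro a b hab
  apply hinj'
  have h1 := congrArg Subtype.val hab
  exact (LinearMap.toMatrixAlgEquiv' (R := F) (n := Fin n ⊕ Fin n)).injective h1

end HasSylESec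

theorem hasSylE_base {F : Type u} [Field F] [Fintype F] (hodd : Odd (Fintype.card F)) :
    HasSylE F (padicValNat 2 (Fintype.card F ^ 2 - 1)) 1 := by
  have hfact : Fact (Nat.Prime 2) := ⟨Nat.prime_two⟩
  obtain ⟨l, i1, i2, T, i3, i4, ρ, hcard, hT, hdvd, hsq, hinj, hpres⟩ :=
    Cfsg.Agent.Lib.Helper81.Sl2Base.hasSyl_base hodd
  have hq : 1 < Fintype.card F := Fintype.one_lt_card
  have hq3 : 3 ≤ Fintype.card F := by
    rcases hodd with ⟨k, hk⟩
    omega
  have hq9 : 9 ≤ Fintype.card F ^ 2 := by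
    calc 9 = 3 ^ 2 := by norm_num
      _ ≤ Fintype.card F ^ 2 := Nat.pow_le_pow_left hq3 2
  have hev : 2 ∣ Fintype.card F ^ 2 - 1 := by
    have ho : Odd (Fintype.card F ^ 2) := hodd.pow
    rcases ho with ⟨k, hk⟩
    rw [hk]
    exact ⟨k, by omega⟩
  have hc1 : 1 ≤ padicValNat 2 (Fintype.card F ^ 2 - 1) :=
    one_le_padicValNat_of_dvd (by omega) hev
  have h2T : 2 ∣ Nat.card T := by
    refine dvd_trans ?_ hdvd
    exact dvd_pow_self 2 (by omega)
  have hnt : Nontrivial T := by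
    rw [← Finite.one_lt_card_iff_nontrivial]
    have := Nat.le_of_dvd Nat.card_pos h2T
    omega
  exact ⟨l, i1, i2, T, i3, i4, ρ, hcard, hT, hdvd,
    Cfsg.Agent.Lib.Helper63.NRank.NEA.base hT hnt, hinj, hpres⟩

/-! ### SPMOD -/
theorem exists_sylow_model {F : Type u} [Field F] [Fintype F] (hodd : Odd (Fintype.card F))
    (n : ℕ) (hn : 1 ≤ n) :
    ∃ (T : Type u) (_ : Group T) (_ : Finite T) (φ : T →* Matrix.symplecticGroup (Fin n) F),
      IsPGroup 2 T ∧
      2 ^ (n * padicValNat 2 (Fintype.card F ^ 2 - 1) + padicValNat 2 n.factorial) ∣ Nat.card T ∧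
      NEA T n ∧ Function.Injective φ :=
  (hasSylE_all (hasSylE_base hodd) n hn).exists_hom

end Cfsg.Agent.Lib.Helper94.NRank
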