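import Mathlib
import Cfsg.Agent.Lib.Helper4.Burnside

/-! Project OTIF (S5673, helper86), piece OT5b. -/

set_option autoImplicit false

namespace Cfsg.Agent.Lib.Helper94.OT5b

open Matrix

variable {F : Type*} [Field F] [Fintype F]

theorem OT5b_card_GL (hq3 : Fintype.card F = 3) : Nat.card (GL (Fin 3) F) = 2 ^ 5 * 3 ^ 3 * 13 := by
  rw [Matrix.card_GL_field, hq3]
  simp [Fin.prod_univ_three]

theorem OT5b (hq3 : Fintype.card F = 3) {k : ℕ} (M : Subgroup (Fin k → GL (Fin 3) F))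
    (h13 : ∀ x ∈ M, x ^ 13 = 1 → x = 1) : Group.IsSolvable ↥M := by
  classical
  have hcard : Nat.card (Fin k → GL (Fin 3) F) = (2 ^ 5 * 3 ^ 3 * 13) ^ k := by
    rw [Nat.card_fun, OT5b_card_GL hq3, Nat.card_fin]
  have hdvd : Nat.card ↥M ∣ (2 ^ 5 * 3 ^ 3 * 13) ^ k := by
    rw [← hcard]
    exact Subgroup.card_subgroup_dvd_card M
  have h13n : ¬ 13 ∣ Nat.card ↥M := by
    intro hd
    haveI : Fact (Nat.Prime 13) := ⟨by norm_num⟩
    obtain ⟨x, hx⟩ := exists_prime_orderOf_dvd_card' 13 hd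
    have hx13 : x ^ 13 = 1 := by
      rw [← hx]
      exact pow_orderOf_eq_one x
    have hx1 : (x : Fin k → GL (Fin 3) F) = 1 := by
      apply h13 _ x.2
      have h1 := congrArg (fun y : ↥M => (y : Fin k → GL (Fin 3) F)) hx13
      simpa using h1
    have hx1' : x = 1 := Subtype.ext hx1
    rw [hx1', orderOf_one] at hx
    norm_num at hx
  have hcop : Nat.Coprime (Nat.card ↥M) (13 ^ k) := by
    apply Nat.Coprime.pow_right
    rw [Nat.coprime_comm]
    exact (Nat.Prime.coprime_iff_not_dvd (by norm_num)).mpr h13n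
  have hdvd2 : Nat.card ↥M ∣ 2 ^ (5 * k) * 3 ^ (3 * k) := by
    have h1 : (2 ^ 5 * 3 ^ 3 * 13) ^ k = 2 ^ (5 * k) * 3 ^ (3 * k) * 13 ^ k := by
      rw [mul_pow, mul_pow, ← pow_mul, ← pow_mul]
    rw [h1] at hdvd
    exact hcop.dvd_of_dvd_mul_right hdvd
  obtain ⟨a, b, hab⟩ := Cfsg.Agent.Lib.Helper4.dvd_prime_pow_mul_form 2 3 Nat.prime_two
    Nat.prime_three (5 * k) (3 * k) (Nat.card ↥M) hdvd2
  exact Cfsg.Agent.Lib.Helper4.burnside 2 3 a b Nat.prime_two Nat.prime_three hab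

end Cfsg.Agent.Lib.Helper94.OT5b
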