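import Mathlib
import Cfsg.Agent.Lib.Helper44.PU3Defs
import Cfsg.Agent.Lib.Helper7.GUOrder

/-!
# PU3 (S2784 + S2786), piece G0 (helper94): an element of order `r` of `SU_3(q)` as a matrix
-/

set_option autoImplicit false

namespace Cfsg.Agent.Lib.Helper44.PU3

open Matrix

/-- the `q`-th power map as a ring homomorphism -/
private noncomputable def pu3g0_frob {F : Type*} [Field F] [Fintype F] {q : ℕ}
    (hF : Fintype.card F = q ^ 2) : F →+* F where
  toFun x := x ^ q
  map_one' := one_pow q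
  map_mul' x y := mul_pow x y q
  map_zero' := zero_pow (Cfsg.Agent.Lib.Helper7.herm_q_ne_zero hF)
  map_add' := Cfsg.Agent.Lib.Helper7.herm_add_pow hF

private theorem pu3g0_det {F : Type*} [Field F] [Fintype F] {q : ℕ}
    (hF : Fintype.card F = q ^ 2) (M : Matrix (Fin 3) (Fin 3) F)
    (hM : ∀ u v : Fin 3 → F,
      Cfsg.hermForm 3 F q (M *ᵥ u) (M *ᵥ v) = Cfsg.hermForm 3 F q u v) :
    M.det ^ (q + 1) = 1 := by
  have hq0 : q ≠ 0 := Cfsg.Agent.Lib.Helper7.herm_q_ne_zero hF
  have h1 : Mᵀ * (pu3g0_frob hF).mapMatrix M = 1 := by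
    ext i j
    have h := hM (Pi.single i 1) (Pi.single j 1)
    rw [Matrix.mul_apply]
    have e1 : ∑ k, Mᵀ i k * ((pu3g0_frob hF).mapMatrix M) k j =
        Cfsg.hermForm 3 F q (M *ᵥ Pi.single i 1) (M *ᵥ Pi.single j 1) := by
      unfold Cfsg.hermForm
      apply Finset.sum_congr rfl
      intro k _
      rw [Matrix.mulVec_single_one, Matrix.mulVec_single_one]
      rfl
    rw [e1, h]
    unfold Cfsg.hermForm
    by_cases hij : i = j
    · subst hij
      rw [Matrix.one_apply_eq, Finset.sum_eq_single i]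
      · simp
      · intro k _ hk
        simp [Pi.single_apply, hk]
      · intro h; exact absurd (Finset.mem_univ i) h
    · rw [Matrix.one_apply_ne hij]
      apply Finset.sum_eq_zero
      intro k _
      by_cases hk : k = i
      · subst hk
        simp [Pi.single_apply, hij, hq0]
      · simp [Pi.single_apply, hk]
  have h2 := congrArg Matrix.det h1
  rw [Matrix.det_mul, Matrix.det_transpose, ← RingHom.map_det, Matrix.det_one] at h2
  rw [pow_succ']
  exact h2

theorem pu3_g0 {F : Type*} [Field F] [Fintype F] (q : ℕ) : G0Stmt F q := by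
  intro hF r hr hr3 hr1
  have : Fact r.Prime := ⟨hr⟩
  have hcard := Cfsg.Agent.Lib.Helper7.card_GU hF 3
  have hdvd : r ∣ Nat.card (Cfsg.GU 3 F q) := by
    rw [hcard, Finset.prod_range_succ, Finset.prod_range_succ, Finset.prod_range_succ,
      Finset.prod_range_zero]
    have e2 : Even 2 := by decide
    rw [if_pos e2]
    exact Dvd.dvd.mul_left (Dvd.dvd.mul_left hr3 _) _
  obtain ⟨g, hg⟩ := exists_prime_orderOf_dvd_card' r hdvd
  have hgr : g ^ r = 1 := by rw [← hg]; exact pow_orderOf_eq_one g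
  have hg1 : g ≠ 1 := by
    intro h
    rw [h, orderOf_one] at hg
    exact hr.one_lt.ne hg
  refine ⟨((g : Matrix.GeneralLinearGroup (Fin 3) F) : Matrix (Fin 3) (Fin 3) F), ⟨?_, ?_⟩, ?_, ?_⟩
  · -- det = 1
    have hpres : ∀ u v : Fin 3 → F,
        Cfsg.hermForm 3 F q
          (((g : Matrix.GeneralLinearGroup (Fin 3) F) : Matrix (Fin 3) (Fin 3) F) *ᵥ u)
          (((g : Matrix.GeneralLinearGroup (Fin 3) F) : Matrix (Fin 3) (Fin 3) F) *ᵥ v) =
        Cfsg.hermForm 3 F q u v := g.2
    have hd1 := pu3g0_det hF _ hpres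
    have hd2 : (((g : Matrix.GeneralLinearGroup (Fin 3) F) : Matrix (Fin 3) (Fin 3) F)).det ^ r
        = 1 := by
      rw [← Matrix.det_pow]
      have h := congrArg (fun x : Cfsg.GU 3 F q =>
        ((x : Matrix.GeneralLinearGroup (Fin 3) F) : Matrix (Fin 3) (Fin 3) F)) hgr
      simp only [Subgroup.coe_pow, Units.val_pow_eq_pow_val, Subgroup.coe_one, Units.val_one] at h
      rw [h, Matrix.det_one]
    have hcop : Nat.Coprime r (q + 1) := (Nat.Prime.coprime_iff_not_dvd hr).mpr hr1
    have h3 := pow_gcd_eq_one.mpr ⟨hd2, hd1⟩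
    rw [Nat.Coprime.gcd_eq_one hcop, pow_one] at h3
    exact h3
  · exact g.2
  · have h := congrArg (fun x : Cfsg.GU 3 F q =>
      ((x : Matrix.GeneralLinearGroup (Fin 3) F) : Matrix (Fin 3) (Fin 3) F)) hgr
    simp only [Subgroup.coe_pow, Units.val_pow_eq_pow_val, Subgroup.coe_one, Units.val_one] at h
    exact h
  · intro h
    apply hg1
    apply Subtype.ext
    apply Units.ext
    exact h

end Cfsg.Agent.Lib.Helper44.PU3
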