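import Mathlib

/-!
# Project QB (helper48, S2359): piece INVCONJ (`inv_conj`), backup copy of helper94

If every Sylow `2`-subgroup `S` is elementary abelian of order `8`, self-centralizing, with
normalizer of order `168`, then all involutions are conjugate: an element of order `7` of the
normalizer permutes the seven involutions of `S` transitively.
-/

set_option autoImplicit false

namespace Cfsg.Agent.Lib.Helper48.QB

open scoped Pointwise

/-- Two non-identity elements of one Sylow `2`-subgroup are conjugate. -/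
theorem INVCONJb_syl {G : Type*} [Group G] [Finite G]
    (hS : ∀ S : Sylow 2 G, Nat.card S = 8 ∧ (∀ x ∈ S, x * x = 1) ∧
      Subgroup.centralizer ((S : Subgroup G) : Set G) = S ∧
      Nat.card (Subgroup.normalizer ((S : Subgroup G) : Set G)) = 168)
    (S : Sylow 2 G) (u v : G) (hu : u ∈ (S : Subgroup G)) (hu1 : u ≠ 1)
    (hv : v ∈ (S : Subgroup G)) (hv1 : v ≠ 1) :
    ∃ g : G, g * u * g⁻¹ = v := by
  obtain ⟨h8, hexp, hcent, hN⟩ := hS S
  have : Fact (Nat.Prime 7) := ⟨by norm_num⟩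
  obtain ⟨x, hx⟩ := exists_prime_orderOf_dvd_card'
    (G := Subgroup.normalizer ((S : Subgroup G) : Set G)) 7 (by rw [hN]; norm_num)
  have hx7 : orderOf (x : G) = 7 := by rw [Subgroup.orderOf_coe]; exact hx
  have hxN : (x : G) ∈ Subgroup.normalizer ((S : Subgroup G) : Set G) := x.2
  generalize (x : G) = x0 at hx7 hxN
  have hxS : x0 ∉ (S : Subgroup G) := by
    intro h
    have h2 : x0 * x0 = 1 := hexp x0 h
    have h3 : orderOf x0 ∣ 2 := orderOf_dvd_of_pow_eq_one (by rw [pow_two]; exact h2)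
    rw [hx7] at h3
    omega
  have hxC : x0 ∉ Subgroup.centralizer ((S : Subgroup G) : Set G) := by
    rw [hcent]; exact hxS
  rw [Subgroup.mem_centralizer_iff] at hxC
  push Not at hxC
  obtain ⟨s, hsS, hsx⟩ := hxC
  have hpowN : ∀ n : ℕ, x0 ^ n ∈ Subgroup.normalizer ((S : Subgroup G) : Set G) :=
    fun n => pow_mem hxN n
  -- the key: distinct conjugates
  have key : ∀ i j : ℕ, i < j → j < 7 →
      x0 ^ i * s * (x0 ^ i)⁻¹ ≠ x0 ^ j * s * (x0 ^ j)⁻¹ := by
    intro i j hij hj7 heq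
    obtain ⟨d, rfl⟩ : ∃ d, j = i + d := ⟨j - i, by omega⟩
    have hd : 0 < d := by omega
    have h1 : s = x0 ^ d * s * (x0 ^ d)⁻¹ := by
      have h := congrArg (fun t => (x0 ^ i)⁻¹ * t * x0 ^ i) heq
      simpa [pow_add, mul_assoc] using h
    have hcomm : Commute (x0 ^ d) s := mul_inv_eq_iff_eq_mul.mp h1.symm
    have hcop : Nat.Coprime d (orderOf x0) := by
      rw [hx7]
      exact ((Nat.Prime.coprime_iff_not_dvd (by norm_num : Nat.Prime 7)).mpr
        (Nat.not_dvd_of_pos_of_lt hd (by omega))).symm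
    obtain ⟨m, hm⟩ := exists_pow_eq_self_of_coprime hcop
    have hc2 : Commute x0 s := by
      rw [← hm]; exact hcomm.pow_left m
    exact hsx hc2.eq.symm
  have hinj : Function.Injective (fun i : Fin 7 => x0 ^ (i : ℕ) * s * (x0 ^ (i : ℕ))⁻¹) := by
    intro i j hij
    by_contra hne
    rcases lt_or_gt_of_ne hne with h | h
    · exact key i j (Fin.lt_def.mp h) j.2 hij
    · exact key j i (Fin.lt_def.mp h) i.2 hij.symm
  have hs1 : s ≠ 1 := by
    rintro rfl
    exact hsx (by rw [one_mul, mul_one])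
  have hsub : Set.range (fun i : Fin 7 => x0 ^ (i : ℕ) * s * (x0 ^ (i : ℕ))⁻¹) ⊆
      ((S : Subgroup G) : Set G) \ {1} := by
    rintro _ ⟨i, rfl⟩
    refine ⟨?_, ?_⟩
    · exact (Subgroup.mem_set_normalizer_iff.mp (hpowN i) s).mp hsS
    · intro h
      rw [Set.mem_singleton_iff, conj_eq_one_iff] at h
      exact hs1 h
  have hcardT : (((S : Subgroup G) : Set G) \ {1}).ncard = 7 := by
    rw [Set.ncard_sdiff_singleton_of_mem (show (1 : G) ∈ ((S : Subgroup G) : Set G) from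
      (S : Subgroup G).one_mem)]
    have h8' : ((S : Subgroup G) : Set G).ncard = 8 := h8
    rw [h8']
  have hcardR : (Set.range (fun i : Fin 7 => x0 ^ (i : ℕ) * s * (x0 ^ (i : ℕ))⁻¹)).ncard = 7 := by
    rw [Set.ncard_range_of_injective hinj]
    simp
  have heqRT := Set.eq_of_subset_of_ncard_le hsub (by rw [hcardT, hcardR])
  have hrep : ∀ t : G, t ∈ (S : Subgroup G) → t ≠ 1 →
      ∃ n : ℕ, x0 ^ n * s * (x0 ^ n)⁻¹ = t := by
    intro t ht ht1
    have hmem : t ∈ ((S : Subgroup G) : Set G) \ {1} := ⟨ht, ht1⟩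
    rw [← heqRT] at hmem
    obtain ⟨i, hi⟩ := hmem
    exact ⟨i, hi⟩
  obtain ⟨i, hi⟩ := hrep u hu hu1
  obtain ⟨j, hj⟩ := hrep v hv hv1
  refine ⟨x0 ^ j * (x0 ^ i)⁻¹, ?_⟩
  rw [← hi, ← hj]
  group

theorem inv_conj {G : Type*} [Group G] [Finite G]
    (hS : ∀ S : Sylow 2 G, Nat.card S = 8 ∧ (∀ x ∈ S, x * x = 1) ∧
      Subgroup.centralizer ((S : Subgroup G) : Set G) = S ∧
      Nat.card (Subgroup.normalizer ((S : Subgroup G) : Set G)) = 168)
    (a b : G) (ha1 : a ≠ 1) (ha2 : a * a = 1) (hb1 : b ≠ 1) (hb2 : b * b = 1) :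
    ∃ g : G, g * a * g⁻¹ = b := by
  have : Fact (Nat.Prime 2) := ⟨Nat.prime_two⟩
  have hoa : orderOf a = 2 := orderOf_eq_prime (by rw [pow_two]; exact ha2) ha1
  have hob : orderOf b = 2 := orderOf_eq_prime (by rw [pow_two]; exact hb2) hb1
  have hpa : IsPGroup 2 (Subgroup.zpowers a) :=
    IsPGroup.of_card (n := 1) (by rw [Nat.card_zpowers, hoa]; norm_num)
  have hpb : IsPGroup 2 (Subgroup.zpowers b) :=
    IsPGroup.of_card (n := 1) (by rw [Nat.card_zpowers, hob]; norm_num)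
  obtain ⟨P, hP⟩ := hpa.exists_le_sylow
  obtain ⟨Q, hQ⟩ := hpb.exists_le_sylow
  obtain ⟨g, hg⟩ := MulAction.exists_smul_eq G P Q
  have haQ : g * a * g⁻¹ ∈ (Q : Subgroup G) := by
    rw [← hg, Sylow.coe_subgroup_smul]
    have h1 : a ∈ (P : Subgroup G) := hP (Subgroup.mem_zpowers a)
    have h2 : MulAut.conj g • a ∈ MulAut.conj g • (P : Subgroup G) :=
      Subgroup.smul_mem_pointwise_smul _ _ _ h1
    simpa [MulAut.smul_def] using h2
  have hne : g * a * g⁻¹ ≠ 1 := by
    intro h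
    rw [conj_eq_one_iff] at h
    exact ha1 h
  obtain ⟨k, hk⟩ := INVCONJb_syl hS Q (g * a * g⁻¹) b haQ hne (hQ (Subgroup.mem_zpowers b)) hb1
  refine ⟨k * g, ?_⟩
  rw [← hk]
  group

end Cfsg.Agent.Lib.Helper48.QB
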