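import Mathlib
import Cfsg.Agent.Lib.Helper72.SCDefs
import Cfsg.Agent.Lib.Helper12.Schmidt

/-!
# Project SC (S4394), piece SCH (helper94): the normal Sylow subgroup of a Schmidt group
-/

set_option autoImplicit false

namespace Cfsg.Agent.Lib.Helper94.SC

open Cfsg.Agent.Lib.Helper72.SC

universe u

/-- a group generated by two elementwise commuting nilpotent subgroups is nilpotent -/
theorem sch_nilp {X : Type*} [Group X] (A B : Subgroup X) [Group.IsNilpotent A]
    [Group.IsNilpotent B] (hcomm : ∀ a ∈ A, ∀ b ∈ B, a * b = b * a) (hAB : A ⊔ B = ⊤) :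
    Group.IsNilpotent X := by
  have hc : ∀ (a : A) (b : B), Commute (A.subtype a) (B.subtype b) :=
    fun a b => hcomm a a.2 b b.2
  have hf : Function.Surjective (MonoidHom.noncommCoprod A.subtype B.subtype hc) := by
    rw [← MonoidHom.range_eq_top, MonoidHom.noncommCoprod_range, Subgroup.range_subtype,
      Subgroup.range_subtype]
    exact hAB
  exact Group.nilpotent_of_surjective _ hf

/-- in a finite nilpotent group elements of coprime prime power orders commute -/
theorem sch_comm {X : Type*} [Group X] [Finite X] (H : Subgroup X) [Group.IsNilpotent H]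
    {p q : ℕ} [Fact p.Prime] [Fact q.Prime] (hpq : p ≠ q) (a b : X) (ha : a ∈ H) (hb : b ∈ H)
    (hap : ∃ n : ℕ, a ^ p ^ n = 1) (hbq : ∃ n : ℕ, b ^ q ^ n = 1) : a * b = b * a := by
  have hsyl : ∀ (r : ℕ) [Fact r.Prime] (x : H), (∃ n : ℕ, x ^ r ^ n = 1) →
      ∃ R : Sylow r H, x ∈ (R : Subgroup H) := by
    intro r hr x ⟨n, hn⟩
    have h1 : orderOf x ∣ r ^ n := orderOf_dvd_of_pow_eq_one hn
    obtain ⟨j, -, hj⟩ := (Nat.dvd_prime_pow hr.out).mp h1
    have h2 : IsPGroup r (Subgroup.zpowers x) :=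
      IsPGroup.of_card (n := j) (by rw [Nat.card_zpowers, hj])
    obtain ⟨R, hR⟩ := h2.exists_le_sylow
    exact ⟨R, hR (Subgroup.mem_zpowers x)⟩
  obtain ⟨Ra, hRa⟩ := hsyl p ⟨a, ha⟩ (by
    obtain ⟨n, hn⟩ := hap
    exact ⟨n, Subtype.ext (by simpa using hn)⟩)
  obtain ⟨Rb, hRb⟩ := hsyl q ⟨b, hb⟩ (by
    obtain ⟨n, hn⟩ := hbq
    exact ⟨n, Subtype.ext (by simpa using hn)⟩)
  have hd : Disjoint (Ra : Subgroup H) (Rb : Subgroup H) :=
    IsPGroup.disjoint_of_ne p q hpq _ _ Ra.2 Rb.2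
  have hc := Subgroup.commute_of_normal_of_disjoint _ _
    (inferInstance : (Ra : Subgroup H).Normal) (inferInstance : (Rb : Subgroup H).Normal) hd _ _
    hRa hRb
  exact congrArg Subtype.val hc.eq

/-- reduction: a cyclic Sylow `q`-subgroup `C`, `q ≠ p`, with `C ⊔ P = ⊤` -/
theorem sch_key (X : Type u) [Group X] [Finite X] (p : ℕ) [Fact p.Prime]
    (hX : Cfsg.IsMinimalNonNilpotent X) (P : Sylow p X) (hPn : (P : Subgroup X).Normal)
    (hP1 : (P : Subgroup X) ≠ ⊥) :
    ∃ (q : ℕ) (_ : Fact q.Prime) (C : Sylow q X), q ≠ p ∧ IsCyclic C ∧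
      (C : Subgroup X) ⊔ P = ⊤ := by
  obtain ⟨p0, q0, hp0, hq0, hne, C, N, hCcyc, hNn, hCN⟩ :=
    Cfsg.Agent.Lib.Helper12.schmidt_structure hX.1 hX.2
  have : Fact p0.Prime := ⟨hp0⟩
  have : Fact q0.Prime := ⟨hq0⟩
  have hp : p.Prime := Fact.out
  have hXN : IsPGroup p0 (X ⧸ (N : Subgroup X)) := by
    intro x
    obtain ⟨x, rfl⟩ := QuotientGroup.mk_surjective x
    have hx : x ∈ (C : Subgroup X) ⊔ N := by
      rw [hCN]
      trivial
    obtain ⟨c, hc, n, hn, rfl⟩ := Subgroup.mem_sup_of_normal_right.mp hx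
    obtain ⟨k, hk⟩ := C.2 ⟨c, hc⟩
    refine ⟨k, ?_⟩
    have hk' : c ^ p0 ^ k = 1 := by
      have := congrArg Subtype.val hk
      simpa using this
    rw [QuotientGroup.mk_mul, (QuotientGroup.eq_one_iff n).mpr hn, mul_one, ← QuotientGroup.mk_pow,
      hk', QuotientGroup.mk_one]
  have hp01 : p = p0 ∨ p = q0 := by
    obtain ⟨a, ha⟩ := IsPGroup.iff_card.mp hXN
    obtain ⟨b, hb⟩ := IsPGroup.iff_card.mp N.2
    obtain ⟨k, hk⟩ := IsPGroup.iff_card.mp P.2
    have hk0 : k ≠ 0 := by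
      rintro rfl
      rw [pow_zero, Subgroup.card_eq_one] at hk
      exact hP1 hk
    have h1 : p ∣ Nat.card X := by
      have h2 : Nat.card (P : Subgroup X) ∣ Nat.card X := Subgroup.card_subgroup_dvd_card _
      rw [hk] at h2
      exact (dvd_pow_self p hk0).trans h2
    rw [Subgroup.card_eq_card_quotient_mul_card_subgroup (N : Subgroup X), ha, hb] at h1
    rcases (Nat.Prime.dvd_mul hp).mp h1 with h | h
    · exact Or.inl ((Nat.prime_dvd_prime_iff_eq hp hp0).mp (hp.dvd_of_dvd_pow h))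
    · exact Or.inr ((Nat.prime_dvd_prime_iff_eq hp hq0).mp (hp.dvd_of_dvd_pow h))
  rcases hp01 with h | h
  · exfalso
    subst h
    have hCP : C = P := by
      have := Sylow.unique_of_normal P hPn
      exact Subsingleton.elim _ _
    subst hCP
    have : Group.IsNilpotent ↥(C : Subgroup X) := C.2.isNilpotent
    have : Group.IsNilpotent ↥(N : Subgroup X) := N.2.isNilpotent
    apply hX.1
    refine sch_nilp (C : Subgroup X) (N : Subgroup X) ?_ hCN
    intro a ha b hb
    exact (Subgroup.commute_of_normal_of_disjoint _ _ hPn hNn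
      (IsPGroup.disjoint_of_ne p q0 hne _ _ C.2 N.2) a b ha hb).eq
  · subst h
    have hNP : N = P := by
      have := Sylow.unique_of_normal P hPn
      exact Subsingleton.elim _ _
    subst hNP
    exact ⟨p0, inferInstance, C, hne, hCcyc, hCN⟩

theorem sch : SchStmt.{u} := by
  intro X _ _ p _ hX P hPn hP1
  obtain ⟨q, hqF, C, hqp, hCcyc, hCP⟩ := sch_key X p hX P hPn hP1
  have := hPn
  obtain ⟨c, hc⟩ := hCcyc.exists_generator
  have hdisj : Disjoint (C : Subgroup X) (P : Subgroup X) :=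
    IsPGroup.disjoint_of_ne q p hqp _ _ C.2 P.2
  have : Group.IsNilpotent ↥(C : Subgroup X) := C.2.isNilpotent
  have : Group.IsNilpotent ↥(P : Subgroup X) := P.2.isNilpotent
  have hPel : ∀ u ∈ (P : Subgroup X), ∃ n : ℕ, u ^ p ^ n = 1 := by
    intro u hu
    obtain ⟨n, hn⟩ := P.2 ⟨u, hu⟩
    refine ⟨n, ?_⟩
    have := congrArg Subtype.val hn
    simpa using this
  have hCel : ∀ d ∈ (C : Subgroup X), ∃ n : ℕ, d ^ q ^ n = 1 := by
    intro d hd
    obtain ⟨n, hn⟩ := C.2 ⟨d, hd⟩
    refine ⟨n, ?_⟩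
    have := congrArg Subtype.val hn
    simpa using this
  have hCpow : ∀ d ∈ (C : Subgroup X), ∃ j : ℕ, d = (c : X) ^ j := by
    intro d hd
    have h1 : (⟨d, hd⟩ : ↥(C : Subgroup X)) ∈ Subgroup.zpowers c := hc _
    rw [← mem_powers_iff_mem_zpowers] at h1
    obtain ⟨j, hj⟩ := (Submonoid.mem_powers_iff _ _).mp h1
    refine ⟨j, ?_⟩
    have := congrArg Subtype.val hj
    simpa using this.symm
  have hy : ∀ (j : ℕ) (u : ↥(P : Subgroup X)),
      (((MulAut.conjNormal (c : X) : MulAut ↥(P : Subgroup X)) ^ j) u : X)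
        = (c : X) ^ j * u * ((c : X) ^ j)⁻¹ := by
    intro j u
    rw [← map_pow]
    exact MulAut.conjNormal_apply _ _
  have hy1 : (MulAut.conjNormal (c : X) : MulAut ↥(P : Subgroup X)) ≠ 1 := by
    intro h1
    apply hX.1
    refine sch_nilp (C : Subgroup X) (P : Subgroup X) ?_ hCP
    intro d hd u hu
    obtain ⟨j, rfl⟩ := hCpow d hd
    have h2 := hy j ⟨u, hu⟩
    rw [h1, one_pow, MulAut.one_apply] at h2
    rw [eq_mul_inv_iff_mul_eq] at h2
    exact h2.symm
  have hcomm : ∀ H : Subgroup X, H ≠ ⊤ → ∀ d ∈ (C : Subgroup X), d ∈ H →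
      ∀ u ∈ (P : Subgroup X), u ∈ H → d * u = u * d := by
    intro H hH d hdC hdH u huP huH
    have := hX.2 H hH
    exact sch_comm H hqp d u hdH huH (hCel d hdC) (hPel u huP)
  have hcX : (c : X) ≠ 1 := by
    intro h
    apply hy1
    rw [h, map_one]
  have hqc : q ∣ orderOf (c : X) := by
    obtain ⟨n, hn⟩ := hCel (c : X) c.2
    have h1 : orderOf (c : X) ∣ q ^ n := orderOf_dvd_of_pow_eq_one hn
    obtain ⟨j, -, hj⟩ := (Nat.dvd_prime_pow hqF.out).mp h1
    have hj0 : j ≠ 0 := by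
      rintro rfl
      rw [pow_zero, orderOf_eq_one_iff] at hj
      exact hcX hj
    rw [hj]
    exact dvd_pow_self q hj0
  refine ⟨MulAut.conjNormal (c : X), q, hqF.out, hqp, ?_, hy1, ?_⟩
  · -- `y ^ q = 1`
    have hH : (P : Subgroup X) ⊔ Subgroup.zpowers ((c : X) ^ q) ≠ ⊤ := by
      intro hH
      have hcH : (c : X) ∈ (P : Subgroup X) ⊔ Subgroup.zpowers ((c : X) ^ q) := by
        rw [hH]
        trivial
      obtain ⟨u, hu, t, ht, hut⟩ := Subgroup.mem_sup_of_normal_left.mp hcH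
      rw [← mem_powers_iff_mem_zpowers] at ht
      obtain ⟨i, rfl⟩ := (Submonoid.mem_powers_iff _ _).mp ht
      have htC : ((c : X) ^ q) ^ i ∈ (C : Subgroup X) := pow_mem (pow_mem c.2 q) i
      have huC : u ∈ (C : Subgroup X) := by
        have : u = (c : X) * (((c : X) ^ q) ^ i)⁻¹ := eq_mul_inv_of_mul_eq hut
        rw [this]
        exact mul_mem c.2 (inv_mem htC)
      have hu1 : u = 1 := by
        have := hdisj.le_bot (show u ∈ (C : Subgroup X) ⊓ (P : Subgroup X) from ⟨huC, hu⟩)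
        exact (Subgroup.mem_bot).mp this
      rw [hu1, one_mul, ← pow_mul] at hut
      have h3 : (c : X) ^ (q * i) = (c : X) ^ 1 := by rw [hut, pow_one]
      rw [pow_eq_pow_iff_modEq] at h3
      have h4 : q * i ≡ 1 [MOD q] := h3.of_dvd hqc
      have h5 : q ∣ 1 := by
        have h6 : (q * i) % q = 1 % q := h4
        rw [Nat.mul_mod_right] at h6
        exact Nat.dvd_of_mod_eq_zero h6.symm
      exact hqF.out.one_lt.ne' (Nat.dvd_one.mp h5)
    ext u
    rw [hy q u, MulAut.one_apply,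
      hcomm _ hH ((c : X) ^ q) (pow_mem c.2 q)
        (Subgroup.mem_sup_right (Subgroup.mem_zpowers _)) u u.2 (Subgroup.mem_sup_left u.2),
      mul_inv_cancel_right]
  · -- proper invariant subgroups are centralised
    intro K hK hKinv k hk
    have hKj : ∀ j : ℕ, ∀ k0 ∈ K,
        ((MulAut.conjNormal (c : X) : MulAut ↥(P : Subgroup X)) ^ j) k0 ∈ K := by
      intro j
      induction j with
      | zero =>
        intro k0 hk0
        simpa using hk0
      | succ j ih =>
        intro k0 hk0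
        rw [pow_succ', MulAut.mul_apply]
        exact hKinv _ (ih k0 hk0)
    have hnorm : (C : Subgroup X) ≤
        Subgroup.normalizer ((K.map (P : Subgroup X).subtype : Subgroup X) : Set X) := by
      apply Cfsg.Agent.Lib.Helper12.le_normalizer_of_conj_mem
      rintro d hd _ ⟨k0, hk0, rfl⟩
      obtain ⟨j, rfl⟩ := hCpow d hd
      refine ⟨_, hKj j k0 hk0, ?_⟩
      exact hy j k0
    have hH : (C : Subgroup X) ⊔ K.map (P : Subgroup X).subtype ≠ ⊤ := by
      intro hH
      apply hK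
      rw [eq_top_iff]
      intro x _
      have hx : (x : X) ∈ (((C : Subgroup X) ⊔ K.map (P : Subgroup X).subtype : Subgroup X) :
          Set X) := by
        rw [hH]
        trivial
      rw [Subgroup.coe_mul_of_left_le_normalizer_right _ _ hnorm] at hx
      obtain ⟨d, hd, k', hk', hdk⟩ := Set.mem_mul.mp hx
      obtain ⟨k0, hk0, rfl⟩ := hk'
      have hdP : d ∈ (P : Subgroup X) := by
        have : d = (x : X) * ((k0 : X))⁻¹ := eq_mul_inv_of_mul_eq hdk
        rw [this]
        exact mul_mem x.2 (inv_mem k0.2)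
      have hd1 : d = 1 := by
        have := hdisj.le_bot (show d ∈ (C : Subgroup X) ⊓ (P : Subgroup X) from ⟨hd, hdP⟩)
        exact (Subgroup.mem_bot).mp this
      have hxk : x = k0 := by
        apply Subtype.ext
        rw [← hdk, hd1]
        simp
      rw [hxk]
      exact hk0
    have h1 := hcomm _ hH (c : X) c.2 (Subgroup.mem_sup_left c.2) (k : X) k.2
      (Subgroup.mem_sup_right (Subgroup.mem_map_of_mem _ hk))
    apply Subtype.ext
    rw [MulAut.conjNormal_apply, h1, mul_inv_cancel_right]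

end Cfsg.Agent.Lib.Helper94.SC
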